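import Mathlib.RingTheory.MvPolynomial.Basic
import Mathlib.RingTheory.Localization.Integral
import Mathlib.RingTheory.Ideal.MinimalPrime.Localization
import Mathlib.RingTheory.PrincipalIdealDomain
import Mathlib.Algebra.MvPolynomial.Equiv
import Mathlib.Algebra.MvPolynomial.Funext
import Mathlib.RingTheory.Polynomial.Basic
import Mathlib.RingTheory.Polynomial.UniqueFactorization
import Mathlib.RingTheory.UniqueFactorizationDomain.Ideal
import Mathlib.FieldTheory.IsAlgClosed.Basic

/-!
# Lines through a point avoiding a cone of codimension two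
-/

set_option autoImplicit false

universe u v

namespace Groth.Agent.LefPencil

open MvPolynomial

attribute [local instance] Polynomial.algebra Polynomial.isLocalization in
theorem eq_of_comap_C_eq_bot {A : Type*} [CommRing A] [IsDomain A] {p q : Ideal (Polynomial A)} [p.IsPrime] [q.IsPrime]
    (hle : p ≤ q) (hp : p ≠ ⊥) (hq : q.comap Polynomial.C = ⊥) : p = q := by
  let K := FractionRing A
  let M : Submonoid (Polynomial A) := (nonZeroDivisors A).map Polynomial.C
  have hd : ∀ q' : Ideal (Polynomial A), q' ≤ q → Disjoint (M : Set (Polynomial A)) (q' : Set (Polynomial A)) := fun q' h => by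
    rw [Set.disjoint_left]
    rintro _ ⟨m, hm, rfl⟩ hx
    exact nonZeroDivisors.ne_zero hm ((Submodule.mem_bot A).1 (hq ▸ Ideal.mem_comap.2 (h hx)))
  have h1 := IsLocalization.comap_map_of_isPrime_disjoint M (Polynomial K) (I := p) inferInstance (hd p hle)
  have h2 := IsLocalization.comap_map_of_isPrime_disjoint M (Polynomial K) (I := q) inferInstance (hd q le_rfl)
  have hP1 := IsLocalization.isPrime_of_isPrime_disjoint M (Polynomial K) p inferInstance (hd p hle)
  have hP2 := IsLocalization.isPrime_of_isPrime_disjoint M (Polynomial K) q inferInstance (hd q le_rfl)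
  have hne : p.map (algebraMap (Polynomial A) (Polynomial K)) ≠ ⊥ := fun h => hp <| by
    rw [eq_bot_iff]
    intro x hx
    have hxm := Ideal.mem_map_of_mem (algebraMap (Polynomial A) (Polynomial K)) hx
    rw [h, Ideal.mem_bot] at hxm
    refine (Submodule.mem_bot _).2 (Polynomial.map_injective (algebraMap A K) (IsFractionRing.injective A K) ?_)
    rw [Polynomial.map_zero]
    exact hxm
  haveI := hP1
  haveI := IsPrime.to_maximal_ideal hne
  rw [← h1, ← h2, Ideal.IsMaximal.eq_of_le inferInstance hP2.ne_top (Ideal.map_mono hle)]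

variable {k : Type u} [Field k] {τ : Type v}

theorem eq_of_comap_rename_eq_bot {p q : Ideal (MvPolynomial (Option τ) k)} [p.IsPrime] [q.IsPrime] (hle : p ≤ q)
    (hp : p ≠ ⊥) (hq : q.comap (rename (R := k) (some : τ → Option τ)) = ⊥) : p = q := by
  let e := (optionEquivLeft k τ).toRingEquiv
  have hC : ∀ a : MvPolynomial τ k, e.symm (Polynomial.C a) = rename some a := fun a => by
    apply e.injective
    rw [RingEquiv.apply_symm_apply]
    induction a using MvPolynomial.induction_on with
    | C c => simp [e, optionEquivLeft_C]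
    | add a b ha hb => simp only [map_add, ha, hb]
    | mul_X a i ha => simp only [map_mul, ← ha]; simp [e, optionEquivLeft_X_some]
  have h := eq_of_comap_C_eq_bot (p := p.comap e.symm) (q := q.comap e.symm) (Ideal.comap_mono hle)
    (fun h => hp <| by
      rw [eq_bot_iff]
      intro x hx
      have h1 : e x ∈ p.comap e.symm := by simpa [Ideal.mem_comap] using hx
      rw [h, Ideal.mem_bot] at h1
      exact e.injective (h1.trans (map_zero e).symm))
    (by
      rw [eq_bot_iff]
      intro a ha
      rw [Ideal.mem_comap, Ideal.mem_comap, hC] at ha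
      exact hq.le (Ideal.mem_comap.2 ha))
  ext x
  have := SetLike.ext_iff.1 h (e x)
  simpa [Ideal.mem_comap] using this

variable {σ : Type v} [DecidableEq σ]

/-- Coordinates in which the point is the first basis vector. -/
noncomputable def pointEquiv (h : σ → k) (s₀ : σ) (hs₀ : h s₀ ≠ 0) :
    MvPolynomial σ k ≃ₐ[k] MvPolynomial (Option {s // s ≠ s₀}) k :=
  AlgEquiv.ofAlgHom
    (aeval fun s => C (h s) * X none + if hs : s = s₀ then 0 else X (some ⟨s, hs⟩))
    (aeval fun o => o.elim (C (h s₀)⁻¹ * X s₀) fun s => X s.1 - C (h s.1 * (h s₀)⁻¹) * X s₀)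
    (algHom_ext fun o => by
      cases o with
      | none =>
        have hi : (C (h s₀)⁻¹ : MvPolynomial (Option {s // s ≠ s₀}) k) * C (h s₀) = 1 := by
          rw [← map_mul, inv_mul_cancel₀ hs₀, map_one]
        simp [← mul_assoc, hi]
      | some s =>
        have hi : (C (h s₀)⁻¹ : MvPolynomial (Option {s // s ≠ s₀}) k) * C (h s₀) = 1 := by
          rw [← map_mul, inv_mul_cancel₀ hs₀, map_one]
        simp [s.2]
        linear_combination (-(C (h s.1) * X none)) * hi)
    (algHom_ext fun s => by
      by_cases hs : s = s₀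
      · subst hs
        have hi : (C (h s) : MvPolynomial σ k) * C (h s)⁻¹ = 1 := by
          rw [← map_mul, mul_inv_cancel₀ hs₀, map_one]
        simp [← mul_assoc, hi]
      · simp [hs, mul_assoc])

theorem eval_pointEquiv (h : σ → k) (s₀ : σ) (hs₀ : h s₀ ≠ 0) (p : MvPolynomial σ k) (t : k) (y : {s // s ≠ s₀} → k) :
    eval (fun o : Option {s // s ≠ s₀} => o.elim t y) (pointEquiv h s₀ hs₀ p) =
      eval (fun s => t * h s + if hs : s = s₀ then 0 else y ⟨s, hs⟩) p := by
  induction p using MvPolynomial.induction_on with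
  | C c => simp [pointEquiv]
  | add p q hp hq => simp only [map_add, hp, hq]
  | mul_X p s hp =>
    simp only [map_mul, hp]
    congr 1
    rw [eval_X, pointEquiv, AlgEquiv.ofAlgHom_apply, aeval_X, map_add, map_mul, eval_C, eval_X]
    split_ifs with hs
    · rw [map_zero]; exact congrArg (· + 0) (mul_comm _ _)
    · rw [eval_X]; exact congrArg₂ (· + ·) (mul_comm _ _) rfl

variable [Fintype σ]

/-- A cone whose equations meet the functions constant along the point is avoided by most lines through the point. -/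
theorem exists_poly_avoid (h : σ → k) (s₀ : σ) (hs₀ : h s₀ ≠ 0) (J : Ideal (MvPolynomial σ k))
    (hJ : ∀ P : Ideal (MvPolynomial σ k), P.IsPrime → J ≤ P →
      (P.comap (pointEquiv h s₀ hs₀).symm).comap (rename (R := k) (some : {s // s ≠ s₀} → Option {s // s ≠ s₀})) ≠ ⊥)
    (W : (σ → k) → Prop) (hW : ∀ a, W a → ∀ p ∈ J, eval a p = 0) (hscale : ∀ a (c : k), c ≠ 0 → W a → W (c • a))
    (hh : ¬ W h) :
    ∃ p : MvPolynomial σ k, p ≠ 0 ∧ ∀ g, eval g p ≠ 0 → ∀ s t : k, (s ≠ 0 ∨ t ≠ 0) → ¬ W (s • h + t • g) := by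
  let e := pointEquiv h s₀ hs₀
  let ρ : MvPolynomial {s // s ≠ s₀} k →+* MvPolynomial (Option {s // s ≠ s₀}) k := (rename some).toRingHom
  have hne : (J.comap e.symm).comap ρ ≠ ⊥ := by
    intro hbot
    have hmin : (⊥ : Ideal (MvPolynomial {s // s ≠ s₀} k)) ∈ ((J.comap e.symm).comap ρ).minimalPrimes := by
      rw [hbot, Ideal.minimalPrimes_eq_subsingleton_self]
      exact Set.mem_singleton _
    obtain ⟨P', hP', hle, hP'0⟩ := Ideal.exists_comap_eq_of_mem_minimalPrimes ρ ⊥ hmin
    refine hJ (P'.comap e) inferInstance (fun x hx => ?_) ?_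
    · have : e x ∈ J.comap e.symm := by simpa [Ideal.mem_comap] using hx
      exact hle this
    · rw [eq_bot_iff]
      intro a ha
      refine hP'0.le (Ideal.mem_comap.2 ?_)
      have := Ideal.mem_comap.1 (Ideal.mem_comap.1 (Ideal.mem_comap.1 ha))
      rwa [AlgEquiv.apply_symm_apply] at this
  obtain ⟨q, hq, hq0⟩ := Submodule.exists_mem_ne_zero_of_ne_bot hne
  rw [Ideal.mem_comap, Ideal.mem_comap] at hq
  -- the equation, constant along the point
  have hval : ∀ (t : k) (y : {s // s ≠ s₀} → k),
      eval (fun s => t * h s + if hs : s = s₀ then 0 else y ⟨s, hs⟩) (e.symm (ρ q)) = eval y q := fun t y => by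
    rw [← eval_pointEquiv h s₀ hs₀, AlgEquiv.apply_symm_apply]
    show eval _ (rename some q) = _
    rw [eval_rename]
    rfl
  let π : (σ → k) → ({s // s ≠ s₀} → k) := fun g s => g s.1 - g s₀ / h s₀ * h s.1
  have hg : ∀ g : σ → k, g = fun s => g s₀ / h s₀ * h s + if hs : s = s₀ then 0 else π g ⟨s, hs⟩ := fun g => funext fun s => by
    by_cases hs : s = s₀
    · subst hs; simp [div_mul_cancel₀ _ hs₀]
    · simp [hs, π]
  refine ⟨e.symm (ρ q), ?_, fun g hgq s t hst hmem => ?_⟩
  · intro h0
    refine hq0 (rename_injective some (Option.some_injective _) ?_)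
    rw [map_zero]
    exact (map_eq_zero_iff _ e.symm.injective).1 h0
  by_cases ht : t = 0
  · subst ht
    refine hh ?_
    have hs : s ≠ 0 := hst.elim id fun h => absurd rfl h
    have := hscale _ s⁻¹ (inv_ne_zero hs) hmem
    rwa [zero_smul, add_zero, inv_smul_smul₀ hs] at this
  refine hgq ?_
  have hmem' := hW _ (hscale _ t⁻¹ (inv_ne_zero ht) hmem) _ hq
  rw [smul_add, inv_smul_smul₀ ht] at hmem'
  rw [hg g, hval] 
  rw [hg (t⁻¹ • s • h + g), hval] at hmem'
  have : π (t⁻¹ • s • h + g) = π g := funext fun u => by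
    simp only [π, Pi.add_apply, Pi.smul_apply, smul_eq_mul]
    field_simp
    ring
  rwa [this] at hmem'

/-- Binary restriction: a polynomial vanishing at the origin vanishes at another point of each plane. -/
theorem exists_zero_on_plane [IsAlgClosed k] (p : MvPolynomial σ k) (hp : eval 0 p = 0) (f g : σ → k) :
    ∃ s t : k, (s ≠ 0 ∨ t ≠ 0) ∧ eval (s • f + t • g) p = 0 := by
  classical
  by_contra! hcon
  let φ : k → Polynomial k := fun c => aeval (fun s => Polynomial.X * Polynomial.C (f s) + Polynomial.C (c * g s)) p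
  have hφ : ∀ c s, (φ c).eval s = eval (s • f + c • g) p := fun c s => by
    rw [← Polynomial.coe_aeval_eq_eval, comp_aeval_apply, aeval_eq_eval]
    refine congrArg (fun x => eval x p) (funext fun u => ?_)
    simp
    ring
  let ψ : k → Polynomial k := fun s => aeval (fun u => Polynomial.C (s * f u) + Polynomial.X * Polynomial.C (g u)) p
  have hψ : ∀ s c, (ψ s).eval c = eval (s • f + c • g) p := fun s c => by
    rw [← Polynomial.coe_aeval_eq_eval, comp_aeval_apply, aeval_eq_eval]
    refine congrArg (fun x => eval x p) (funext fun u => ?_)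
    simp
    ring
  have hconst : ∀ c, c ≠ 0 → (ψ 1).eval c = (ψ 0).eval c := fun c hc => by
    have hdeg : (φ c).degree ≤ 0 := by
      by_contra! hd
      obtain ⟨s, hs⟩ := IsAlgClosed.exists_root (φ c) hd.ne'
      rw [Polynomial.IsRoot, hφ] at hs
      exact hcon s c (Or.inr hc) hs
    rw [hψ, hψ, ← hφ, ← hφ, Polynomial.eq_C_of_degree_le_zero hdeg, Polynomial.eval_C, Polynomial.eval_C]
  have heq : ψ 1 = ψ 0 := Polynomial.eq_of_infinite_eval_eq _ _
    (((Set.finite_singleton (0 : k)).infinite_compl).mono fun c hc => hconst c hc)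
  refine hcon 1 0 (Or.inl one_ne_zero) ?_
  rw [← hψ, heq, hψ]
  simpa using hp

end Groth.Agent.LefPencil
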