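import Groth.Agent.LefPencil.OneOrd

/-!
# Transversality of the base locus of a pencil
-/

set_option autoImplicit false

universe u

open CategoryTheory CategoryTheory.Limits AlgebraicGeometry TopologicalSpace Opposite

namespace Groth.Agent.LefPencil

attribute [local instance] LefDual.pieceAlg

section Algebra

variable {k : Type u} [Field k] {B : Type u} [CommRing B] [Algebra k B]

/-- Two functions vanishing at a point of a curve are dependent to first order there. -/
theorem exists_dependent [IsNoetherianRing B] (P : Ideal B) [P.IsMaximal]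
    (φ : Localization.AtPrime P →ₐ[k] MvPolynomial (Fin 1) k ⧸ mv k 1 ^ 3) (hφ : IsChart φ) {g g' : B} (hg : g ∈ P) (hg' : g' ∈ P) :
    ∃ s t : k, (s ≠ 0 ∨ t ≠ 0) ∧ algebraMap k B s * g + algebraMap k B t * g' ∈ P ^ 2 := by
  have hlin : ∀ x ∈ P, ∃ α : Fin 1 → k, φ (algebraMap B _ x) - Ideal.Quotient.mk _ (lin α) ∈
      (mv k 1 ^ 2).map (Ideal.Quotient.mk (mv k 1 ^ 3)) := fun x hx => by
    obtain ⟨p, hp, hpx⟩ := (Ideal.mem_map_iff_of_surjective _ Ideal.Quotient.mk_surjective).1
      ((mem_max_iff (Ideal.pow_le_self (by norm_num)) φ hφ.1 _).1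
        ((IsLocalization.AtPrime.to_map_mem_maximal_iff (Localization.AtPrime P) P x).2 hx))
    obtain ⟨α, hα⟩ := exists_lin hp
    exact ⟨α, by rw [← hpx, ← map_sub]; exact Ideal.mem_map_of_mem _ hα⟩
  obtain ⟨α, hα⟩ := hlin g hg
  obtain ⟨β, hβ⟩ := hlin g' hg'
  obtain ⟨s, t, hst, hzero⟩ : ∃ s t : k, (s ≠ 0 ∨ t ≠ 0) ∧ s * α 0 + t * β 0 = 0 := by
    by_cases h : α 0 = 0
    · exact ⟨1, 0, Or.inl one_ne_zero, by rw [h]; ring⟩
    · exact ⟨-(β 0), α 0, Or.inr h, by ring⟩
  refine ⟨s, t, hst, ?_⟩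
  have hsq : ∀ x, φ x ∈ (mv k 1 ^ 2).map (Ideal.Quotient.mk (mv k 1 ^ 3)) → x ∈ IsLocalRing.maximalIdeal _ ^ 2 := fun x hx => by
    have h0 : (mv k 1).map (Ideal.Quotient.mk (mv k 1 ^ 3)) ≤ (IsLocalRing.maximalIdeal (Localization.AtPrime P)).map φ := fun y hy => by
      obtain ⟨z, rfl⟩ := hφ.1 y
      exact Ideal.mem_map_of_mem _ ((mem_max_iff (Ideal.pow_le_self (by norm_num)) φ hφ.1 z).2 hy)
    rw [Ideal.map_pow] at hx
    have h2 := Ideal.pow_right_mono h0 2 hx
    rw [← Ideal.map_pow] at h2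
    obtain ⟨z, hz, hzx⟩ := (Ideal.mem_map_iff_of_surjective φ hφ.1).1 h2
    have h3 : x - z ∈ IsLocalRing.maximalIdeal _ ^ 3 := by rw [← hφ.2, RingHom.mem_ker, map_sub, hzx, sub_self]
    simpa using add_mem (Ideal.pow_le_pow_right (by norm_num : 2 ≤ 3) h3) hz
  refine (algebraMap_mem_sq_iff P _).1 (hsq _ ?_)
  have h := add_mem (Ideal.mul_mem_left _ (algebraMap k _ s) hα) (Ideal.mul_mem_left _ (algebraMap k _ t) hβ)
  refine (congrArg (· ∈ (mv k 1 ^ 2).map (Ideal.Quotient.mk (mv k 1 ^ 3))) ?_).mp h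
  have e : algebraMap k (MvPolynomial (Fin 1) k ⧸ mv k 1 ^ 3) s * Ideal.Quotient.mk _ (lin α) +
      algebraMap k (MvPolynomial (Fin 1) k ⧸ mv k 1 ^ 3) t * Ideal.Quotient.mk _ (lin β) = 0 := by
    rw [show algebraMap k (MvPolynomial (Fin 1) k ⧸ mv k 1 ^ 3) s = Ideal.Quotient.mk _ (MvPolynomial.C s) from rfl,
      show algebraMap k (MvPolynomial (Fin 1) k ⧸ mv k 1 ^ 3) t = Ideal.Quotient.mk _ (MvPolynomial.C t) from rfl,
      ← map_mul, ← map_mul, ← map_add,
      show MvPolynomial.C s * lin α + MvPolynomial.C t * lin β = MvPolynomial.C (s * α 0 + t * β 0) * MvPolynomial.X 0 by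
        simp [lin]; ring, hzero, map_zero, zero_mul, map_zero]
  simp only [map_add, map_mul, ← IsScalarTower.algebraMap_apply, AlgHom.commutes]
  linear_combination -e

variable [IsAlgClosed k]

/-- Cutting twice. -/
theorem locally_quotient_pair_iff [Algebra.Smooth k B] {m : ℕ}
    (hloc : RingHom.Locally (RingHom.IsStandardSmoothOfRelativeDimension (m + 2)) (algebraMap k B)) (g g' : B)
    (hgood : ∀ P : Ideal B, P.IsMaximal → g ∉ P ^ 2) :
    RingHom.Locally (RingHom.IsStandardSmoothOfRelativeDimension m) (algebraMap k (B ⧸ Ideal.span {g, g'})) ↔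
      ∀ (P : Ideal B), P.IsMaximal → g ∈ P → g' ∈ P → ∀ c : k, g' - algebraMap k B c * g ∉ P ^ 2 := by
  let B₁ := B ⧸ Ideal.span {g}
  have h1 := LefDual.locally_quotient_of_good hloc g hgood
  haveI : Algebra.Smooth k B₁ := by
    have h2 : SmoothOfRelativeDimension (m + 1) (Spec.map (CommRingCat.ofHom (algebraMap k B₁))) :=
      (HasRingHomProperty.Spec_iff (P := @SmoothOfRelativeDimension (m + 1))).2 h1
    have h3 : Smooth (Spec.map (CommRingCat.ofHom (algebraMap k B₁))) := SmoothOfRelativeDimension.smooth (m + 1) _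
    exact RingHom.smooth_algebraMap.1 ((HasRingHomProperty.Spec_iff (P := @Smooth)).1 h3)
  let E : ((B ⧸ Ideal.span {g}) ⧸ Ideal.span {Ideal.Quotient.mk (Ideal.span {g}) g'}) ≃ₐ[k] B ⧸ Ideal.span {g, g'} :=
    (Ideal.quotientEquivAlgOfEq k (by rw [Ideal.map_span, Set.image_singleton]; rfl)).trans
      ((DoubleQuot.quotQuotEquivQuotSupₐ k (Ideal.span {g}) (Ideal.span {g'})).trans
        (Ideal.quotientEquivAlgOfEq k (Ideal.span_insert g {g'}).symm))
  have hE : RingHom.Locally (RingHom.IsStandardSmoothOfRelativeDimension m) (algebraMap k (B ⧸ Ideal.span {g, g'})) ↔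
      RingHom.Locally (RingHom.IsStandardSmoothOfRelativeDimension m)
        (algebraMap k (B₁ ⧸ Ideal.span {Ideal.Quotient.mk (Ideal.span {g}) g'})) := by
    have hresp := RingHom.locally_respectsIso (RingHom.isStandardSmoothOfRelativeDimension_respectsIso (n := m))
    constructor
    · intro h
      have := hresp.1 (algebraMap k _) E.symm.toRingEquiv h
      rwa [show E.symm.toRingEquiv.toRingHom.comp (algebraMap k _) = algebraMap k _ from
        RingHom.ext E.symm.commutes] at this
    · intro h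
      have := hresp.1 (algebraMap k _) E.toRingEquiv h
      rwa [show E.toRingEquiv.toRingHom.comp (algebraMap k _) = algebraMap k _ from RingHom.ext E.commutes] at this
  have hmem : ∀ (P : Ideal B), P.IsMaximal → g ∈ P →
      (Ideal.Quotient.mk (Ideal.span {g}) g' ∈ P.map (Ideal.Quotient.mk (Ideal.span {g})) ^ 2 ↔
        ∃ c : k, g' - algebraMap k B c * g ∈ P ^ 2) := by
    intro P hP hgP
    rw [← Ideal.map_pow, Ideal.mem_quotient_iff_mem_sup]
    constructor
    · intro h
      obtain ⟨w, hw, z, hz, hwz⟩ := Submodule.mem_sup.1 h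
      obtain ⟨u, rfl⟩ := Ideal.mem_span_singleton'.1 hz
      obtain ⟨χ, hχ⟩ := LefDual.exists_point (k := k) P
      refine ⟨χ u, ?_⟩
      rw [show g' - algebraMap k B (χ u) * g = w + (u - algebraMap k B (χ u)) * g by rw [← hwz]; ring, pow_two]
      exact add_mem (pow_two P ▸ hw) (Ideal.mul_mem_mul (by rw [hχ]; simp) hgP)
    · rintro ⟨c, hc⟩
      exact Submodule.mem_sup.2 ⟨_, hc, algebraMap k B c * g,
        Ideal.mul_mem_left _ _ (Ideal.mem_span_singleton_self g), sub_add_cancel _ _⟩
  rw [hE]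
  constructor
  · intro h P hP hgP hg'P c hbad
    haveI : (P.map (Ideal.Quotient.mk (Ideal.span {g}))).IsMaximal :=
      Ideal.IsMaximal.map_of_surjective_of_ker_le Ideal.Quotient.mk_surjective
        (by rw [Ideal.mk_ker]; exact (Ideal.span_singleton_le_iff_mem _).2 hgP)
    exact LefDual.not_locally_quotient_of_bad h1 _ _ ((hmem P hP hgP).2 ⟨c, hbad⟩) h
  · intro h
    refine LefDual.locally_quotient_of_good h1 _ fun P₁ hP₁ hbad => ?_
    haveI := hP₁
    have hgP : g ∈ P₁.comap (Ideal.Quotient.mk (Ideal.span {g})) := by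
      rw [Ideal.mem_comap, Ideal.Quotient.eq_zero_iff_mem.2 (Ideal.mem_span_singleton_self g)]
      exact zero_mem _
    have hg'P : g' ∈ P₁.comap (Ideal.Quotient.mk (Ideal.span {g})) := Ideal.mem_comap.2 (Ideal.pow_le_self two_ne_zero hbad)
    have hmax : (P₁.comap (Ideal.Quotient.mk (Ideal.span {g}))).IsMaximal :=
      Ideal.comap_isMaximal_of_surjective _ Ideal.Quotient.mk_surjective
    obtain ⟨c, hc⟩ := (hmem _ hmax hgP).1 (by rwa [Ideal.map_comap_of_surjective _ Ideal.Quotient.mk_surjective])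
    exact h _ hmax hgP hg'P c hc

end Algebra

variable {k : Type u} [Field k] {r : ℕ} {X : Scheme.{u}} (ι : X ⟶ CohB1.ProjSpace r k) {d : ℕ}

theorem pform_add (j : Fin (r + 1)) (F G : LefPen.Form r k d) :
    LefDual.pform ι j (F + G) = LefDual.pform ι j F + LefDual.pform ι j G := by
  simp only [LefDual.pform_eq_aeval, Submodule.coe_add, map_add]

theorem pform_smul (j : Fin (r + 1)) (c : k) (G : LefPen.Form r k d) :
    LefDual.pform ι j (c • G) = algebraMap k _ c * LefDual.pform ι j G := by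
  simp only [LefDual.pform_eq_aeval, Submodule.coe_smul, Algebra.smul_def, map_mul, AlgHom.commutes]

/-- A point of the base locus where the members are dependent to first order. -/
def BadBase (F G : LefPen.Form r k d) : Prop :=
  ∃ (j : Fin (r + 1)) (P : Ideal Γ(X, BertiniHyp.piece ι j)), P.IsMaximal ∧
    LefDual.pform ι j F ∈ P ∧ LefDual.pform ι j G ∈ P ∧
    ∃ s t : k, (s ≠ 0 ∨ t ≠ 0) ∧ LefDual.pform ι j (s • F + t • G) ∈ P ^ 2

theorem secIdeal_pair_piece [IsAffineHom ι] (F G : LefPen.Form r k d) (j : Fin (r + 1)) :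
    (LefPen.secIdeal ι ({F, G} : Set (LefPen.Form r k d))).ideal (LefDual.pieceAff ι j) =
      Ideal.span {LefDual.pform ι j F, LefDual.pform ι j G} := by
  have h : LefPen.secIdeal ι ({F, G} : Set (LefPen.Form r k d)) =
      LefPen.secIdeal ι ({F} : Set (LefPen.Form r k d)) ⊔ LefPen.secIdeal ι ({G} : Set (LefPen.Form r k d)) := by
    simp only [LefPen.secIdeal, iSup_insert, iSup_singleton, Scheme.IdealSheafData.comap_sup]
  rw [h, Scheme.IdealSheafData.ideal_sup, Pi.sup_apply, LefDual.secIdeal_piece, LefDual.secIdeal_piece, Ideal.span_insert]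
  rfl

variable [IsAlgClosed k] [IsClosedImmersion ι]

/-- Transversality of the base locus, given a good member. -/
theorem transversal_two_iff {m : ℕ} [SmoothOfRelativeDimension (m + 1) (ι ≫ CohB1.ProjSpace.toSpec r k)]
    (F G : LefPen.Form r k d) (c : k) (hc : ¬ LefDual.Bad ι (F + c • G)) :
    LefPen.Transversal k (m + 1) 2 (LefPen.secToSpec ι ({F, G} : Set (LefPen.Form r k d))) ↔ ¬ BadBase ι F G := by
  haveI : Smooth (ι ≫ CohB1.ProjSpace.toSpec r k) := SmoothOfRelativeDimension.smooth (m + 1) _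
  haveI := fun j => LefDual.piece_smooth ι j
  haveI := fun j => LefDual.finiteType_piece ι j
  let I := LefPen.secIdeal ι ({F, G} : Set (LefPen.Form r k d))
  let J : ∀ j, Ideal Γ(X, BertiniHyp.piece ι j) := fun j => I.ideal (LefDual.pieceAff ι j)
  have hJ : ∀ j, J j = Ideal.span {LefDual.pform ι j F, LefDual.pform ι j G} := fun j => secIdeal_pair_piece ι F G j
  have hcover : ⨆ j, (I.subschemeCover.f (LefDual.pieceAff ι j)).opensRange = ⊤ := by
    have h1 : ⨆ j, (LefDual.pieceAff ι j).1 = ⊤ := LefDual.iSup_piece ι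
    simp only [Scheme.IdealSheafData.opensRange_subschemeCover_map, ← Scheme.Hom.preimage_iSup, h1, Scheme.Hom.preimage_top]
  have hspec : ∀ j, I.subschemeCover.f (LefDual.pieceAff ι j) ≫ LefPen.secToSpec ι ({F, G} : Set (LefPen.Form r k d)) =
      Spec.map (CommRingCat.ofHom (algebraMap k (Γ(X, BertiniHyp.piece ι j) ⧸ J j))) := fun j => by
    rw [← Category.assoc, show I.subschemeCover.f (LefDual.pieceAff ι j) ≫ LefPen.secι ι {F, G} =
      Spec.map (CommRingCat.ofHom (Ideal.Quotient.mk (I.ideal (LefDual.pieceAff ι j)))) ≫ (LefDual.pieceAff ι j).2.fromSpec from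
        (Scheme.IdealSheafData.subschemeCover_map_subschemeι I _).trans (I.glueDataObjι_ι _)]
    refine (Category.assoc _ _ _).trans ?_
    rw [LefDual.fromSpec_piece]
    exact (Spec.map_comp _ _).symm
  have hempty : IsEmpty (LefPen.Sec ι ({F, G} : Set (LefPen.Form r k d))) ↔
      ∀ j (P : Ideal Γ(X, BertiniHyp.piece ι j)), P.IsMaximal → LefDual.pform ι j F ∈ P → LefDual.pform ι j G ∈ P → False := by
    constructor
    · intro h j P hP hF hG
      have hle : J j ≤ P := by rw [hJ, Ideal.span_le, Set.pair_subset_iff]; exact ⟨hF, hG⟩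
      haveI := hP
      exact h.false ((I.subschemeCover.f (LefDual.pieceAff ι j)) (⟨P.map (Ideal.Quotient.mk (J j)),
        Ideal.map_isPrime_of_surjective Ideal.Quotient.mk_surjective (by rw [Ideal.mk_ker]; exact hle)⟩ :
        PrimeSpectrum (Γ(X, BertiniHyp.piece ι j) ⧸ J j)))
    · intro h
      refine ⟨fun y => ?_⟩
      obtain ⟨j, hj⟩ := Opens.mem_iSup.1 (hcover.symm ▸ trivial : y ∈ ⨆ j, (I.subschemeCover.f (LefDual.pieceAff ι j)).opensRange)
      obtain ⟨q, -⟩ := hj
      have q' : PrimeSpectrum (Γ(X, BertiniHyp.piece ι j) ⧸ J j) := q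
      obtain ⟨P, hP, hle⟩ := Ideal.exists_le_maximal (q'.asIdeal.comap (Ideal.Quotient.mk (J j))) Ideal.IsPrime.ne_top'
      have hJP : J j ≤ P := le_trans (by rw [← Ideal.map_le_iff_le_comap, Ideal.map_quotient_self]; exact bot_le) hle
      rw [hJ, Ideal.span_le, Set.pair_subset_iff] at hJP
      exact h j P hP hJP.1 hJP.2
  rcases Nat.eq_zero_or_pos m with rfl | hm
  · have hT : LefPen.Transversal k 1 2 (LefPen.secToSpec ι ({F, G} : Set (LefPen.Form r k d))) ↔
        IsEmpty (LefPen.Sec ι ({F, G} : Set (LefPen.Form r k d))) := by simp [LefPen.Transversal]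
    rw [hT, hempty]
    constructor
    · rintro h ⟨j, P, hP, hF, hG, -⟩
      exact h j P hP hF hG
    · intro h j P hP hF hG
      haveI := hP
      haveI : IsNoetherianRing Γ(X, BertiniHyp.piece ι j) := Algebra.FiniteType.isNoetherianRing k _
      obtain ⟨φ, hφ⟩ := exists_chart_dim ι (n := 1) j P
      obtain ⟨s, t, hst, hmem⟩ := exists_dependent P φ hφ hF hG
      exact h ⟨j, P, hP, hF, hG, s, t, hst, by rwa [pform_add, pform_smul, pform_smul]⟩
  obtain ⟨m', rfl⟩ : ∃ m', m = m' + 1 := ⟨m - 1, by omega⟩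
  have hT : LefPen.Transversal k (m' + 1 + 1) 2 (LefPen.secToSpec ι ({F, G} : Set (LefPen.Form r k d))) ↔
      SmoothOfRelativeDimension m' (LefPen.secToSpec ι ({F, G} : Set (LefPen.Form r k d))) := by
    have : ¬ (m' + 1 + 1 < 2) := by omega
    simp [LefPen.Transversal, this]
  rw [hT]
  have hpair : ∀ j, J j = Ideal.span {LefDual.pform ι j (F + c • G), LefDual.pform ι j G} := fun j => by
    rw [hJ, pform_add, pform_smul, Ideal.span_pair_add_mul_right]
  have hgood : ∀ j (P : Ideal Γ(X, BertiniHyp.piece ι j)), P.IsMaximal → LefDual.pform ι j (F + c • G) ∉ P ^ 2 :=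
    fun j P hP h => hc ⟨j, P, hP, h⟩
  have hbase : BadBase ι F G ↔ ∃ (j : Fin (r + 1)) (P : Ideal Γ(X, BertiniHyp.piece ι j)), P.IsMaximal ∧
      LefDual.pform ι j (F + c • G) ∈ P ∧ LefDual.pform ι j G ∈ P ∧
      ∃ e : k, LefDual.pform ι j G - algebraMap k _ e * LefDual.pform ι j (F + c • G) ∈ P ^ 2 := by
    constructor
    · rintro ⟨j, P, hP, hF, hG, s, t, hst, hbad⟩
      refine ⟨j, P, hP, by rw [pform_add, pform_smul]; exact add_mem hF (Ideal.mul_mem_left _ _ hG), hG, ?_⟩
      have hu : t - s * c ≠ 0 := by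
        intro hu
        obtain rfl : t = s * c := sub_eq_zero.1 hu
        have hs : s ≠ 0 := hst.elim id left_ne_zero_of_mul
        refine hgood j P hP ?_
        have e : LefDual.pform ι j (F + c • G) = algebraMap k _ s⁻¹ * LefDual.pform ι j (s • F + (s * c) • G) := by
          rw [← pform_smul, smul_add, smul_smul, smul_smul, ← mul_assoc, inv_mul_cancel₀ hs, one_smul, one_mul]
        rw [e]; exact Ideal.mul_mem_left _ _ hbad
      refine ⟨-(s / (t - s * c)), ?_⟩
      have e : algebraMap k _ (t - s * c)⁻¹ * LefDual.pform ι j (s • F + t • G) =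
          LefDual.pform ι j G - algebraMap k _ (-(s / (t - s * c))) * LefDual.pform ι j (F + c • G) := by
        simp only [pform_add, pform_smul, map_neg, neg_mul, sub_neg_eq_add, div_eq_mul_inv, map_mul]
        have h1 : algebraMap k Γ(X, BertiniHyp.piece ι j) (t - s * c)⁻¹ * (algebraMap k _ t - algebraMap k _ s * algebraMap k _ c) = 1 := by
          rw [← map_mul, ← map_sub, ← map_mul, inv_mul_cancel₀ hu, map_one]
        linear_combination (LefDual.pform ι j G) * h1
      rw [← e]; exact Ideal.mul_mem_left _ _ hbad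
    · rintro ⟨j, P, hP, hh, hG, e, hbad⟩
      have hF : LefDual.pform ι j F ∈ P := by
        have := sub_mem hh (Ideal.mul_mem_left _ (algebraMap k _ c) hG)
        rwa [pform_add, pform_smul, add_sub_cancel_right] at this
      refine ⟨j, P, hP, hF, hG, -e, 1 - e * c, ?_, ?_⟩
      · by_cases he : e = 0
        · exact Or.inr (by simp [he])
        · exact Or.inl (neg_ne_zero.2 he)
      · refine (congrArg (· ∈ P ^ 2) ?_).mp hbad
        simp only [pform_add, pform_smul, map_neg, map_sub, map_one, map_mul]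
        ring
  rw [hbase]
  constructor
  · rintro hsm ⟨j, P, hP, hh, hG, e, hbad⟩
    have h1 : SmoothOfRelativeDimension m' (I.subschemeCover.f (LefDual.pieceAff ι j) ≫
        LefPen.secToSpec ι ({F, G} : Set (LefPen.Form r k d))) :=
      IsZariskiLocalAtSource.comp (P := @SmoothOfRelativeDimension m') hsm _
    rw [hspec] at h1
    have h2 := (HasRingHomProperty.Spec_iff (P := @SmoothOfRelativeDimension m')).1 h1
    rw [hpair] at h2
    exact (locally_quotient_pair_iff (LefDual.piece_locally ι (n := m' + 2) j) _ _ (hgood j)).1 h2 P hP hh hG e hbad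
  · intro h
    refine IsZariskiLocalAtSource.of_iSup_eq_top (P := @SmoothOfRelativeDimension m')
      (fun j => (I.subschemeCover.f (LefDual.pieceAff ι j)).opensRange) hcover fun j => ?_
    rw [← MorphismProperty.cancel_left_of_respectsIso (@SmoothOfRelativeDimension m') (I.subschemeCover.f (LefDual.pieceAff ι j)).isoOpensRange.hom,
      Scheme.Hom.isoOpensRange_hom_ι_assoc, hspec]
    refine (HasRingHomProperty.Spec_iff (P := @SmoothOfRelativeDimension m')).2 ?_
    rw [hpair]
    exact (locally_quotient_pair_iff (LefDual.piece_locally ι (n := m' + 2) j) _ _ (hgood j)).2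
      fun P hP hh hG e hbad => h ⟨j, P, hP, hh, hG, e, hbad⟩

end Groth.Agent.LefPencil
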