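import Groth.Agent.LefPencil.Trunc
import Groth.Agent.LefDual.Local
import Groth.Agent.LefDual.Elim
import Mathlib.RingTheory.Nakayama
import Mathlib.RingTheory.Nullstellensatz

/-!
# Two singular points of one member cannot collide at a non-degenerate one
-/

set_option autoImplicit false

universe u

namespace Groth.Agent.LefPencil

open KaehlerDifferential MvPolynomial TensorProduct

variable {k : Type u} [Field k] [IsAlgClosed k] {S : Type u} [CommRing S] [Algebra k S] [Algebra.FiniteType k S] {n : ℕ}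

/-- The difference of the two pullbacks of a function. -/
noncomputable def dlt (k : Type u) [Field k] {S : Type u} [CommRing S] [Algebra k S] (b : S) : S ⊗[k] S :=
  (1 : S) ⊗ₜ[k] b - b ⊗ₜ[k] (1 : S)

/-- The span of the differences of the coordinates. -/
noncomputable def dspan (k : Type u) [Field k] {S : Type u} [CommRing S] [Algebra k S] (z : Fin n → S) : Ideal (S ⊗[k] S) :=
  Ideal.span (Set.range fun t => dlt k (z t))

theorem le_sup_pow {A : Type u} [CommRing A] {J D : Ideal A} (hDJ : D ≤ J) (h : J ≤ D ⊔ J ^ 2) (N : ℕ) :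
    J ^ N ≤ D ^ N ⊔ J ^ (N + 1) := by
  induction N with
  | zero => simp
  | succ N ih =>
    calc J ^ (N + 1) = J ^ N * J := pow_succ _ _
      _ ≤ (D ^ N ⊔ J ^ (N + 1)) * (D ⊔ J ^ 2) := Ideal.mul_mono ih h
      _ ≤ D ^ (N + 1) ⊔ J ^ (N + 1 + 1) := by
        rw [Ideal.sup_mul, Ideal.mul_sup, Ideal.mul_sup]
        refine sup_le (sup_le (le_sup_of_le_left (pow_succ _ _).ge) (le_sup_of_le_right ?_))
          (sup_le (le_sup_of_le_right ?_) (le_sup_of_le_right ?_))
        · exact (Ideal.mul_mono_left (Ideal.pow_right_mono hDJ N)).trans ((pow_add _ _ _).symm.le.trans (Ideal.pow_le_pow_right (by omega)))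
        · exact (Ideal.mul_mono_right hDJ).trans (pow_succ _ _).ge
        · exact (pow_add _ _ _).symm.le.trans (Ideal.pow_le_pow_right (by omega))

variable (b : Module.Basis (Fin n) S Ω[S⁄k]) {z : Fin n → S} (hb : ∀ t, b t = D k S (z t))

/-- The partial derivatives. -/
noncomputable def pd (y : S) (t : Fin n) : S := b.repr (D k S y) t

include hb in
theorem taylor_one (y : S) :
    dlt k y - ∑ t, (pd b y t ⊗ₜ[k] (1 : S)) * dlt k (z t) ∈ KaehlerDifferential.ideal k S ^ 2 := by
  let I := KaehlerDifferential.ideal k S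
  let δ : S → I := fun s => ⟨dlt k s, one_smul_sub_smul_one_mem_ideal k s⟩
  have hD : I.toCotangent (δ y) = I.toCotangent (∑ t, pd b y t • δ (z t)) := by
    rw [map_sum]
    have h1 : ∀ t, I.toCotangent (pd b y t • δ (z t)) = pd b y t • D k S (z t) := fun t => by
      rw [LinearMap.map_smul_of_tower]; rfl
    simp only [h1, ← hb]
    exact (b.sum_repr (D k S y)).symm
  have h2 := (Ideal.toCotangent_eq I).1 hD
  simpa [δ, I, Submodule.coe_sum, Submodule.coe_smul_of_tower, Algebra.smul_def] using h2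

include hb in
theorem ideal_le : KaehlerDifferential.ideal k S ≤ dspan k z ⊔ KaehlerDifferential.ideal k S ^ 2 := by
  conv_lhs => rw [← span_range_eq_ideal]
  refine Ideal.span_le.2 ?_
  rintro _ ⟨y, rfl⟩
  show (1 : S) ⊗ₜ[k] y - y ⊗ₜ[k] (1 : S) ∈ _
  rw [show (1 : S) ⊗ₜ[k] y - y ⊗ₜ[k] (1 : S) = ∑ t, (pd b y t ⊗ₜ[k] (1 : S)) * dlt k (z t) +
    (dlt k y - ∑ t, (pd b y t ⊗ₜ[k] (1 : S)) * dlt k (z t)) by rw [add_sub_cancel]; rfl]
  exact Ideal.add_mem _ (Ideal.mem_sup_left (Submodule.sum_mem _ fun t _ => Ideal.mul_mem_left _ _ (Ideal.subset_span ⟨t, rfl⟩)))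
    (Ideal.mem_sup_right (taylor_one b hb y))

theorem dspan_le (z : Fin n → S) : dspan k z ≤ KaehlerDifferential.ideal k S :=
  Ideal.span_le.2 (by rintro _ ⟨t, rfl⟩; exact one_smul_sub_smul_one_mem_ideal k _)

theorem exists_lin_dspan {x : S ⊗[k] S} (hx : x ∈ dspan k z) : ∃ e : Fin n → S ⊗[k] S, x = ∑ t, e t * dlt k (z t) := by
  obtain ⟨e, he⟩ := (Submodule.mem_span_range_iff_exists_fun _).1 hx
  exact ⟨e, he.symm⟩

include hb in
theorem exists_first (y : S) : ∃ e : Fin n → S ⊗[k] S, dlt k y - ∑ t, e t * dlt k (z t) ∈ KaehlerDifferential.ideal k S ^ 2 :=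
  ⟨fun t => pd b y t ⊗ₜ[k] 1, taylor_one b hb y⟩

include hb in
theorem exists_second (y : S) : ∃ c : Fin n → Fin n → S ⊗[k] S,
    dlt k y - ∑ t, (pd b y t ⊗ₜ[k] (1 : S)) * dlt k (z t) -
      ∑ i, ∑ l, c i l * (dlt k (z i) * dlt k (z l)) ∈ KaehlerDifferential.ideal k S ^ 3 := by
  have h : KaehlerDifferential.ideal k S ^ 2 ≤ dspan k z ^ 2 ⊔ KaehlerDifferential.ideal k S ^ 3 :=
    le_sup_pow (dspan_le z) (ideal_le b hb) 2
  obtain ⟨x, hx, w, hw, hxw⟩ := Submodule.mem_sup.1 (h (taylor_one b hb y))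
  have hc : ∃ c : Fin n → Fin n → S ⊗[k] S, x = ∑ i, ∑ l, c i l * (dlt k (z i) * dlt k (z l)) := by
    rw [pow_two] at hx
    clear hxw
    induction hx using Submodule.mul_induction_on' with
    | mem_mul_mem a ha c hc =>
      obtain ⟨e, rfl⟩ := exists_lin_dspan ha
      obtain ⟨e', rfl⟩ := exists_lin_dspan hc
      refine ⟨fun i l => e i * e' l, ?_⟩
      rw [Finset.sum_mul_sum]
      exact Finset.sum_congr rfl fun i _ => Finset.sum_congr rfl fun l _ => by ring
    | add a _ c _ ha hc =>
      obtain ⟨e, rfl⟩ := ha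
      obtain ⟨e', rfl⟩ := hc
      exact ⟨e + e', by simp [add_mul, Finset.sum_add_distrib]⟩
  obtain ⟨c, rfl⟩ := hc
  exact ⟨c, by rw [← hxw, add_sub_cancel_left]; exact hw⟩

/-- Restriction to `{χ} × S`. -/
noncomputable def slice (χ : S →ₐ[k] k) : S ⊗[k] S →ₐ[k] S :=
  Algebra.TensorProduct.lift ((Algebra.ofId k S).comp χ) (AlgHom.id k S) fun _ _ => Commute.all _ _

theorem slice_tmul (χ : S →ₐ[k] k) (x y : S) : slice χ (x ⊗ₜ[k] y) = algebraMap k S (χ x) * y := by
  simp [slice, Algebra.ofId_apply]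

theorem slice_mem (χ : S →ₐ[k] k) {s : ℕ} {x : S ⊗[k] S} (hx : x ∈ KaehlerDifferential.ideal k S ^ s) :
    slice χ x ∈ RingHom.ker χ ^ s := by
  have h := Ideal.mem_map_of_mem (slice χ) hx
  rw [Ideal.map_pow] at h
  refine Ideal.pow_right_mono (Ideal.map_le_iff_le_comap.2 ?_) s h
  rw [← span_range_eq_ideal]
  refine Ideal.span_le.2 ?_
  rintro _ ⟨y, rfl⟩
  simp [slice_tmul, RingHom.mem_ker]

theorem apply_slice (χ : S →ₐ[k] k) (x : S ⊗[k] S) : χ (slice χ x) = χ (Algebra.TensorProduct.lmul' k x) := by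
  induction x using TensorProduct.induction_on with
  | zero => simp
  | tmul a c => simp [slice_tmul]
  | add a c ha hc => simp [ha, hc]

/-- A point is singular for the member. -/
def Sing {ι : Type*} [Fintype ι] (g : ι → S) (a : ι → k) (χ : S →ₐ[k] k) : Prop :=
  χ (LefDual.member g a) = 0 ∧ ∀ t, χ (pd b (LefDual.member g a) t) = 0

theorem pd_member {ι : Type*} [Fintype ι] (g : ι → S) (a : ι → k) (t : Fin n) :
    pd b (LefDual.member g a) t = LefDual.member (fun s => pd b (g s) t) a := by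
  simp only [pd, LefDual.member, map_sum, Finsupp.finsetSum_apply]
  refine Finset.sum_congr rfl fun s _ => ?_
  rw [Derivation.leibniz, Derivation.map_algebraMap, smul_zero, add_zero, map_smul, Finsupp.smul_apply, smul_eq_mul]

theorem sing_of_mem_sq {ι : Type*} [Fintype ι] (g : ι → S) (a : ι → k) (χ : S →ₐ[k] k)
    (h : LefDual.member g a ∈ RingHom.ker χ ^ 2) : Sing b g a χ := by
  haveI : (RingHom.ker χ).IsMaximal := RingHom.ker_isMaximal_of_surjective χ fun c => ⟨algebraMap k _ c, χ.commutes c⟩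
  obtain ⟨h1, h2⟩ := (LefDual.mem_sq_iff (k := k) _ _).1 h
  refine ⟨h1, fun t => ?_⟩
  show χ (b.repr (D k S (LefDual.member g a)) t) = 0
  refine Submodule.smul_induction_on (p := fun ω => χ (b.repr ω t) = 0) h2 (fun p hp ω _ => ?_) fun x y hx hy => ?_
  · rw [map_smul, Finsupp.smul_apply, smul_eq_mul, map_mul, RingHom.mem_ker.1 hp, zero_mul]
  · rw [map_add, Finsupp.add_apply, map_add, hx, hy, add_zero]

/-- The quadratic part of a member at a singular point. -/
noncomputable def quadPart {ι : Type*} [Fintype ι] (C : ι → Fin n → Fin n → S) (a : ι → k) (χ : S →ₐ[k] k) :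
    Fin n → Fin n → k := fun i l => ∑ s, a s * χ (C s i l)

include hb in
/-- The quadratic parts, and the pairs of singular points near a non-degenerate one. -/
theorem exists_quad_and_pair {ι : Type*} [Fintype ι] (g : ι → S) :
    ∃ C : ι → Fin n → Fin n → S,
      (∀ a χ, Sing b g a χ → LefDual.member g a - ∑ i, ∑ l, algebraMap k S (quadPart C a χ i l) *
        ((z i - algebraMap k S (χ (z i))) * (z l - algebraMap k S (χ (z l)))) ∈ RingHom.ker χ ^ 3) ∧
      ∀ a₀ χ₀, Sing b g a₀ χ₀ → NonSing (quadPart C a₀ χ₀) →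
        ∃ c : MvPolynomial ι (S ⊗[k] S),
          eval₂ (Algebra.TensorProduct.lift χ₀ χ₀ fun _ _ => Commute.all _ _).toRingHom a₀ c = 1 ∧
          ∀ a χ χ', Sing b g a χ → Sing b g a χ' →
            eval₂ (Algebra.TensorProduct.lift χ χ' fun _ _ => Commute.all _ _).toRingHom a c ≠ 0 → χ = χ' := by
  classical
  choose c₂ hc₂ using fun s => exists_second b hb (g s)
  let C : ι → Fin n → Fin n → S := fun s i l => Algebra.TensorProduct.lmul' k (c₂ s i l)
  have hquad : ∀ a χ, Sing b g a χ → LefDual.member g a - ∑ i, ∑ l, algebraMap k S (quadPart C a χ i l) *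
      ((z i - algebraMap k S (χ (z i))) * (z l - algebraMap k S (χ (z l)))) ∈ RingHom.ker χ ^ 3 := by
    intro a χ hs
    let t : Fin n → S := fun i => z i - algebraMap k S (χ (z i))
    have hsl : ∀ y, slice χ (dlt k y) = y - algebraMap k S (χ y) := fun y => by simp [dlt, slice_tmul]
    have hs1 : ∀ s, g s - algebraMap k S (χ (g s)) - ∑ u, algebraMap k S (χ (pd b (g s) u)) * t u -
        ∑ i, ∑ l, algebraMap k S (χ (C s i l)) * (t i * t l) ∈ RingHom.ker χ ^ 3 := fun s => by
      have h1 := slice_mem χ (hc₂ s)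
      simp only [map_sub, map_sum, map_mul, hsl, slice_tmul, mul_one] at h1
      have h2 : ∑ i, ∑ l, (slice χ (c₂ s i l) - algebraMap k S (χ (C s i l))) * (t i * t l) ∈ RingHom.ker χ ^ 3 :=
        Submodule.sum_mem _ fun i _ => Submodule.sum_mem _ fun l _ => by
          rw [show 3 = 1 + (1 + 1) from rfl, pow_add, pow_add, pow_one]
          exact Ideal.mul_mem_mul (by simp [RingHom.mem_ker, C, apply_slice])
            (Ideal.mul_mem_mul (by simp [RingHom.mem_ker, t]) (by simp [RingHom.mem_ker, t]))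
      refine (congrArg (· ∈ RingHom.ker χ ^ 3) ?_).mp (add_mem h1 h2)
      simp only [sub_mul, Finset.sum_sub_distrib, t]
      ring
    have h3 : ∑ s, algebraMap k S (a s) * (g s - algebraMap k S (χ (g s)) - ∑ u, algebraMap k S (χ (pd b (g s) u)) * t u -
        ∑ i, ∑ l, algebraMap k S (χ (C s i l)) * (t i * t l)) ∈ RingHom.ker χ ^ 3 :=
      Submodule.sum_mem _ fun s _ => Ideal.mul_mem_left _ _ (hs1 s)
    refine (congrArg (· ∈ RingHom.ker χ ^ 3) ?_).mp h3
    have e1 : ∑ s, algebraMap k S (a s) * algebraMap k S (χ (g s)) = 0 := by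
      have := congrArg (algebraMap k S) hs.1
      simpa [LefDual.member] using this
    have e2 : ∀ u, ∑ s, algebraMap k S (a s) * algebraMap k S (χ (pd b (g s) u)) = 0 := fun u => by
      have := congrArg (algebraMap k S) (hs.2 u)
      rw [pd_member] at this
      simpa [LefDual.member] using this
    have e3 : ∑ s, ∑ u, algebraMap k S (a s) * (algebraMap k S (χ (pd b (g s) u)) * t u) = 0 := by
      rw [Finset.sum_comm]
      refine Finset.sum_eq_zero fun u _ => ?_
      simp only [← mul_assoc, ← Finset.sum_mul, e2, zero_mul]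
    have e4 : ∑ s, ∑ i, ∑ l, algebraMap k S (a s) * (algebraMap k S (χ (C s i l)) * (t i * t l)) =
        ∑ i, ∑ l, algebraMap k S (quadPart C a χ i l) * (t i * t l) := by
      rw [Finset.sum_comm]
      refine Finset.sum_congr rfl fun i _ => ?_
      rw [Finset.sum_comm]
      refine Finset.sum_congr rfl fun l _ => ?_
      simp only [quadPart, map_sum, map_mul, Finset.sum_mul, mul_assoc]
    conv_lhs => simp only [mul_sub, Finset.sum_sub_distrib, Finset.mul_sum]
    rw [e1, e3, e4, sub_zero, sub_zero]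
    rfl
  refine ⟨C, hquad, fun a₀ χ₀ hs₀ hns => ?_⟩
  choose e₂ he₂ using fun s (i : Fin n) => exists_first b hb (pd b (g s) i)
  let i1 : S → (S ⊗[k] S) := fun y => y ⊗ₜ[k] (1 : S)
  let i2 : S → (S ⊗[k] S) := fun y => (1 : S) ⊗ₜ[k] y
  let mem : (ι → (S ⊗[k] S)) → (MvPolynomial ι (S ⊗[k] S)) := fun f => ∑ s, X s * MvPolynomial.C (f s)
  let Gs : Fin 2 → (ι → (S ⊗[k] S)) := ![fun s => i1 (g s), fun s => i2 (g s)]
  let Ls : Fin 2 → Fin n → (ι → (S ⊗[k] S)) := ![fun u s => i1 (pd b (g s) u), fun u s => i2 (pd b (g s) u)]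
  let I : Ideal (MvPolynomial ι (S ⊗[k] S)) := Ideal.span (Set.range fun p : Fin 2 => mem (Gs p)) ⊔
    Ideal.span (Set.range fun p : Fin 2 × Fin n => mem (Ls p.1 p.2))
  let lam : (ι → k) → (S →ₐ[k] k) → (S →ₐ[k] k) → (MvPolynomial ι (S ⊗[k] S)) →+* k := fun a χ χ' =>
    eval₂Hom (Algebra.TensorProduct.lift χ χ' fun _ _ => Commute.all _ _).toRingHom a
  have hlamC : ∀ a χ χ' x, lam a χ χ' (MvPolynomial.C x) = Algebra.TensorProduct.lift χ χ' (fun _ _ => Commute.all _ _) x :=
    fun a χ χ' x => eval₂Hom_C _ _ _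
  have hlamI : ∀ a χ χ', Sing b g a χ → Sing b g a χ' → I ≤ RingHom.ker (lam a χ χ') := by
    intro a χ χ' h h'
    have hmem : ∀ f : ι → (S ⊗[k] S), lam a χ χ' (mem f) = ∑ s, a s * Algebra.TensorProduct.lift χ χ' (fun _ _ => Commute.all _ _) (f s) :=
      fun f => by simp [mem, hlamC, show ∀ s, lam a χ χ' (X s) = a s from fun s => eval₂Hom_X' _ _ _]
    refine sup_le (Ideal.span_le.2 ?_) (Ideal.span_le.2 ?_)
    · rintro _ ⟨p, rfl⟩
      rw [SetLike.mem_coe, RingHom.mem_ker, hmem]
      fin_cases p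
      · simpa [Gs, i1, LefDual.member] using h.1
      · simpa [Gs, i2, LefDual.member] using h'.1
    · rintro _ ⟨⟨p, u⟩, rfl⟩
      rw [SetLike.mem_coe, RingHom.mem_ker, hmem]
      fin_cases p
      · have e := h.2 u
        rw [pd_member] at e
        simpa [Ls, i1, LefDual.member] using e
      · have e := h'.2 u
        rw [pd_member] at e
        simpa [Ls, i2, LefDual.member] using e
  have hlamX : ∀ a χ χ' s, lam a χ χ' (X s) = a s := fun a χ χ' s => eval₂Hom_X' _ _ _
  let Λ := lam a₀ χ₀ χ₀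
  haveI hM : (RingHom.ker Λ).IsMaximal := RingHom.ker_isMaximal_of_surjective Λ fun c =>
    ⟨MvPolynomial.C (algebraMap k (S ⊗[k] S) c), by rw [hlamC, AlgHom.commutes]; rfl⟩
  let J : Ideal (MvPolynomial ι (S ⊗[k] S)) := (KaehlerDifferential.ideal k S).map MvPolynomial.C
  let δ : Fin n → (MvPolynomial ι (S ⊗[k] S)) := fun t => MvPolynomial.C (dlt k (z t))
  let Φ : MvPolynomial (Fin n) k →+* (MvPolynomial ι (S ⊗[k] S)) := eval₂Hom (MvPolynomial.C.comp (algebraMap k (S ⊗[k] S))) δ
  have hJM : J ≤ RingHom.ker Λ := Ideal.map_le_iff_le_comap.2 (by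
    rw [← span_range_eq_ideal]
    refine Ideal.span_le.2 ?_
    rintro _ ⟨y, rfl⟩
    simp [Λ, hlamC])
  have hδ : ∀ t, δ t ∈ J := fun t => Ideal.mem_map_of_mem _ (one_smul_sub_smul_one_mem_ideal k _)
  let c₀ := quadPart C a₀ χ₀
  -- second order Taylor expansion
  have hq : Φ (qf c₀) ∈ I ⊔ RingHom.ker Λ * J ^ 2 := by
    have h1 : ∀ s, MvPolynomial.C (i2 (g s)) - MvPolynomial.C (i1 (g s)) - ∑ t, MvPolynomial.C (i1 (pd b (g s) t)) * δ t -
        ∑ i, ∑ l, MvPolynomial.C (c₂ s i l) * (δ i * δ l) ∈ J ^ 3 := fun s => by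
      have h := Ideal.mem_map_of_mem (MvPolynomial.C : (S ⊗[k] S) →+* (MvPolynomial ι (S ⊗[k] S))) (hc₂ s)
      rw [Ideal.map_pow] at h
      simpa [dlt, i1, i2, δ] using h
    have h2 : mem (Gs 1) - mem (Gs 0) - ∑ t, mem (Ls 0 t) * δ t -
        ∑ i, ∑ l, (∑ s, X s * MvPolynomial.C (c₂ s i l)) * (δ i * δ l) ∈ J ^ 3 := by
      refine (congrArg (· ∈ J ^ 3) ?_).mp (Submodule.sum_mem _ (t := Finset.univ) fun s _ =>
        Ideal.mul_mem_left _ (X s) (h1 s))
      simp only [mul_sub, Finset.sum_sub_distrib, Finset.mul_sum, Finset.sum_mul, mem, Gs, Ls, Matrix.cons_val_zero,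
        Matrix.cons_val_one, mul_assoc]
      rw [Finset.sum_comm (γ := Fin n)]
      congr 1
      rw [Finset.sum_comm]
      exact Finset.sum_congr rfl fun i _ => Finset.sum_comm
    have h3 : Φ (qf c₀) - ∑ i, ∑ l, (∑ s, X s * MvPolynomial.C (c₂ s i l)) * (δ i * δ l) ∈ RingHom.ker Λ * J ^ 2 := by
      simp only [qf, map_sum, map_mul]
      rw [← Finset.sum_sub_distrib]
      refine Submodule.sum_mem _ fun i _ => ?_
      rw [← Finset.sum_sub_distrib]
      refine Submodule.sum_mem _ fun l _ => ?_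
      simp only [Φ, eval₂Hom_C, eval₂Hom_X', ← sub_mul]
      refine Ideal.mul_mem_mul ?_ (by rw [pow_two]; exact Ideal.mul_mem_mul (hδ i) (hδ l))
      have e : ∀ s, Algebra.TensorProduct.lift χ₀ χ₀ (fun _ _ => Commute.all _ _) (c₂ s i l) = χ₀ (C s i l) := fun s => by
        show _ = χ₀ (Algebra.TensorProduct.lmul' k (c₂ s i l))
        induction c₂ s i l using TensorProduct.induction_on with
        | zero => simp
        | tmul a c => simp
        | add a c ha hc => simp [ha, hc]
      simp [RingHom.mem_ker, Λ, hlamC, hlamX, c₀, quadPart, e]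
    have hG : mem (Gs 1) - mem (Gs 0) - ∑ t, mem (Ls 0 t) * δ t ∈ I := by
      refine sub_mem (sub_mem (Ideal.mem_sup_left (Ideal.subset_span ⟨1, rfl⟩)) (Ideal.mem_sup_left (Ideal.subset_span ⟨0, rfl⟩))) ?_
      exact Submodule.sum_mem _ fun t _ => Ideal.mul_mem_right _ _ (Ideal.mem_sup_right (Ideal.subset_span ⟨(0, t), rfl⟩))
    have h4 : mem (Gs 1) - mem (Gs 0) - ∑ t, mem (Ls 0 t) * δ t -
        ∑ i, ∑ l, (∑ s, X s * MvPolynomial.C (c₂ s i l)) * (δ i * δ l) ∈ RingHom.ker Λ * J ^ 2 := by
      refine (?_ : J ^ 3 ≤ RingHom.ker Λ * J ^ 2) h2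
      rw [pow_succ']; exact Ideal.mul_mono_left hJM
    refine (congrArg (· ∈ I ⊔ RingHom.ker Λ * J ^ 2) ?_).mp
      (add_mem (Ideal.mem_sup_left hG) (Ideal.mem_sup_right (sub_mem h3 h4)))
    abel
  have hlin : ∀ i, Φ (lin fun l => c₀ i l + c₀ l i) ∈ I ⊔ RingHom.ker Λ * J := fun i => by
    have h1 : ∀ s, MvPolynomial.C (i2 (pd b (g s) i)) - MvPolynomial.C (i1 (pd b (g s) i)) -
        ∑ t, MvPolynomial.C (e₂ s i t) * δ t ∈ J ^ 2 := fun s => by
      have h := Ideal.mem_map_of_mem (MvPolynomial.C : (S ⊗[k] S) →+* (MvPolynomial ι (S ⊗[k] S))) (he₂ s i)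
      rw [Ideal.map_pow] at h
      simpa [dlt, i1, i2, δ] using h
    have h2 : mem (Ls 1 i) - mem (Ls 0 i) - ∑ l, (∑ s, X s * MvPolynomial.C (e₂ s i l)) * δ l ∈ J ^ 2 := by
      refine (congrArg (· ∈ J ^ 2) ?_).mp (Submodule.sum_mem _ (t := Finset.univ) fun s _ =>
        Ideal.mul_mem_left _ (X s) (h1 s))
      simp only [mul_sub, Finset.sum_sub_distrib, Finset.mul_sum, Finset.sum_mul, mem, Ls, Matrix.cons_val_zero,
        Matrix.cons_val_one, mul_assoc]
      rw [Finset.sum_comm (γ := Fin n)]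
    -- identify the coefficients at the point
    have hval : ∀ l, ∑ s, a₀ s * χ₀ (Algebra.TensorProduct.lmul' k (e₂ s i l)) = c₀ i l + c₀ l i := by
      let t : Fin n → S := fun u => z u - algebraMap k S (χ₀ (z u))
      let y := pd b (LefDual.member g a₀) i
      haveI : (RingHom.ker χ₀).IsMaximal := RingHom.ker_isMaximal_of_surjective χ₀ fun c => ⟨algebraMap k _ c, χ₀.commutes c⟩
      have ht : ∀ u, t u ∈ RingHom.ker χ₀ := fun u => by simp [RingHom.mem_ker, t]
      have hDt : ∀ u v, b.repr (D k S (t u)) v = if u = v then 1 else 0 := fun u v => by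
        simp [t, ← hb, Finsupp.single_apply]
      -- from the expansion of the differences
      have hA : y - ∑ l, algebraMap k S (∑ s, a₀ s * χ₀ (Algebra.TensorProduct.lmul' k (e₂ s i l))) * t l ∈ RingHom.ker χ₀ ^ 2 := by
        have hs1 : ∀ s, pd b (g s) i - algebraMap k S (χ₀ (pd b (g s) i)) -
            ∑ l, algebraMap k S (χ₀ (Algebra.TensorProduct.lmul' k (e₂ s i l))) * t l ∈ RingHom.ker χ₀ ^ 2 := fun s => by
          have h := slice_mem χ₀ (he₂ s i)
          simp only [map_sub, map_sum, map_mul, dlt, slice_tmul, map_one, one_mul, mul_one] at h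
          have h' : ∑ l, (slice χ₀ (e₂ s i l) - algebraMap k S (χ₀ (Algebra.TensorProduct.lmul' k (e₂ s i l)))) * t l ∈ RingHom.ker χ₀ ^ 2 :=
            Submodule.sum_mem _ fun l _ => by
              rw [pow_two]; exact Ideal.mul_mem_mul (by simp [RingHom.mem_ker, apply_slice]) (ht l)
          refine (congrArg (· ∈ RingHom.ker χ₀ ^ 2) ?_).mp (add_mem h h')
          simp only [sub_mul, Finset.sum_sub_distrib, t]
          ring
        have h3 := Submodule.sum_mem (RingHom.ker χ₀ ^ 2) (t := Finset.univ) fun s _ =>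
          Ideal.mul_mem_left _ (algebraMap k S (a₀ s)) (hs1 s)
        refine (congrArg (· ∈ RingHom.ker χ₀ ^ 2) ?_).mp h3
        have e2 : ∑ s, algebraMap k S (a₀ s) * algebraMap k S (χ₀ (pd b (g s) i)) = 0 := by
          have := congrArg (algebraMap k S) (hs₀.2 i)
          rw [pd_member] at this
          simpa [LefDual.member] using this
        simp only [mul_sub, Finset.sum_sub_distrib, e2, sub_zero, Finset.mul_sum, y, pd_member, LefDual.member]
        congr 1
        rw [Finset.sum_comm]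
        simp [map_sum, map_mul, Finset.sum_mul, mul_assoc]
      -- from differentiating the quadratic expansion
      have hB : y - ∑ l, algebraMap k S (c₀ i l + c₀ l i) * t l ∈ RingHom.ker χ₀ ^ 2 := by
        have h := hquad a₀ χ₀ hs₀
        have hd : ∀ x ∈ RingHom.ker χ₀ ^ 3, pd b x i ∈ RingHom.ker χ₀ ^ 2 := fun x hx => by
          rw [pow_succ] at hx
          induction hx using Submodule.mul_induction_on' with
          | mem_mul_mem p hp q hq =>
            simp only [pd, Derivation.leibniz, map_add, map_smul, Finsupp.add_apply, Finsupp.smul_apply, smul_eq_mul]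
            refine add_mem (Ideal.mul_mem_right _ _ hp) ?_
            rw [pow_two] at hp
            induction hp using Submodule.mul_induction_on' with
            | mem_mul_mem p₁ h₁ p₂ h₂ =>
              simp only [Derivation.leibniz, map_add, map_smul, Finsupp.add_apply, Finsupp.smul_apply, smul_eq_mul, mul_add]
              rw [pow_two]
              exact add_mem (by rw [← mul_assoc]; exact Ideal.mul_mem_right _ _ (Ideal.mul_mem_mul hq h₁))
                (by rw [← mul_assoc]; exact Ideal.mul_mem_right _ _ (Ideal.mul_mem_mul hq h₂))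
            | add p₁ _ p₂ _ h₁ h₂ => simp only [map_add, Finsupp.add_apply, mul_add]; exact add_mem h₁ h₂
          | add p _ q _ hp hq => simp only [pd, map_add, Finsupp.add_apply] at hp hq ⊢; exact add_mem hp hq
        have h' := hd _ h
        refine (congrArg (· ∈ RingHom.ker χ₀ ^ 2) ?_).mp h'
        have hpd : ∀ (c : k) u v, pd b (algebraMap k S c * (t u * t v)) i =
            algebraMap k S c * ((if v = i then 1 else 0) * t u + (if u = i then 1 else 0) * t v) := fun c u v => by
          simp only [pd, Derivation.leibniz, Derivation.map_algebraMap, smul_zero, add_zero, map_add, map_smul,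
            Finsupp.add_apply, Finsupp.smul_apply, smul_eq_mul, hDt]
          ring
        have hsum : pd b (∑ u, ∑ v, algebraMap k S (c₀ u v) * (t u * t v)) i = ∑ u, ∑ v, pd b (algebraMap k S (c₀ u v) * (t u * t v)) i := by
          simp only [pd, map_sum, Finsupp.finsetSum_apply]
        show pd b (LefDual.member g a₀ - _) i = _
        rw [show pd b (LefDual.member g a₀ - ∑ u, ∑ v, algebraMap k S (quadPart C a₀ χ₀ u v) * ((z u - algebraMap k S (χ₀ (z u))) * (z v - algebraMap k S (χ₀ (z v))))) i =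
          y - pd b (∑ u, ∑ v, algebraMap k S (c₀ u v) * (t u * t v)) i by simp [pd, y, c₀, t], hsum]
        simp only [hpd, mul_add, Finset.sum_add_distrib, ite_mul, one_mul, zero_mul, mul_ite, mul_zero,
          Finset.sum_ite_eq', Finset.mem_univ, if_true, Finset.sum_ite_irrel, Finset.sum_const_zero, map_add, add_mul]
        rw [add_comm (∑ x, algebraMap k S (c₀ x i) * t x)]
      have h3 := sub_mem hA hB
      rw [sub_sub_sub_cancel_left, ← Finset.sum_sub_distrib] at h3
      intro l
      obtain ⟨-, h4⟩ := (LefDual.mem_sq_iff (k := k) _ _).1 h3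
      have h5 : χ₀ (pd b (∑ x, (algebraMap k S (c₀ i x + c₀ x i) * t x -
          algebraMap k S (∑ s, a₀ s * χ₀ (Algebra.TensorProduct.lmul' k (e₂ s i x))) * t x)) l) = 0 := by
        show χ₀ (b.repr (D k S _) l) = 0
        refine Submodule.smul_induction_on (p := fun ω => χ₀ (b.repr ω l) = 0) h4 (fun p hp ω _ => ?_) fun x y hx hy => ?_
        · rw [map_smul, Finsupp.smul_apply, smul_eq_mul, map_mul, RingHom.mem_ker.1 hp, zero_mul]
        · rw [map_add, Finsupp.add_apply, map_add, hx, hy, add_zero]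
      have hlinD : ∀ γ : Fin n → k, pd b (∑ x, algebraMap k S (γ x) * t x) l = algebraMap k S (γ l) := fun γ => by
        simp only [pd, map_sum, Derivation.leibniz, Derivation.map_algebraMap, smul_zero, add_zero, map_smul, Finsupp.finsetSum_apply,
          Finsupp.smul_apply, smul_eq_mul, hDt, mul_ite, mul_one, mul_zero, Finset.sum_ite_eq', Finset.mem_univ, if_true]
      simp only [← sub_mul, ← map_sub] at h5
      rw [hlinD, AlgHom.commutes, Algebra.algebraMap_self_apply] at h5
      exact (sub_eq_zero.1 h5).symm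
    have h3 : Φ (lin fun l => c₀ i l + c₀ l i) - ∑ l, (∑ s, X s * MvPolynomial.C (e₂ s i l)) * δ l ∈ RingHom.ker Λ * J := by
      simp only [lin, map_sum, map_mul]
      rw [← Finset.sum_sub_distrib]
      refine Submodule.sum_mem _ fun l _ => ?_
      simp only [Φ, eval₂Hom_C, eval₂Hom_X', ← sub_mul]
      refine Ideal.mul_mem_mul ?_ (hδ l)
      have e : ∀ s, Algebra.TensorProduct.lift χ₀ χ₀ (fun _ _ => Commute.all _ _) (e₂ s i l) =
          χ₀ (Algebra.TensorProduct.lmul' k (e₂ s i l)) := fun s => by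
        induction e₂ s i l using TensorProduct.induction_on with
        | zero => simp
        | tmul a c => simp
        | add a c ha hc => simp [ha, hc]
      simp [RingHom.mem_ker, Λ, hlamC, hlamX, e, hval]
    have hG : mem (Ls 1 i) - mem (Ls 0 i) ∈ I :=
      sub_mem (Ideal.mem_sup_right (Ideal.subset_span ⟨(1, i), rfl⟩)) (Ideal.mem_sup_right (Ideal.subset_span ⟨(0, i), rfl⟩))
    have h4 : mem (Ls 1 i) - mem (Ls 0 i) - ∑ l, (∑ s, X s * MvPolynomial.C (e₂ s i l)) * δ l ∈ RingHom.ker Λ * J := by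
      refine (?_ : J ^ 2 ≤ RingHom.ker Λ * J) h2
      rw [pow_two]; exact Ideal.mul_mono_left hJM
    refine (congrArg (· ∈ I ⊔ RingHom.ker Λ * J) ?_).mp
      (add_mem (Ideal.mem_sup_left hG) (Ideal.mem_sup_right (sub_mem h3 h4)))
    abel
  -- the forms have no common zero, so contain a power of the variables
  let F : Option (Fin n) → MvPolynomial (Fin n) k := fun o => o.elim (qf c₀) fun i => lin fun l => c₀ i l + c₀ l i
  let deg : Option (Fin n) → ℕ := fun o => o.elim 2 fun _ => 1
  have hF : ∀ o, (F o).IsHomogeneous (deg o) := fun o => by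
    cases o with
    | none => exact qf_isHomogeneous c₀
    | some i =>
      show (lin (k := k) fun l => c₀ i l + c₀ l i).IsHomogeneous 1
      rw [lin]
      refine IsHomogeneous.sum _ _ _ fun l _ => ?_
      have h1 := (isHomogeneous_C (R := k) (Fin n) (c₀ i l + c₀ l i)).mul (isHomogeneous_X k l)
      rw [zero_add] at h1
      exact h1
  have hFmem : ∀ o, Φ (F o) ∈ I ⊔ RingHom.ker Λ * J ^ deg o := fun o => by
    cases o with
    | none => exact hq
    | some i => simpa [deg, F] using hlin i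
  obtain ⟨N, hN2, hN⟩ : ∃ N, 2 ≤ N ∧ mv k n ^ N ≤ Ideal.span (Set.range F) := by
    have hrad : mv k n ≤ (Ideal.span (Set.range F)).radical := Ideal.span_le.2 (by
      rintro _ ⟨i, rfl⟩
      rw [SetLike.mem_coe, ← vanishingIdeal_zeroLocus_eq_radical (K := k), mem_vanishingIdeal_iff]
      intro v hv
      have hz : ∀ o, eval v (F o) = 0 := fun o => by
        simpa [aeval_eq_eval] using hv _ (Ideal.subset_span ⟨o, rfl⟩)
      have hv0 : v = 0 := hns v fun w => by
        have h0 := hz none
        simp only [F, Option.elim_none, eval_qf] at h0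
        rw [qv_add, h0, zero_add, add_eq_left, show ∑ u, ∑ l, c₀ u l * (v u * w l + w u * v l) =
          ∑ u, (∑ l, (c₀ u l + c₀ l u) * v l) * w u by
            simp only [mul_add, add_mul, Finset.sum_add_distrib, Finset.sum_mul]
            rw [add_comm]
            congr 1
            · exact Finset.sum_congr rfl fun u _ => Finset.sum_congr rfl fun l _ => by ring
            · rw [Finset.sum_comm]; exact Finset.sum_congr rfl fun u _ => Finset.sum_congr rfl fun l _ => by ring]
        refine Finset.sum_eq_zero fun u _ => ?_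
        have hu := hz (some u)
        simp only [F, Option.elim_some, eval_lin] at hu
        rw [hu, zero_mul]
      simp [hv0])
    obtain ⟨N, hN⟩ := Ideal.exists_radical_pow_le_of_fg (Ideal.span (Set.range F)) (IsNoetherian.noetherian _)
    exact ⟨N + 2, by omega, (Ideal.pow_le_pow_right (by omega)).trans ((Ideal.pow_right_mono hrad N).trans hN)⟩
  haveI : Algebra.FiniteType k (S ⊗[k] S) := Algebra.FiniteType.trans (inferInstance : Algebra.FiniteType k S) inferInstance
  haveI : IsNoetherianRing (S ⊗[k] S) := Algebra.FiniteType.isNoetherianRing k (S ⊗[k] S)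
  have hstep : J ^ N ≤ I ⊔ RingHom.ker Λ * J ^ N := by
    have hD : (mv k n).map Φ = (dspan k z).map MvPolynomial.C := by
      rw [mv, idealOfVars, Ideal.map_span, dspan, Ideal.map_span, ← Set.range_comp, ← Set.range_comp]
      congr 2
      funext t
      simp [Φ, δ]
    have hJD : J ≤ (dspan k z).map MvPolynomial.C ⊔ J ^ 2 := by
      have h := Ideal.map_mono (f := (MvPolynomial.C : (S ⊗[k] S) →+* (MvPolynomial ι (S ⊗[k] S)))) (ideal_le b hb)
      rwa [Ideal.map_sup, Ideal.map_pow] at h
    refine (le_sup_pow (Ideal.map_mono (dspan_le z)) hJD N).trans (sup_le ?_ (le_sup_of_le_right ?_))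
    · rw [← hD, ← Ideal.map_pow, pow_idealOfVars_eq_span, Ideal.map_span, Ideal.span_le]
      rintro _ ⟨_, ⟨e, he, rfl⟩, rfl⟩
      have he' : e.degree = N := he
      have hmon : monomial e (1 : k) ∈ mv k n ^ N :=
        (monomial_mem_pow_idealOfVars_iff N e one_ne_zero).2 he'.ge
      obtain ⟨w, hw⟩ := (Submodule.mem_span_range_iff_exists_fun _).1 (hN hmon)
      have h1 := congrArg (homogeneousComponent N) hw
      rw [map_sum, homogeneousComponent_of_mem (isHomogeneous_monomial 1 he'), if_pos rfl] at h1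
      show Φ (monomial e 1) ∈ I ⊔ RingHom.ker Λ * J ^ N
      rw [← h1, map_sum]
      refine Submodule.sum_mem _ fun o _ => ?_
      have hdeg : deg o ≤ N := by cases o <;> simp [deg] <;> omega
      rw [smul_eq_mul, LefDual.homogeneousComponent_mul_of (hF o) hdeg, map_mul]
      have hA : Φ (homogeneousComponent (N - deg o) (w o)) ∈ J ^ (N - deg o) := by
        have hm : homogeneousComponent (N - deg o) (w o) ∈ mv k n ^ (N - deg o) :=
          (mem_pow_idealOfVars_iff' _ _).2 fun s hs =>
            (homogeneousComponent_isHomogeneous _ _).coeff_eq_zero (by omega)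
        have h := Ideal.mem_map_of_mem Φ hm
        rw [Ideal.map_pow] at h
        exact Ideal.pow_right_mono (hD.le.trans (Ideal.map_mono (dspan_le z))) _ h
      obtain ⟨p, hp, q, hq', hpq⟩ := Submodule.mem_sup.1 (hFmem o)
      rw [← hpq, mul_add]
      refine add_mem (Ideal.mem_sup_left (Ideal.mul_mem_left _ _ hp)) (Ideal.mem_sup_right ?_)
      rw [show J ^ N = J ^ (N - deg o) * J ^ deg o by rw [← pow_add, Nat.sub_add_cancel hdeg], mul_left_comm]
      exact Ideal.mul_mem_mul hA hq'
    · rw [pow_succ']; exact Ideal.mul_mono_left hJM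
  let q : MvPolynomial ι (S ⊗[k] S) →ₗ[MvPolynomial ι (S ⊗[k] S)] (MvPolynomial ι (S ⊗[k] S) ⧸ I) := Submodule.mkQ I
  obtain ⟨u, hu, huN⟩ := Submodule.exists_sub_one_mem_and_smul_eq_zero_of_fg_of_le_smul (RingHom.ker Λ)
    (Submodule.map q (J ^ N)) ((IsNoetherian.noetherian (J ^ N)).map q) (by
      refine (Submodule.map_mono hstep).trans ?_
      rw [Submodule.map_sup, ← Submodule.map_smul'']
      refine sup_le ?_ le_rfl
      rw [Submodule.map_le_iff_le_comap]
      intro x hx
      rw [Submodule.mem_comap, show q x = 0 from (Submodule.Quotient.mk_eq_zero I).2 hx]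
      exact zero_mem _)
  refine ⟨u, ?_, fun a χ χ' h h' hc => AlgHom.ext fun y => ?_⟩
  · show Λ u = 1
    have := RingHom.mem_ker.1 hu
    rwa [map_sub, map_one, sub_eq_zero] at this
  · have hy : MvPolynomial.C (dlt k y) ^ N ∈ J ^ N :=
      Ideal.pow_mem_pow (Ideal.mem_map_of_mem _ (one_smul_sub_smul_one_mem_ideal k y)) N
    have h0 : u • q (MvPolynomial.C (dlt k y) ^ N) = 0 := huN _ (Submodule.mem_map_of_mem hy)
    rw [← map_smul, smul_eq_mul] at h0
    have hmem : u * MvPolynomial.C (dlt k y) ^ N ∈ I := (Submodule.Quotient.mk_eq_zero I).1 h0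
    have h1 := RingHom.mem_ker.1 (hlamI a χ χ' h h' hmem)
    rw [map_mul, map_pow, hlamC] at h1
    have h2 := eq_zero_of_pow_eq_zero ((mul_eq_zero.1 h1).resolve_left hc)
    simp only [dlt, map_sub, Algebra.TensorProduct.lift_tmul, map_one, one_mul, mul_one] at h2
    exact (sub_eq_zero.1 h2).symm

end Groth.Agent.LefPencil
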