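import Groth.Agent.BertiniZero.Incidence
import Groth.Agent.LefPencil.Pair
import Mathlib.LinearAlgebra.Matrix.NonsingularInverse

/-!
# A general member of a linear system has no singular point where its jets are nearly surjective
-/

set_option autoImplicit false

universe u

namespace Groth.Agent.LefPencil

open KaehlerDifferential

variable {k : Type u} [Field k]

theorem not_algebraicIndependent_rows {B : Type u} [CommRing B] [Algebra k B] [Algebra.FiniteType k B] {ρ : Type u}
    [Fintype ρ] {m : ℕ} (col : Fin m → ρ → B) {L : Type u} [Field L] [Algebra k L] (ι : B →ₐ[k] L) (x : Fin m → L)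
    (hspan : Submodule.span L (Set.range fun i r => ι (col i r)) = ⊤) (h0 : ∀ r, ∑ i, x i * ι (col i r) = 0)
    (hdim : ∀ s : ℕ, ringKrullDim (B ⧸ RingHom.ker ι.toRingHom) = s → s < Fintype.card ρ) :
    ¬ AlgebraicIndependent k x := by
  classical
  intro hx
  let colL : ULift.{u} (Fin m) → ρ → L := fun i r => ι (col i.down r)
  have hspan' : Submodule.span L (Set.range colL) = ⊤ := by
    refine top_le_iff.1 (hspan.ge.trans (Submodule.span_mono ?_))
    rintro _ ⟨i, rfl⟩
    exact ⟨⟨i⟩, rfl⟩
  obtain ⟨S, hScard, hS⟩ := BertiniZero.exists_solved_affine (k := k) colL 0 (fun i => x i.down) hspan' (funext fun r => by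
    rw [zero_add, Finset.sum_apply, Pi.zero_apply, ← Equiv.ulift.symm.sum_comp]
    exact h0 r)
  haveI : (RingHom.ker ι.toRingHom).IsPrime := RingHom.ker_isPrime _
  let A := B ⧸ RingHom.ker ι.toRingHom
  obtain ⟨s, hs, hsdim⟩ := DimTrdeg.exists_trdeg_eq_ringKrullDim k A
  have hsd := hdim s hsdim
  obtain ⟨T₀, hT₀⟩ := exists_isTranscendenceBasis k A
  have hT₀card : Cardinal.mk T₀ = s := by rw [hT₀.cardinalMk_eq_trdeg, hs]
  haveI : Finite T₀ := Cardinal.lt_aleph0_iff_finite.mp (by rw [hT₀card]; exact Cardinal.natCast_lt_aleph0)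
  haveI : Fintype T₀ := Fintype.ofFinite _
  have hT₀card' : Fintype.card T₀ = s := by rw [Cardinal.mk_fintype] at hT₀card; exact_mod_cast hT₀card
  let ιA : A →ₐ[k] L := Ideal.Quotient.liftₐ _ ι fun a ha => ha
  let y : A ⊕ ULift.{u} (Fin m) → L := Sum.elim ιA fun i => x i.down
  let T : Finset (A ⊕ ULift.{u} (Fin m)) := ((Finset.univ : Finset T₀).map ⟨Subtype.val, Subtype.val_injective⟩).disjSum Sᶜ
  set F := IntermediateField.adjoin k (y '' (T : Set (A ⊕ ULift.{u} (Fin m))))
  let K := algebraicClosure F L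
  have hA : ∀ a : A, IsAlgebraic F (ιA a) := by
    intro a
    have ha := hT₀.isAlgebraic.isAlgebraic a
    have hle : ∀ z ∈ Algebra.adjoin k (Set.range ((↑) : T₀ → A)), ιA z ∈ F := by
      intro z hz
      induction hz using Algebra.adjoin_induction with
      | mem z hz =>
        obtain ⟨w, rfl⟩ := hz
        exact IntermediateField.subset_adjoin _ _ ⟨Sum.inl w.1, Finset.mem_coe.mpr
          (Finset.inl_mem_disjSum.mpr (Finset.mem_map.mpr ⟨w, Finset.mem_univ _, rfl⟩)), rfl⟩
      | algebraMap r => rw [AlgHom.commutes]; exact F.algebraMap_mem r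
      | add p q _ _ hp hq => rw [map_add]; exact add_mem hp hq
      | mul p q _ _ hp hq => rw [map_mul]; exact mul_mem hp hq
    let f : Algebra.adjoin k (Set.range ((↑) : T₀ → A)) →+* F :=
      { toFun := fun z => ⟨ιA z.1, hle z.1 z.2⟩
        map_one' := Subtype.ext (map_one ιA)
        map_mul' := fun p q => Subtype.ext (map_mul ιA _ _)
        map_zero' := Subtype.ext (map_zero ιA)
        map_add' := fun p q => Subtype.ext (map_add ιA _ _) }
    have hιA : Function.Injective ιA := RingHom.kerLift_injective ι.toRingHom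
    exact ha.ringHom_of_comp_eq f (ιA : A →+* L) (fun p q h => Subtype.ext (hιA (congrArg Subtype.val h))) rfl
  have hB : ∀ a : B, ι a ∈ K.restrictScalars k := fun a =>
    mem_algebraicClosure_iff.mpr (hA (Ideal.Quotient.mk _ a))
  have hxK : ∀ i, x i ∈ K.restrictScalars k := fun i => hS (K.restrictScalars k) (fun i o => hB _) (fun o => zero_mem _)
    (fun j hj => mem_algebraicClosure_iff.mpr (isAlgebraic_algebraMap (⟨_, IntermediateField.subset_adjoin _ _
      ⟨Sum.inr j, Finset.mem_coe.mpr (Finset.inr_mem_disjSum.mpr (Finset.mem_compl.mpr hj)), rfl⟩⟩ : F))) ⟨i⟩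
  have hle := ForSys.trdeg_adjoin_le (k := k) y (T : Set (A ⊕ ULift.{u} (Fin m))) T.finite_toSet (by
    rintro (a | i)
    · exact hA a
    · exact mem_algebraicClosure_iff.mp (hxK i.down))
  let xg : ULift.{u} (Fin m) → Algebra.adjoin k (Set.range y) := fun i =>
    ⟨x i.down, Algebra.subset_adjoin ⟨Sum.inr i, rfl⟩⟩
  have hxg : AlgebraicIndependent k xg :=
    AlgebraicIndependent.of_comp (Algebra.adjoin k (Set.range y)).val (hx.comp _ ULift.down_injective)
  have h2 := hxg.cardinalMk_le_trdeg.trans hle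
  rw [Cardinal.mk_fintype, Fintype.card_ulift, Fintype.card_fin, Set.ncard_coe_finset, Finset.card_disjSum,
    Finset.card_map, Finset.card_univ, hT₀card', Finset.card_compl, Fintype.card_ulift, Fintype.card_fin, hScard] at h2
  have h3 : m ≤ s + (m - Fintype.card ρ) := by exact_mod_cast h2
  have h4 := S.card_le_univ
  rw [hScard] at h4
  simp only [Fintype.card_ulift, Fintype.card_fin] at h4
  omega

theorem span_of_det {B : Type u} [CommRing B] [Algebra k B] {ρ : Type u} [Fintype ρ] [DecidableEq ρ] {m : ℕ} (col : Fin m → ρ → B)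
    {L : Type u} [Field L] [Algebra k L] (ι : B →ₐ[k] L) (a : ρ → Fin m → k)
    (hdet : ι (Matrix.det (Matrix.of fun r r' => ∑ i, algebraMap k B (a r i) * col i r')) ≠ 0) :
    Submodule.span L (Set.range fun i r => ι (col i r)) = ⊤ := by
  classical
  let M : Matrix ρ ρ B := Matrix.of fun r r' => ∑ i, algebraMap k B (a r i) * col i r'
  have hu : IsUnit (ι.toRingHom.mapMatrix M) := by
    rw [Matrix.isUnit_iff_isUnit_det, ← RingHom.map_det]
    exact isUnit_iff_ne_zero.2 hdet
  rw [eq_top_iff]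
  intro u _
  obtain ⟨w, hw⟩ := Matrix.vecMul_surjective_iff_isUnit.2 hu u
  have he : u = ∑ r, w r • ∑ i, algebraMap k L (a r i) • fun r' => ι (col i r') := by
    funext r'
    rw [← hw]
    simp [Matrix.vecMul, dotProduct, M, Finset.sum_apply, map_sum, Algebra.smul_def]
  rw [he]
  exact Submodule.sum_mem _ fun r _ => Submodule.smul_mem _ _
    (Submodule.sum_mem _ fun i _ => Submodule.smul_mem _ _ (Submodule.subset_span ⟨i, rfl⟩))

theorem exists_det_of_point {B : Type u} [CommRing B] [Algebra k B] {ρ : Type*} [Fintype ρ] [DecidableEq ρ] {m : ℕ}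
    (col : Fin m → ρ → B) (χ : B →ₐ[k] k)
    (hsurj : ∀ u : ρ → k, ∃ a : Fin m → k, ∀ r, ∑ i, a i * χ (col i r) = u r) :
    ∃ a : ρ → Fin m → k, χ (Matrix.det (Matrix.of fun r r' => ∑ i, algebraMap k B (a r i) * col i r')) = 1 := by
  classical
  choose a ha using fun r : ρ => hsurj (Pi.single r 1)
  refine ⟨a, ?_⟩
  have hMk : χ.toRingHom.mapMatrix (Matrix.of fun r r' => ∑ i, algebraMap k B (a r i) * col i r') = 1 := by
    ext r r'
    simp [ha, Matrix.one_apply, Pi.single_apply, eq_comm]
  show χ.toRingHom _ = 1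
  rw [RingHom.map_det, hMk, Matrix.det_one]

/-- The first order jet of a member. -/
noncomputable def jetv {S : Type u} [CommRing S] [Algebra k S] {n M : ℕ} (b : Module.Basis (Fin n) S Ω[S⁄k]) (g : Fin M → S)
    (χ : S →ₐ[k] k) (a : Fin M → k) : Option (Fin n) → k :=
  fun o => ∑ i, a i * χ (o.elim (g i) fun t => pd b (g i) t)

/-- Off a point where jets are surjective, one condition short of it suffices. -/
theorem exists_poly_noSing [IsAlgClosed k] {S : Type u} [CommRing S] [IsDomain S] [Algebra k S] [Algebra.Smooth k S]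
    {n M : ℕ} {z : Fin n → S} (b : Module.Basis (Fin n) S Ω[S⁄k]) (hb : ∀ t, b t = D k S (z t)) (g : Fin M → S)
    (h1 : ∀ χ : S →ₐ[k] k, ∃ μ : (Option (Fin n) → k) →ₗ[k] k, μ ≠ 0 ∧ ∀ u, μ u = 0 → ∃ a, jetv b g χ a = u)
    (h2 : ∃ A : Option (Fin n) → Fin M → k,
      Matrix.det (Matrix.of fun o o' => ∑ i, algebraMap k S (A o i) * o'.elim (g i) fun t => pd b (g i) t) ≠ 0) :
    ∃ p : MvPolynomial (Fin M) k, p ≠ 0 ∧ ∀ a, MvPolynomial.eval a p ≠ 0 → ∀ χ : S →ₐ[k] k, ¬ Sing b g a χ := by
  classical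
  haveI : IsNoetherianRing S := Algebra.FiniteType.isNoetherianRing k S
  obtain ⟨p, hp, hp'⟩ := BertiniZero.exists_poly_piece (0 : S) g b (fun L _ _ _ ι x hx0 hx1 => by
    simp only [map_zero, zero_add, Finsupp.coe_zero, Pi.zero_apply] at hx0 hx1
    let jc : Fin M → Option (Fin n) → S := fun i o => o.elim (g i) fun t => pd b (g i) t
    have hzero : ∀ o, ∑ i, x i * ι (jc i o) = 0 := fun o => by
      cases o with
      | none => exact hx0
      | some t => exact hx1 t
    have hdimS : ringKrullDim S = n := by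
      have hmin : (⊥ : Ideal S) ∈ minimalPrimes S := ⟨⟨Ideal.isPrime_bot, le_rfl⟩, fun q _ _ => bot_le⟩
      rw [← BertiniAff.ringKrullDim_quotient_minimalPrime b hb hmin]
      exact (ringKrullDim_eq_of_ringEquiv (RingEquiv.quotientBot S)).symm
    by_cases hker : RingHom.ker ι.toRingHom = ⊥
    · obtain ⟨A, hA⟩ := h2
      refine not_algebraicIndependent_rows (ρ := ULift.{u} (Option (Fin n))) (fun i o => jc i o.down) ι x
        (span_of_det _ ι (fun o => A o.down) fun h0 => hA ?_) (fun o => hzero o.down) fun s hs => ?_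
      · have h1 : ∀ y, ι y = 0 → y = 0 := fun y hy => by
          have : y ∈ RingHom.ker ι.toRingHom := hy
          rwa [hker, Ideal.mem_bot] at this
        rw [← h1 _ h0, ← Matrix.det_submatrix_equiv_self Equiv.ulift]
        rfl
      · rw [hker, ringKrullDim_eq_of_ringEquiv (RingEquiv.quotientBot S), hdimS, Nat.cast_inj] at hs
        simp [← hs]
    haveI : (RingHom.ker ι.toRingHom).IsPrime := RingHom.ker_isPrime _
    obtain ⟨P, hP, hle⟩ := Ideal.exists_le_maximal (RingHom.ker ι.toRingHom) Ideal.IsPrime.ne_top'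
    obtain ⟨χ, hχ⟩ := LefDual.exists_point (k := k) P
    obtain ⟨μ, hμ, hμ'⟩ := h1 χ
    obtain ⟨o₀, ho₀⟩ : ∃ o₀, μ (Pi.single o₀ 1) ≠ 0 := by
      by_contra! hcon
      refine hμ (LinearMap.pi_ext fun o c => ?_)
      rw [show (Pi.single o c : Option (Fin n) → k) = c • Pi.single o 1 by rw [← Pi.single_smul', smul_eq_mul, mul_one],
        map_smul, hcon, smul_zero, LinearMap.zero_apply]
    refine not_algebraicIndependent_rows (ρ := ULift.{u} {o : Option (Fin n) // o ≠ o₀}) (fun i o => jc i o.down.1) ι x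
      ?_ (fun o => hzero o.down.1) fun s hs => ?_
    · have hsurj : ∀ u : ULift.{u} {o : Option (Fin n) // o ≠ o₀} → k, ∃ a : Fin M → k,
          ∀ o, ∑ i, a i * χ (jc i o.down.1) = u o := fun u => by
        let w : Option (Fin n) → k := fun o => if ho : o = o₀ then 0 else u ⟨⟨o, ho⟩⟩
        obtain ⟨a, ha⟩ := hμ' (w - (μ w / μ (Pi.single o₀ 1)) • Pi.single o₀ 1) (by
          rw [map_sub, map_smul, smul_eq_mul, div_mul_cancel₀ _ ho₀, sub_self])
        refine ⟨a, fun o => (congrFun ha o.down.1).trans ?_⟩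
        simp [w, o.down.2]
      obtain ⟨A, hA⟩ := exists_det_of_point (fun i (o : ULift.{u} {o : Option (Fin n) // o ≠ o₀}) => jc i o.down.1) χ hsurj
      refine span_of_det _ ι A fun h0 => ?_
      have := (hχ _).1 (hle (RingHom.mem_ker.2 h0))
      rw [hA] at this
      exact one_ne_zero this
    · obtain ⟨y, hy, hy0⟩ := Submodule.exists_mem_ne_zero_of_ne_bot hker
      have h3 := ringKrullDim_succ_le_of_surjective (Ideal.Quotient.mk (RingHom.ker ι.toRingHom)) Ideal.Quotient.mk_surjective
        (mem_nonZeroDivisors_of_ne_zero hy0) (Ideal.Quotient.eq_zero_iff_mem.mpr hy)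
      rw [hdimS, hs] at h3
      have h4 : s + 1 ≤ n := by exact_mod_cast h3
      simp only [Fintype.card_ulift, Fintype.card_subtype_compl, Fintype.card_option, Fintype.card_fin,
        Fintype.card_subtype_eq]
      omega)
  refine ⟨p, hp, fun a ha χ hs => ?_⟩
  obtain ⟨t, ht⟩ := hp' a ha (RingHom.ker χ) (RingHom.ker_isPrime _) (by rw [zero_add]; exact hs.1)
  rw [zero_add] at ht
  exact ht (hs.2 t)

end Groth.Agent.LefPencil
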