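import Groth.Agent.LefPencil.LocalData

/-!
# A section with an ordinary quadratic singularity at a given point
-/

set_option autoImplicit false

universe u

open CategoryTheory CategoryTheory.Limits AlgebraicGeometry TopologicalSpace Opposite

namespace Groth.Agent.LefPencil

attribute [local instance] LefDual.pieceAlg

/-- The matrix of a hyperbolic form, completed by a square in odd dimension. -/
def hypMatrix (k : Type u) [Field k] (n : ℕ) : Fin n → Fin n → k := fun i l =>
  if i.val % 2 = 0 ∧ l.val = min (i.val + 1) (n - 1) then 1 else 0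

theorem nonSing_hypMatrix (k : Type u) [Field k] (n : ℕ) : NonSing (hypMatrix k n) := by
  classical
  rw [nonSing_iff]
  intro v hq hL
  have h0 : ∀ a : Fin n, (a.val % 2 = 1 ∨ a.val + 1 < n) → v a = 0 := by
    intro a ha
    by_cases hodd : a.val % 2 = 1
    · have h := hL ⟨a.val - 1, by omega⟩
      rw [Finset.sum_eq_single a] at h
      · simpa [hypMatrix, show (a.val - 1) % 2 = 0 by omega, show min (a.val - 1 + 1) (n - 1) = a.val by omega, hodd] using h
      · intro l _ hl
        have hl' := Fin.val_ne_iff.2 hl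
        simp only [hypMatrix]
        rw [if_neg (by omega), if_neg (by omega), add_zero, zero_mul]
      · simp
    · have ha' : a.val + 1 < n := ha.resolve_left hodd
      have h := hL ⟨a.val + 1, ha'⟩
      rw [Finset.sum_eq_single a] at h
      · simpa [hypMatrix, show a.val % 2 = 0 by omega, show min (a.val + 1) (n - 1) = a.val + 1 by omega,
          show (a.val + 1) % 2 = 1 by omega] using h
      · intro l _ hl
        have hl' := Fin.val_ne_iff.2 hl
        simp only [hypMatrix]
        rw [if_neg (by omega), if_neg (by omega), add_zero, zero_mul]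
      · simp
  funext a
  by_cases ha : a.val % 2 = 1 ∨ a.val + 1 < n
  · exact h0 a ha
  have hother : ∀ b, b ≠ a → v b = 0 := fun b hb => h0 b (Or.inr (by have := Fin.val_ne_iff.2 hb; omega))
  have haa : hypMatrix k n a a = 1 := if_pos ⟨by omega, by omega⟩
  rw [qv, Finset.sum_eq_single a (fun b _ hb => Finset.sum_eq_zero fun l _ => by rw [hother b hb]; ring) (by simp),
    Finset.sum_eq_single a (fun b _ hb => by rw [hother b hb]; ring) (by simp), haa, one_mul] at hq
  exact mul_self_eq_zero.1 hq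

variable {k : Type u} [Field k] [IsAlgClosed k] {r : ℕ} {X : Scheme.{u}} (ι : X ⟶ CohB1.ProjSpace r k)
  [IsClosedImmersion ι]

theorem exists_nondeg_at [IrreducibleSpace X] {m : ℕ} [SmoothOfRelativeDimension (m + 1) (ι ≫ CohB1.ProjSpace.toSpec r k)]
    (j : Fin (r + 1)) (P : Ideal Γ(X, BertiniHyp.piece ι j)) [hP : P.IsMaximal] (d : ℕ) (hd : 2 ≤ d) :
    ∃ H : LefPen.Form r k d, LefDual.pform ι j H ∈ P ∧
      Nondeg k (m + 1) (algebraMap _ (Localization.AtPrime P) (LefDual.pform ι j H)) := by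
  classical
  haveI : Smooth (ι ≫ CohB1.ProjSpace.toSpec r k) := SmoothOfRelativeDimension.smooth (m + 1) _
  haveI := LefDual.piece_smooth ι j
  haveI := LefDual.finiteType_piece ι j
  obtain ⟨h, hhP, -, e, σ, b, -, hb⟩ := BertiniAff.exists_piece (LefDual.pcoord ι j) (LefDual.aeval_pcoord_surjective ι j) P
    (f := 1) (fun h1 => hP.ne_top ((Ideal.eq_top_iff_one _).2 h1))
    (Algebra.Smooth.comp k Γ(X, BertiniHyp.piece ι j) (Localization.Away (1 : Γ(X, BertiniHyp.piece ι j))))
  obtain ⟨g, hgP, ⟨eb⟩⟩ := LefDual.exists_notMem_basis (LefDual.piece_locally ι (n := m + 1) j) P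
  obtain rfl : e = m + 1 := le_antisymm (LefDual.relDim_le_of_bases P hhP hgP b eb) (LefDual.relDim_le_of_bases P hgP hhP eb b)
  obtain ⟨χ₀, hχ₀⟩ := LefDual.exists_point (k := k) P
  obtain ⟨χh, hχh⟩ := exists_lift_away h χ₀ fun e0 => hhP ((hχ₀ h).2 e0)
  let c := hypMatrix k (m + 1)
  let L : Fin (m + 1) → MvPolynomial (Fin (r + 1)) k := fun i =>
    MvPolynomial.X (σ i) - MvPolynomial.C (χ₀ (LefDual.pcoord ι j (σ i))) * MvPolynomial.X j
  have hL : ∀ i, (L i).IsHomogeneous 1 := fun i =>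
    (MvPolynomial.isHomogeneous_X k _).sub ((MvPolynomial.isHomogeneous_X k j).C_mul _)
  let H : LefPen.Form r k d := ⟨MvPolynomial.X j ^ (d - 2) * ∑ i, ∑ l, MvPolynomial.C (c i l) * (L i * L l), by
    have h2 := (MvPolynomial.isHomogeneous_X_pow (R := k) j (d - 2)).mul (MvPolynomial.IsHomogeneous.sum Finset.univ _ 2 fun i _ =>
      MvPolynomial.IsHomogeneous.sum Finset.univ _ 2 fun l _ => ((hL i).mul (hL l)).C_mul (c i l))
    rwa [Nat.sub_add_cancel hd] at h2⟩
  have hH : LefDual.pform ι j H = ∑ i, ∑ l, algebraMap k _ (c i l) *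
      ((LefDual.pcoord ι j (σ i) - algebraMap k _ (χ₀ (LefDual.pcoord ι j (σ i)))) *
        (LefDual.pcoord ι j (σ l) - algebraMap k _ (χ₀ (LefDual.pcoord ι j (σ l))))) := by
    rw [LefDual.pform_eq_aeval]
    simp [H, L, LefDual.pcoord_self]
  have hHP : LefDual.pform ι j H ∈ P := by
    rw [hH, hχ₀]
    simp
  haveI := regular_localization ι j P
  obtain ⟨φ, -, hcrit⟩ := coord_criterion b hb χh P (fun a => by rw [hχh, hχ₀]) (residue_bijective ι j P)
  have hnd : Nondeg k (m + 1) (algebraMap _ (Localization.AtPrime P) (LefDual.pform ι j H)) := by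
    refine (hcrit _ c ?_).2 (nonSing_hypMatrix k (m + 1))
    rw [hH]
    simp only [map_sum, map_mul, map_sub, hχh, ← IsScalarTower.algebraMap_apply, sub_self]
    exact zero_mem _
  exact ⟨H, hHP, hnd⟩

theorem exists_ordQuadSing_at [IrreducibleSpace X] {m : ℕ} [SmoothOfRelativeDimension (m + 1) (ι ≫ CohB1.ProjSpace.toSpec r k)]
    (x₀ : X) (hx₀ : IsClosed ({x₀} : Set X)) (d : ℕ) (hd : 2 ≤ d) :
    ∃ (H : LefPen.Form r k d) (y : LefPen.Sec ι ({H} : Set (LefPen.Form r k d))),
      LefPen.secι ι ({H} : Set (LefPen.Form r k d)) y = x₀ ∧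
      LefPen.IsOrdQuadSing k m (LefPen.secToSpec ι ({H} : Set (LefPen.Form r k d))) y := by
  classical
  haveI : Smooth (ι ≫ CohB1.ProjSpace.toSpec r k) := SmoothOfRelativeDimension.smooth (m + 1) _
  obtain ⟨j, hj⟩ := exists_piece_mem ι x₀
  obtain ⟨P, hP, rfl⟩ := exists_pt ι hj hx₀
  haveI := hP
  obtain ⟨H, hHP, hnd⟩ := exists_nondeg_at ι j P d hd (m := m)
  obtain ⟨f, hfo, hfι, hfk, hfr⟩ := exists_chartMap ι H j
  haveI := hfo
  let K : Ideal Γ(X, BertiniHyp.piece ι j) := Ideal.span {LefDual.pform ι j H}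
  have hKP : K ≤ P := (Ideal.span_singleton_le_iff_mem _).2 hHP
  have hc : (P.map (Ideal.Quotient.mk K)).comap (Ideal.Quotient.mk K) = P := by
    rw [Ideal.comap_map_of_surjective _ Ideal.Quotient.mk_surjective, ← RingHom.ker_eq_comap_bot, Ideal.mk_ker]
    exact sup_eq_left.2 hKP
  let q : PrimeSpectrum (SecPiece ι H j) := ⟨P.map (Ideal.Quotient.mk K),
    Ideal.map_isPrime_of_surjective Ideal.Quotient.mk_surjective (by rw [Ideal.mk_ker]; exact hKP)⟩
  have hx : LefPen.secι ι ({H} : Set (LefPen.Form r k d)) (f q) = pt ι j ⟨P, hP.isPrime⟩ :=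
    (congrArg (fun φ : Spec (CommRingCat.of (SecPiece ι H j)) ⟶ X => φ q) hfι).trans
      (congrArg (pt ι j) (PrimeSpectrum.ext hc))
  refine ⟨H, f q, hx, (isOrdQuadSing_iff ι H j P (exists_chart_dim ι (n := m + 1) j P) hHP f hfk q hc ?_).2 hnd⟩
  have hsec := (LefPen.secι ι ({H} : Set (LefPen.Form r k d))).isClosedEmbedding
  have : ({f q} : Set (LefPen.Sec ι ({H} : Set (LefPen.Form r k d)))) =
      LefPen.secι ι ({H} : Set (LefPen.Form r k d)) ⁻¹' {pt ι j ⟨P, hP.isPrime⟩} := by
    ext z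
    rw [Set.mem_preimage, Set.mem_singleton_iff, Set.mem_singleton_iff, ← hx]
    exact ⟨fun h => congrArg _ h, fun h => hsec.injective h⟩
  rw [this]
  exact (pt_isClosed ι j P hP).preimage hsec.continuous

end Groth.Agent.LefPencil
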