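import Groth.Agent.LefPencil.Pencil
import Groth.Agent.LefPencil.Avoid
import Groth.Agent.LefPencil.Exists

/-!
# Lefschetz pencils through a transversal member
-/

set_option autoImplicit false

universe u

open CategoryTheory CategoryTheory.Limits AlgebraicGeometry TopologicalSpace Opposite

namespace Groth.Agent.LefPencil

attribute [local instance] LefDual.pieceAlg

section Algebra

variable {k : Type u} [Field k] [IsAlgClosed k] {A : Type u} [CommRing A] [Algebra k A] [Algebra.Smooth k A]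

/-- The general member of a system separating jets has no singular point. -/
theorem exists_poly_notMem_sq {M : ℕ} (g : Fin M → A)
    (hjet : ∀ P : Ideal A, P.IsMaximal → ∀ y : A, ∃ c : Fin M → k, y - ∑ i, algebraMap k A (c i) * g i ∈ P ^ 2) :
    ∃ p : MvPolynomial (Fin M) k, p ≠ 0 ∧ ∀ a, MvPolynomial.eval a p ≠ 0 →
      ∀ P : Ideal A, P.IsMaximal → ∑ i, algebraMap k A (a i) * g i ∉ P ^ 2 := by
  classical
  haveI : IsNoetherianRing A := Algebra.FiniteType.isNoetherianRing k A
  obtain ⟨p, hp, hps⟩ := BertiniZero.bertini_jets (k := k) (0 : A) g hjet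
  have hlin : ∀ Q : ↥(minimalPrimes A), ∃ l : MvPolynomial (Fin M) k, l ≠ 0 ∧
      ∀ a, MvPolynomial.eval a l ≠ 0 → ∑ i, algebraMap k A (a i) * g i ∉ Q.1 := by
    rintro ⟨Q, hQ⟩
    haveI : Q.IsPrime := hQ.1.1
    obtain ⟨P, hP, hQP⟩ := Q.exists_le_maximal Ideal.IsPrime.ne_top'
    obtain ⟨c, hc⟩ := hjet P hP 1
    have hc' : Ideal.Quotient.mk Q (∑ i, algebraMap k A (c i) * g i) ≠ 0 := fun h => by
      rw [Ideal.Quotient.eq_zero_iff_mem] at h
      refine hP.ne_top ((Ideal.eq_top_iff_one _).2 ?_)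
      simpa using add_mem (Ideal.pow_le_self two_ne_zero hc) (hQP h)
    obtain ⟨μ, hμ⟩ := Module.Projective.exists_dual_ne_zero k hc'
    have hev : ∀ a : Fin M → k, MvPolynomial.eval a (∑ i, MvPolynomial.C (μ (Ideal.Quotient.mk Q (g i))) * MvPolynomial.X i) =
        μ (Ideal.Quotient.mk Q (∑ i, algebraMap k A (a i) * g i)) := fun a => by
      rw [map_sum, map_sum, map_sum]
      refine Finset.sum_congr rfl fun i _ => ?_
      rw [map_mul, MvPolynomial.eval_C, MvPolynomial.eval_X, map_mul,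
        show Ideal.Quotient.mk Q (algebraMap k A (a i)) = algebraMap k (A ⧸ Q) (a i) from rfl, ← Algebra.smul_def, map_smul,
        smul_eq_mul, mul_comm]
    refine ⟨∑ i, MvPolynomial.C (μ (Ideal.Quotient.mk Q (g i))) * MvPolynomial.X i, fun h => hμ ?_, fun a ha hmem => ha ?_⟩
    · rw [← hev, h, map_zero]
    · rw [hev, Ideal.Quotient.eq_zero_iff_mem.2 hmem, map_zero]
  choose l hl hl' using hlin
  haveI : Fintype ↥(minimalPrimes A) := (minimalPrimes.finite_of_isNoetherianRing A).fintype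
  refine ⟨p * ∏ Q, l Q, mul_ne_zero hp (Finset.prod_ne_zero_iff.2 fun Q _ => hl Q), fun a ha P hP hbad => ?_⟩
  rw [map_mul, map_prod, mul_ne_zero_iff, Finset.prod_ne_zero_iff] at ha
  haveI := hP
  have hsm := hps a ha.1
  rw [zero_add] at hsm
  haveI := hsm
  haveI := CotLib.isGeometricallyReduced_of_isAlgClosed (k := k) (K := P.ResidueField)
  haveI : Algebra.IsSmoothAt k P := by
    show Algebra.FormallySmooth k (Localization.AtPrime P)
    exact Algebra.FormallySmooth.comp k A _
  haveI : IsRegularLocalRing (Localization.AtPrime P) := (CotLib.isSmoothAt_iff_regular P).1 ‹_›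
  refine LefDual.notMem_sq_of_regular_quotient ?_
    (BertiniHyp.regular_quotient_of_smooth (k := k) (∑ i, algebraMap k A (a i) * g i) P
      (Ideal.pow_le_self two_ne_zero hbad) (S := Localization.AtPrime P))
    ((algebraMap_mem_sq_iff P _).2 hbad)
  intro h0
  obtain ⟨⟨c, hc⟩, hcg⟩ := (IsLocalization.map_eq_zero_iff P.primeCompl (Localization.AtPrime P) _).1 h0
  obtain ⟨Q, hQ, hQP⟩ := Ideal.exists_minimalPrimes_le (bot_le : (⊥ : Ideal A) ≤ P)
  haveI : Q.IsPrime := hQ.1.1
  refine hl' ⟨Q, hQ⟩ a (ha.2 _ (Finset.mem_univ _)) ((Ideal.IsPrime.mem_or_mem ‹_› ?_).resolve_left fun h => hc (hQP h))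
  rw [show c * ∑ i, algebraMap k A (a i) * g i = 0 from hcg]
  exact zero_mem _

end Algebra

variable {k : Type u} [Field k] [IsAlgClosed k] {r : ℕ} {X : Scheme.{u}} (ι : X ⟶ CohB1.ProjSpace r k)
  [IsClosedImmersion ι] {d : ℕ}

/-- The general form meets a transversal section transversally. -/
theorem exists_poly_base_good [IrreducibleSpace X] {m : ℕ} [SmoothOfRelativeDimension (m + 1) (ι ≫ CohB1.ProjSpace.toSpec r k)]
    (hd : 1 ≤ d) (h : LefPen.Form r k d) (hgood : ¬ LefDual.Bad ι h) :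
    ∃ p : MvPolynomial (ForSys.Mon r d) k, p ≠ 0 ∧ ∀ G : LefPen.Form r k d,
      MvPolynomial.eval (ForSys.formEquiv k r d G) p ≠ 0 → ¬ BadBase ι h G := by
  classical
  haveI : Smooth (ι ≫ CohB1.ProjSpace.toSpec r k) := SmoothOfRelativeDimension.smooth (m + 1) _
  haveI := fun j => LefDual.piece_smooth ι j
  haveI := fun j => LefDual.finiteType_piece ι j
  let eT := (Fintype.equivFin (ForSys.Mon r d)).symm
  haveI hsmq : ∀ j, Algebra.Smooth k (Γ(X, BertiniHyp.piece ι j) ⧸ Ideal.span {LefDual.pform ι j h}) := fun j => by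
    have h1 := LefDual.locally_quotient_of_good (LefDual.piece_locally ι (n := m + 1) j) (LefDual.pform ι j h)
      fun P hP hm => hgood ⟨j, P, hP, hm⟩
    have h2 : SmoothOfRelativeDimension m (Spec.map (CommRingCat.ofHom (algebraMap k
        (Γ(X, BertiniHyp.piece ι j) ⧸ Ideal.span {LefDual.pform ι j h})))) :=
      (HasRingHomProperty.Spec_iff (P := @SmoothOfRelativeDimension m)).2 h1
    have h3 : Smooth (Spec.map (CommRingCat.ofHom (algebraMap k
        (Γ(X, BertiniHyp.piece ι j) ⧸ Ideal.span {LefDual.pform ι j h})))) := SmoothOfRelativeDimension.smooth m _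
    exact RingHom.smooth_algebraMap.1 ((HasRingHomProperty.Spec_iff (P := @Smooth)).1 h3)
  have hjet : ∀ j (P₁ : Ideal (Γ(X, BertiniHyp.piece ι j) ⧸ Ideal.span {LefDual.pform ι j h})), P₁.IsMaximal →
      ∀ y, ∃ c : Fin (Fintype.card (ForSys.Mon r d)) → k,
        y - ∑ i, algebraMap k _ (c i) * Ideal.Quotient.mk _ (LefDual.pbasis ι d j (eT i)) ∈ P₁ ^ 2 := by
    intro j P₁ hP₁ y
    haveI := hP₁
    let P := P₁.comap (Ideal.Quotient.mk (Ideal.span {LefDual.pform ι j h}))
    haveI : P.IsMaximal := Ideal.comap_isMaximal_of_surjective _ Ideal.Quotient.mk_surjective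
    obtain ⟨y, rfl⟩ := Ideal.Quotient.mk_surjective y
    obtain ⟨χ, hχ⟩ := LefDual.exists_point (k := k) P
    obtain ⟨w, hw⟩ := LefDual.jet_surjective ι hd j (y, KaehlerDifferential.D k _ y)
    refine ⟨fun i => χ (w (eT i)), ?_⟩
    have h1 : w - (fun s => algebraMap k _ (χ (w s))) ∈ P • (⊤ : Submodule Γ(X, BertiniHyp.piece ι j) (ForSys.Mon r d → Γ(X, BertiniHyp.piece ι j))) :=
      (LefDual.mem_smul_top_pi P _).2 fun s => by rw [hχ]; simp
    have h2 := LefDual.map_mem_smul_top P (LefDual.jet (k := k) (LefDual.pbasis ι d j)) h1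
    rw [map_sub, hw, LefDual.jet_const, Prod.mk_sub_mk, LefDual.mem_smul_top_prod, ← map_sub] at h2
    have h4 := Ideal.mem_map_of_mem (Ideal.Quotient.mk (Ideal.span {LefDual.pform ι j h})) ((LefDual.mem_sq_iff (k := k) P _).2 h2)
    rw [Ideal.map_pow] at h4
    have h5 := Ideal.pow_right_mono Ideal.map_comap_le 2 h4
    refine (congrArg (· ∈ P₁ ^ 2) ?_).mp h5
    rw [map_sub]
    congr 1
    simp only [LefDual.member, map_sum, map_mul]
    exact (Fintype.sum_equiv eT _ _ fun i => rfl).symm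
  choose p hp hp' using fun j => exists_poly_notMem_sq (k := k)
    (fun i => Ideal.Quotient.mk (Ideal.span {LefDual.pform ι j h}) (LefDual.pbasis ι d j (eT i))) (hjet j)
  refine ⟨∏ j, MvPolynomial.rename eT (p j), Finset.prod_ne_zero_iff.2 fun j _ h0 => hp j
    (MvPolynomial.rename_injective _ eT.injective (h0.trans (map_zero _).symm)), fun G hG => ?_⟩
  rw [map_prod, Finset.prod_ne_zero_iff] at hG
  rintro ⟨j, P, hP, hh, -, s, t, hst, hbad⟩
  have ht : t ≠ 0 := by
    rintro rfl
    have hs : s ≠ 0 := hst.elim id fun h' => absurd rfl h'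
    refine hgood ⟨j, P, hP, ?_⟩
    rw [zero_smul, add_zero] at hbad
    have := Ideal.mul_mem_left _ (algebraMap k _ s⁻¹) hbad
    rwa [← pform_smul, inv_smul_smul₀ hs] at this
  haveI := hP
  let mk := Ideal.Quotient.mk (Ideal.span {LefDual.pform ι j h})
  have hmax : (P.map mk).IsMaximal := Ideal.IsMaximal.map_of_surjective_of_ker_le Ideal.Quotient.mk_surjective
    (by rw [Ideal.mk_ker]; exact (Ideal.span_singleton_le_iff_mem _).2 hh)
  have h1 := Ideal.mem_map_of_mem mk hbad
  have hh0 : mk (LefDual.pform ι j h) = 0 := Ideal.Quotient.eq_zero_iff_mem.2 (Ideal.mem_span_singleton_self _)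
  rw [Ideal.map_pow, pform_add, pform_smul, pform_smul, map_add, map_mul, map_mul, hh0, mul_zero, zero_add] at h1
  have hu : IsUnit (mk (algebraMap k _ t)) := ((isUnit_iff_ne_zero.2 ht).map _).map _
  rw [Ideal.unit_mul_mem_iff_mem _ hu] at h1
  have hne := hG j (Finset.mem_univ j)
  rw [MvPolynomial.eval_rename] at hne
  refine hp' j _ hne _ hmax ((congrArg (· ∈ P.map mk ^ 2) ?_).mp h1)
  rw [← LefDual.member_pbasis ι j G]
  simp only [LefDual.member, map_sum, map_mul]
  exact (Fintype.sum_equiv eT _ _ fun i => rfl).symm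

theorem exists_closedPoint_piece [IrreducibleSpace X] [Smooth (ι ≫ CohB1.ProjSpace.toSpec r k)] :
    ∃ (j : Fin (r + 1)) (P : Ideal Γ(X, BertiniHyp.piece ι j)), P.IsMaximal := by
  haveI := LefDual.jacobsonSpace_of_immersion ι
  obtain ⟨x, -, hx⟩ := nonempty_inter_closedPoints (X := X) (Z := Set.univ) Set.univ_nonempty isOpen_univ.isLocallyClosed
  obtain ⟨j, hj⟩ := exists_piece_mem ι x
  obtain ⟨P, hP, -⟩ := exists_pt ι hj hx
  exact ⟨j, P, hP⟩

theorem bad_zero [IrreducibleSpace X] [Smooth (ι ≫ CohB1.ProjSpace.toSpec r k)] : LefDual.Bad ι (0 : LefPen.Form r k d) := by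
  obtain ⟨j, P, hP⟩ := exists_closedPoint_piece ι
  exact ⟨j, P, hP, by rw [LefDual.pform_eq_aeval]; simp⟩

/-- Most lines through a transversal member avoid the forms that are too singular. -/
theorem exists_poly_line [IrreducibleSpace X] {m : ℕ} [SmoothOfRelativeDimension (m + 1) (ι ≫ CohB1.ProjSpace.toSpec r k)]
    (hd : 1 ≤ d) (h : LefPen.Form r k d) (hgood : ¬ LefDual.Bad ι h)
    (hex : (∃ H : LefPen.Form r k d, LefDual.Bad ι H ∧ LefPen.OneOrdQuad k (m + 1) ι H) ∨
      ∃ F G : LefPen.Form r k d, ∀ s t : k, (s ≠ 0 ∨ t ≠ 0) → ¬ LefDual.Bad ι (s • F + t • G)) :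
    ∃ p : MvPolynomial (ForSys.Mon r d) k, p ≠ 0 ∧ ∀ G : LefPen.Form r k d,
      MvPolynomial.eval (ForSys.formEquiv k r d G) p ≠ 0 → ∀ s t : k, (s ≠ 0 ∨ t ≠ 0) →
        LefDual.Bad ι (s • h + t • G) → LefPen.OneOrdQuad k (m + 1) ι (s • h + t • G) := by
  classical
  haveI : Smooth (ι ≫ CohB1.ProjSpace.toSpec r k) := SmoothOfRelativeDimension.smooth (m + 1) _
  haveI := LefDual.isIntegral_of_embedded (n := m + 1) ι
  let E := ForSys.formEquiv k r d
  obtain ⟨s₀, hs₀⟩ : ∃ s, E h s ≠ 0 := by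
    by_contra! hcon
    have : h = 0 := E.injective (by rw [map_zero]; exact funext hcon)
    exact hgood (this ▸ bad_zero ι)
  let q : Ideal (MvPolynomial (ForSys.Mon r d) k) := MvPolynomial.vanishingIdeal k {a | LefDual.Bad ι (E.symm a)}
  have hqmem : ∀ f, f ∈ q ↔ ∀ G, LefDual.Bad ι G → MvPolynomial.eval (E G) f = 0 := fun f => by
    rw [MvPolynomial.mem_vanishingIdeal_iff]
    refine ⟨fun hf G hG => ?_, fun hf a ha => ?_⟩
    · have := hf (E G) (by simpa using hG)
      rwa [MvPolynomial.aeval_eq_eval] at this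
    · rw [MvPolynomial.aeval_eq_eval]
      simpa using hf _ ha
  haveI hqprime : q.IsPrime := by
    refine ⟨fun htop => ?_, fun {f g} hfg => ?_⟩
    · have := (hqmem 1).1 (htop ▸ trivial) 0 (bad_zero ι)
      simp at this
    · simp only [hqmem] at hfg ⊢
      exact LefDual.bad_irreducible ι hd f g hfg
  obtain ⟨f₀, hf₀, hf₀'⟩ := LefDual.exists_poly_good ι h hgood
  have hq0 : q ≠ ⊥ := fun hb => by
    have : f₀ ∈ q := (hqmem f₀).2 fun G hG => by_contra fun hne => hf₀' G hne hG
    rw [hb, Ideal.mem_bot] at this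
    exact hf₀ (by rw [this, map_zero])
  let e := pointEquiv (E h) s₀ hs₀
  have hprime : ∀ P : Ideal (MvPolynomial (ForSys.Mon r d) k), P.IsPrime → q ≤ P →
      (P.comap e.symm).comap (MvPolynomial.rename (R := k) (some : {s // s ≠ s₀} → Option {s // s ≠ s₀})) = ⊥ →
        P = q := fun P hP hle hbot => by
    haveI := hP
    have h1 := eq_of_comap_rename_eq_bot (p := q.comap e.symm) (q := P.comap e.symm) (Ideal.comap_mono hle) (fun hb => hq0 <| by
      rw [eq_bot_iff]
      intro x hx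
      have h2 : e x ∈ q.comap e.symm := by simpa [Ideal.mem_comap] using hx
      rw [hb, Ideal.mem_bot] at h2
      exact e.injective (h2.trans (map_zero e).symm)) hbot
    ext x
    have := SetLike.ext_iff.1 h1 (e x)
    simpa [Ideal.mem_comap] using this.symm
  let W : (ForSys.Mon r d → k) → Prop := fun a =>
    LefDual.Bad ι (E.symm a) ∧ ¬ LefPen.OneOrdQuad k (m + 1) ι (E.symm a)
  have hWscale : ∀ a (c : k), c ≠ 0 → W a → W (c • a) := fun a c hc ha => by
    simp only [W, map_smul]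
    exact ⟨bad_smul ι ha.1, fun h1 => ha.2 (by simpa [inv_smul_smul₀ hc] using oneOrd_smul ι (inv_ne_zero hc) h1)⟩
  have finish : ∀ J : Ideal (MvPolynomial (ForSys.Mon r d) k), (∀ P : Ideal (MvPolynomial (ForSys.Mon r d) k), P.IsPrime → J ≤ P →
        (P.comap e.symm).comap (MvPolynomial.rename (R := k) (some : {s // s ≠ s₀} → Option {s // s ≠ s₀})) ≠ ⊥) →
      (∀ a, W a → ∀ p ∈ J, MvPolynomial.eval a p = 0) →
      ∃ p : MvPolynomial (ForSys.Mon r d) k, p ≠ 0 ∧ ∀ G : LefPen.Form r k d,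
        MvPolynomial.eval (E G) p ≠ 0 → ∀ s t : k, (s ≠ 0 ∨ t ≠ 0) →
          LefDual.Bad ι (s • h + t • G) → LefPen.OneOrdQuad k (m + 1) ι (s • h + t • G) := by
    intro J hJ hWJ
    obtain ⟨p, hp, hp'⟩ := exists_poly_avoid (E h) s₀ hs₀ J hJ W hWJ hWscale (fun hW => hgood (by simpa [W] using hW.1))
    refine ⟨p, hp, fun G hG s t hst hb => by_contra fun ho => hp' _ hG s t hst ?_⟩
    simp only [W, ← map_smul, ← map_add, LinearEquiv.symm_apply_apply]
    exact ⟨hb, ho⟩
  rcases hex with ⟨H₀, hH₀, hH₀'⟩ | ⟨F, G', hFG⟩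
  · obtain ⟨f, hf, hf'⟩ := exists_poly_oneOrdQuad ι H₀ hH₀'
    refine finish (q ⊔ Ideal.span {f}) (fun P hP hle hbot => ?_) fun a ha p hp => ?_
    · have := hprime P hP (le_sup_left.trans hle) hbot
      exact hf ((hqmem f).1 (this ▸ hle (Ideal.mem_sup_right (Ideal.mem_span_singleton_self f))) H₀ hH₀)
    · obtain ⟨u, hu, w, hw, rfl⟩ := Submodule.mem_sup.1 hp
      obtain ⟨c, rfl⟩ := Ideal.mem_span_singleton'.1 hw
      have h1 : MvPolynomial.eval a u = 0 := by simpa [E] using (hqmem u).1 hu _ ha.1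
      have h2 : MvPolynomial.eval a f = 0 := by_contra fun hne => ha.2 (hf' _ (by simpa [E] using hne) ha.1)
      rw [map_add, map_mul, h1, h2, mul_zero, add_zero]
  · refine finish q (fun P hP hle hbot => ?_) fun a ha p hp => by simpa [E] using (hqmem p).1 hp _ ha.1
    obtain rfl := hprime P hP hle hbot
    -- the equations are one equation
    obtain ⟨g', hg', hg'p⟩ := Ideal.IsPrime.exists_mem_prime_of_ne_bot (R := MvPolynomial (Option {s // s ≠ s₀}) k)
      (I := q.comap e.symm) inferInstance (fun hb => hq0 <| by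
        rw [eq_bot_iff]
        intro x hx
        have h2 : e x ∈ q.comap e.symm := by simpa [Ideal.mem_comap] using hx
        rw [hb, Ideal.mem_bot] at h2
        exact e.injective (h2.trans (map_zero e).symm))
    haveI := (Ideal.span_singleton_prime hg'p.ne_zero).2 hg'p
    have heq := eq_of_comap_rename_eq_bot (p := Ideal.span {g'}) ((Ideal.span_singleton_le_iff_mem _).2 hg')
      (fun hb => hg'p.ne_zero (Ideal.span_singleton_eq_bot.1 hb)) hbot
    let g := e.symm g'
    have hgq : g ∈ q := hg'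
    have hsurj : ∀ x ∈ q, ∃ c, x = c * g := fun x hx => by
      have h2 : e x ∈ Ideal.span {g'} := by rw [heq]; simpa [Ideal.mem_comap] using hx
      obtain ⟨c, hc⟩ := Ideal.mem_span_singleton'.1 h2
      exact ⟨e.symm c, by rw [← map_mul, hc, AlgEquiv.symm_apply_apply]⟩
    obtain ⟨s, t, hst, hz⟩ := exists_zero_on_plane g (by simpa [E] using (hqmem g).1 hgq 0 (bad_zero ι)) (E F) (E G')
    refine hFG s t hst (by_contra fun hgd => ?_)
    obtain ⟨f, hf, hf'⟩ := LefDual.exists_poly_good ι _ hgd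
    obtain ⟨c, rfl⟩ := hsurj f ((hqmem f).2 fun G hG => by_contra fun hne => hf' G hne hG)
    rw [map_mul, map_add, map_smul, map_smul, hz, mul_zero] at hf
    exact hf rfl

theorem exists_poly_indep (F G : LefPen.Form r k d) (hli : LinearIndependent k ![F, G]) (h : LefPen.Form r k d) (hh : h ≠ 0) :
    ∃ p : MvPolynomial (ForSys.Mon r d) k, p ≠ 0 ∧ ∀ G' : LefPen.Form r k d,
      MvPolynomial.eval (ForSys.formEquiv k r d G') p ≠ 0 → LinearIndependent k ![h, G'] := by
  classical
  let E := ForSys.formEquiv k r d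
  obtain ⟨u, hu⟩ : ∃ u, E h u ≠ 0 := by
    by_contra! hcon
    exact hh (E.injective (by rw [map_zero]; exact funext hcon))
  obtain ⟨G₁, w, hw⟩ : ∃ (G₁ : LefPen.Form r k d) (w : ForSys.Mon r d), E h u * E G₁ w - E h w * E G₁ u ≠ 0 := by
    by_contra! hcon
    have hall : ∀ G₁ : LefPen.Form r k d, E h u • G₁ = E G₁ u • h := fun G₁ => E.injective (funext fun w => by
      simp only [map_smul, Pi.smul_apply, smul_eq_mul]
      linear_combination hcon G₁ w)
    rw [LinearIndependent.pair_iff] at hli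
    have hF := hall F
    have hG := hall G
    have h0 : (E G u * E h u) • F + (-(E F u * E h u)) • G = 0 := by
      refine E.injective (funext fun w => ?_)
      rw [formEquiv_comb, map_zero, Pi.zero_apply]
      have e1 := congrFun (congrArg E hF) w
      have e2 := congrFun (congrArg E hG) w
      simp only [map_smul, Pi.smul_apply, smul_eq_mul] at e1 e2
      linear_combination (E G u) * e1 - (E F u) * e2
    have hF0 : E F u = 0 := by
      have := (hli _ _ h0).2
      simpa [hu] using this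
    rw [hF0, zero_smul] at hF
    have := hli 1 0 (by simp [(smul_eq_zero.1 hF).resolve_left hu])
    simp at this
  refine ⟨MvPolynomial.C (E h u) * MvPolynomial.X w - MvPolynomial.C (E h w) * MvPolynomial.X u, fun h0 => hw ?_, fun G' hG' => ?_⟩
  · have := congrArg (MvPolynomial.eval (E G₁)) h0
    simpa using this
  · simp only [map_sub, map_mul, MvPolynomial.eval_C, MvPolynomial.eval_X] at hG'
    rw [LinearIndependent.pair_iff]
    intro s t hst
    have h2 := congrArg E hst
    rw [formEquiv_comb, map_zero] at h2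
    have e1 := congrFun h2 u
    have e2 := congrFun h2 w
    simp only [Pi.zero_apply] at e1 e2
    refine ⟨(mul_eq_zero.1 ?_).resolve_right hG', (mul_eq_zero.1 ?_).resolve_right hG'⟩
    · linear_combination (E G' w) * e1 - (E G' u) * e2
    · linear_combination (E h u) * e2 - (E h w) * e1

/-- Most pencils through a transversal member are Lefschetz pencils. -/
theorem exists_poly_through [IrreducibleSpace X] {m : ℕ} [SmoothOfRelativeDimension (m + 1) (ι ≫ CohB1.ProjSpace.toSpec r k)]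
    (hd : 1 ≤ d) (F₁ G₁ : LefPen.Form r k d) (hli : LinearIndependent k ![F₁, G₁]) (h : LefPen.Form r k d)
    (hgood : ¬ LefDual.Bad ι h)
    (hex : (∃ H : LefPen.Form r k d, LefDual.Bad ι H ∧ LefPen.OneOrdQuad k (m + 1) ι H) ∨
      ∃ F G : LefPen.Form r k d, ∀ s t : k, (s ≠ 0 ∨ t ≠ 0) → ¬ LefDual.Bad ι (s • F + t • G)) :
    ∃ p : MvPolynomial (ForSys.Mon r d) k, p ≠ 0 ∧ ∀ G : LefPen.Form r k d,
      MvPolynomial.eval (ForSys.formEquiv k r d G) p ≠ 0 → LefPen.IsLefschetzPencil k (m + 1) ι d h G := by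
  classical
  haveI : Smooth (ι ≫ CohB1.ProjSpace.toSpec r k) := SmoothOfRelativeDimension.smooth (m + 1) _
  have hn : 1 ≤ m + 1 := by omega
  obtain ⟨p₁, hp₁, hp₁'⟩ := exists_poly_base_good ι (m := m) hd h hgood
  obtain ⟨p₂, hp₂, hp₂'⟩ := exists_poly_line ι hd h hgood hex
  obtain ⟨p₃, hp₃, hp₃'⟩ := exists_poly_indep F₁ G₁ hli h fun h0 => hgood (h0 ▸ bad_zero ι)
  obtain ⟨qg, hqg, hqg'⟩ := LefDual.exists_poly_good ι h hgood
  refine ⟨p₁ * p₂ * p₃, mul_ne_zero (mul_ne_zero hp₁ hp₂) hp₃, fun G hG => ?_⟩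
  rw [map_mul, map_mul, mul_ne_zero_iff, mul_ne_zero_iff] at hG
  refine ⟨hp₃' G hG.2, ?_, ?_, ?_⟩
  · exact (transversal_two_iff ι h G 0 (by simpa using hgood)).2 (hp₁' G hG.1.1)
  · let φ : Polynomial k := MvPolynomial.aeval
      (fun s => Polynomial.C (ForSys.formEquiv k r d h s) + Polynomial.X * Polynomial.C (ForSys.formEquiv k r d G s)) qg
    have hφ : ∀ c : k, φ.eval c = MvPolynomial.eval (ForSys.formEquiv k r d (h + c • G)) qg := fun c => by
      rw [← Polynomial.coe_aeval_eq_eval, comp_aeval_eval]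
      refine congrArg (fun x => MvPolynomial.eval x qg) (funext fun s => ?_)
      simp [map_add, map_smul]
      ring
    refine Set.Finite.subset φ.roots.toFinset.finite_toSet fun c hc => ?_
    rw [Finset.mem_coe, Multiset.mem_toFinset, Polynomial.mem_roots']
    refine ⟨fun h0 => hqg (by have := hφ 0; rw [h0, Polynomial.eval_zero, zero_smul, add_zero] at this; exact this.symm), ?_⟩
    by_contra hr
    exact hc ((LefDual.transversal_iff ι hn _).2 (hqg' _ (by rwa [← hφ])))
  · intro H hH hnt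
    rw [LefDual.transversal_iff ι hn, not_not] at hnt
    rcases hH with rfl | ⟨c, rfl⟩
    · simpa using hp₂' _ hG.1.2 0 1 (Or.inr one_ne_zero) (by simpa using hnt)
    · simpa using hp₂' G hG.1.2 1 c (Or.inl one_ne_zero) (by simpa using hnt)

end Groth.Agent.LefPencil
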