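import Groth.Agent.LefPencil.Open
import Groth.Agent.LefPencil.BaseLocus

/-!
# Lefschetz pencils form an open set
-/

set_option autoImplicit false

universe u

open CategoryTheory CategoryTheory.Limits AlgebraicGeometry TopologicalSpace Opposite

namespace Groth.Agent.LefPencil

attribute [local instance] LefDual.pieceAlg

section Poly

variable {k : Type u} [Field k]

theorem comp_aeval_eval {σ : Type*} {A : Type*} [CommRing A] [Algebra k A] (φ : A →ₐ[k] k) (g : σ → A)
    (q : MvPolynomial σ k) : φ (MvPolynomial.aeval g q) = MvPolynomial.eval (fun s => φ (g s)) q := by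
  rw [MvPolynomial.comp_aeval_apply, MvPolynomial.aeval_eq_eval]

/-- Substituting a member of the general pencil. -/
noncomputable def memb {M : Type*} (q : MvPolynomial M k) : MvPolynomial (Fin 2) (MvPolynomial (M ⊕ M) k) :=
  MvPolynomial.aeval (fun s => MvPolynomial.X 0 * MvPolynomial.C (MvPolynomial.X (Sum.inl s)) +
    MvPolynomial.X 1 * MvPolynomial.C (MvPolynomial.X (Sum.inr s))) q

theorem ev_memb {M : Type*} (q : MvPolynomial M k) (v : Fin 2 → k) (a : M ⊕ M → k) :
    ev v a (memb q) = MvPolynomial.eval (fun s => v 0 * a (Sum.inl s) + v 1 * a (Sum.inr s)) q := by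
  induction q using MvPolynomial.induction_on with
  | C c => simp [ev, memb]
  | add p q hp hq => simp only [memb, map_add] at hp hq ⊢; rw [hp, hq]
  | mul_X p s hp =>
    simp only [memb, map_mul] at hp ⊢
    rw [hp]
    simp [ev]

/-- Moving the parameters of the pencil into the coefficients. -/
noncomputable def split2 {σ : Type*} (q : MvPolynomial (Fin 2 ⊕ σ) k) : MvPolynomial (Fin 2) (MvPolynomial σ k) :=
  MvPolynomial.aeval (Sum.elim MvPolynomial.X fun s => MvPolynomial.C (MvPolynomial.X s)) q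

theorem ev_split2 {σ : Type*} (q : MvPolynomial (Fin 2 ⊕ σ) k) (v : Fin 2 → k) (a : σ → k) :
    ev v a (split2 q) = MvPolynomial.eval (Sum.elim v a) q := by
  induction q using MvPolynomial.induction_on with
  | C c => simp [ev, split2]
  | add p q hp hq => simp only [split2, map_add] at hp hq ⊢; rw [hp, hq]
  | mul_X p s hp =>
    simp only [split2, map_mul] at hp ⊢
    rw [hp]
    cases s <;> simp [ev]

theorem eval_smul_of_homogeneous {σ : Type*} {p : MvPolynomial σ k} {e : ℕ} (hp : p.IsHomogeneous e) (c : k) (v : σ → k) :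
    MvPolynomial.eval (c • v) p = c ^ e * MvPolynomial.eval v p := by
  classical
  rw [MvPolynomial.eval_eq, MvPolynomial.eval_eq, Finset.mul_sum]
  refine Finset.sum_congr rfl fun s hs => ?_
  rw [show c ^ e = c ^ (∑ j ∈ s.support, s j) by rw [hp.degree_eq_sum_deg_support hs]]
  simp only [Pi.smul_apply, smul_eq_mul, mul_pow, Finset.prod_mul_distrib, Finset.prod_pow_eq_pow_sum]
  ring

end Poly

variable {k : Type u} [Field k] {r : ℕ} {X : Scheme.{u}} (ι : X ⟶ CohB1.ProjSpace r k) {d : ℕ}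

theorem formEquiv_comb (F G : LefPen.Form r k d) (s t : k) :
    ForSys.formEquiv k r d (s • F + t • G) =
      fun β => s * ForSys.formEquiv k r d F β + t * ForSys.formEquiv k r d G β := by
  funext β
  simp [map_add, map_smul]

theorem bad_smul {c : k} {H : LefPen.Form r k d} (h : LefDual.Bad ι H) : LefDual.Bad ι (c • H) := by
  obtain ⟨j, P, hP, hbad⟩ := h
  exact ⟨j, P, hP, by rw [pform_smul]; exact Ideal.mul_mem_left _ _ hbad⟩

theorem nondeg_smul {R : Type u} [CommRing R] [IsLocalRing R] [IsNoetherianRing R] [Algebra k R] {n : ℕ} {g : R} {c : k}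
    (hc : c ≠ 0) (h : Nondeg k n g) : Nondeg k n (algebraMap k R c * g) := by
  obtain ⟨φ, hφ, q, hq, hg⟩ := h
  refine ⟨φ, hφ, fun i l => c * q i l, (nonSing_smul_iff q hc).2 hq, ?_⟩
  rw [map_mul, AlgHom.commutes, hg]
  show algebraMap k _ c * Ideal.Quotient.mk _ (qf q) = Ideal.Quotient.mk _ (qf (c • q))
  rw [qf_smul, map_mul]
  rfl

variable [IsClosedImmersion ι] [IsAlgClosed k]

theorem oneOrd_smul [IrreducibleSpace X] {m : ℕ} [SmoothOfRelativeDimension (m + 1) (ι ≫ CohB1.ProjSpace.toSpec r k)]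
    {c : k} (hc : c ≠ 0) {H : LefPen.Form r k d} (h : LefPen.OneOrdQuad k (m + 1) ι H) :
    LefPen.OneOrdQuad k (m + 1) ι (c • H) := by
  haveI : Smooth (ι ≫ CohB1.ProjSpace.toSpec r k) := SmoothOfRelativeDimension.smooth (m + 1) _
  haveI := LefDual.finiteType_piece ι
  haveI : ∀ i, IsNoetherianRing Γ(X, BertiniHyp.piece ι i) := fun i => Algebra.FiniteType.isNoetherianRing k _
  obtain ⟨j, P, hP, hnd, huniq⟩ := (oneOrdQuad_iff ι H).1 h
  refine (oneOrdQuad_iff ι _).2 ⟨j, P, hP, ?_, ?_⟩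
  · rw [pform_smul, map_mul, ← IsScalarTower.algebraMap_apply]
    exact nondeg_smul hc hnd
  · rintro x ⟨i, Q, hQ, hx, hbad⟩
    refine huniq x ⟨i, Q, hQ, hx, ?_⟩
    have := Ideal.mul_mem_left _ (algebraMap k _ c⁻¹) hbad
    rwa [← pform_smul, inv_smul_smul₀ hc] at this

/-- Coordinates on pairs of forms. -/
noncomputable def pairEquiv (k : Type u) [Field k] (r d : ℕ) :
    (LefPen.Form r k d × LefPen.Form r k d) ≃ₗ[k] (ForSys.Mon r d ⊕ ForSys.Mon r d → k) :=
  ((ForSys.formEquiv k r d).prodCongr (ForSys.formEquiv k r d)).trans (LinearEquiv.sumArrowLequivProdArrow _ _ k k).symm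

omit [IsAlgClosed k] in
theorem pairEquiv_inl (F G : LefPen.Form r k d) (s : ForSys.Mon r d) :
    pairEquiv k r d (F, G) (Sum.inl s) = ForSys.formEquiv k r d F s := rfl

omit [IsAlgClosed k] in
theorem pairEquiv_inr (F G : LefPen.Form r k d) (s : ForSys.Mon r d) :
    pairEquiv k r d (F, G) (Sum.inr s) = ForSys.formEquiv k r d G s := rfl

/-- A member that is too singular, or singular at a base point. -/
def Worse (n : ℕ) (v : Fin 2 → k) (F G : LefPen.Form r k d) : Prop :=
  (LefDual.Bad ι (v 0 • F + v 1 • G) ∧ ¬ LefPen.OneOrdQuad k n ι (v 0 • F + v 1 • G)) ∨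
  ∃ (j : Fin (r + 1)) (P : Ideal Γ(X, BertiniHyp.piece ι j)), P.IsMaximal ∧
    LefDual.pform ι j F ∈ P ∧ LefDual.pform ι j G ∈ P ∧ LefDual.pform ι j (v 0 • F + v 1 • G) ∈ P ^ 2

theorem exists_poly_worse_one [IrreducibleSpace X] {m : ℕ} [SmoothOfRelativeDimension (m + 1) (ι ≫ CohB1.ProjSpace.toSpec r k)]
    (H : LefPen.Form r k d) (h : LefDual.Bad ι H → LefPen.OneOrdQuad k (m + 1) ι H) :
    ∃ q : MvPolynomial (ForSys.Mon r d) k, MvPolynomial.eval (ForSys.formEquiv k r d H) q ≠ 0 ∧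
      ∀ H' : LefPen.Form r k d, MvPolynomial.eval (ForSys.formEquiv k r d H') q ≠ 0 → LefDual.Bad ι H' →
        LefPen.OneOrdQuad k (m + 1) ι H' := by
  haveI : Smooth (ι ≫ CohB1.ProjSpace.toSpec r k) := SmoothOfRelativeDimension.smooth (m + 1) _
  by_cases hb : LefDual.Bad ι H
  · exact exists_poly_oneOrdQuad ι H (h hb)
  · obtain ⟨q, hq, hq'⟩ := LefDual.exists_poly_good ι H hb
    exact ⟨q, hq, fun H' h1 h2 => absurd h2 (hq' H' h1)⟩

theorem exists_poly_base [Smooth (ι ≫ CohB1.ProjSpace.toSpec r k)] (v : Fin 2 → k) (F G : LefPen.Form r k d)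
    (h : ∀ (j : Fin (r + 1)) (P : Ideal Γ(X, BertiniHyp.piece ι j)), P.IsMaximal →
      LefDual.pform ι j F ∈ P → LefDual.pform ι j G ∈ P → LefDual.pform ι j (v 0 • F + v 1 • G) ∉ P ^ 2) :
    ∃ q : MvPolynomial (Fin 2 ⊕ (ForSys.Mon r d ⊕ ForSys.Mon r d)) k,
      MvPolynomial.eval (Sum.elim v (pairEquiv k r d (F, G))) q ≠ 0 ∧
      ∀ (v' : Fin 2 → k) (F' G' : LefPen.Form r k d), MvPolynomial.eval (Sum.elim v' (pairEquiv k r d (F', G'))) q ≠ 0 →
        ∀ (j : Fin (r + 1)) (P : Ideal Γ(X, BertiniHyp.piece ι j)), P.IsMaximal →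
          LefDual.pform ι j F' ∈ P → LefDual.pform ι j G' ∈ P → LefDual.pform ι j (v' 0 • F' + v' 1 • G') ∉ P ^ 2 := by
  classical
  haveI := LefDual.finiteType_piece ι
  obtain ⟨κ, _, E, e, hhom, hzero, hbadv⟩ := exists_bad_equations ι d
  let sub : MvPolynomial (ForSys.Mon r d) k →ₐ[k] MvPolynomial (Fin 2 ⊕ (ForSys.Mon r d ⊕ ForSys.Mon r d)) k :=
    MvPolynomial.aeval fun s => MvPolynomial.X (Sum.inl 0) * MvPolynomial.X (Sum.inr (Sum.inl s)) +
      MvPolynomial.X (Sum.inl 1) * MvPolynomial.X (Sum.inr (Sum.inr s))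
  let E₁ : κ ⊕ Bool → MvPolynomial (Fin (r + 1)) (MvPolynomial (Fin 2 ⊕ (ForSys.Mon r d ⊕ ForSys.Mon r d)) k) :=
    Sum.elim (fun t => MvPolynomial.map sub.toRingHom (E t)) fun b =>
      ∑ s, MvPolynomial.monomial s.1 (MvPolynomial.X (Sum.inr (if b then Sum.inl s else Sum.inr s)))
  have hsub : ∀ (v' : Fin 2 → k) (F' G' : LefPen.Form r k d) (t : κ) (x : Fin (r + 1) → k),
      MvPolynomial.eval x (MvPolynomial.map (MvPolynomial.eval (Sum.elim v' (pairEquiv k r d (F', G')))) (E₁ (Sum.inl t))) =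
        MvPolynomial.eval x (MvPolynomial.map (MvPolynomial.eval (ForSys.formEquiv k r d (v' 0 • F' + v' 1 • G'))) (E t)) := by
    intro v' F' G' t x
    simp only [E₁, Sum.elim_inl, MvPolynomial.map_map]
    refine congrArg (fun φ => MvPolynomial.eval x (MvPolynomial.map φ (E t))) (RingHom.ext fun c => ?_)
    simp only [RingHom.comp_apply, AlgHom.toRingHom_eq_coe, RingHom.coe_coe, sub]
    rw [← MvPolynomial.aeval_eq_eval, comp_aeval_eval, formEquiv_comb]
    refine congrArg (fun x => MvPolynomial.eval x c) (funext fun s => ?_)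
    simp [pairEquiv_inl, pairEquiv_inr]
  have hform : ∀ (v' : Fin 2 → k) (F' G' : LefPen.Form r k d) (b : Bool) (x : Fin (r + 1) → k),
      MvPolynomial.eval x (MvPolynomial.map (MvPolynomial.eval (Sum.elim v' (pairEquiv k r d (F', G')))) (E₁ (Sum.inr b))) =
        MvPolynomial.eval x (if b then F' else G').1 := by
    intro v' F' G' b x
    have hF : ∀ H : LefPen.Form r k d, H.1 = ∑ s, MvPolynomial.monomial s.1 (ForSys.formEquiv k r d H s) := fun H =>
      congrArg Subtype.val ((ForSys.formEquiv k r d).symm_apply_apply H).symm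
    cases b <;> simp [E₁, map_sum, MvPolynomial.map_monomial, pairEquiv_inl, pairEquiv_inr, ← hF]
  have hpf : ∀ (H : LefPen.Form r k d) (i : Fin (r + 1)) (χ : Γ(X, BertiniHyp.piece ι i) →ₐ[k] k),
      χ (LefDual.pform ι i H) = MvPolynomial.eval (fun l => χ (LefDual.pcoord ι i l)) H.1 := fun H i χ => by
    rw [LefDual.pform_eq_aeval, MvPolynomial.comp_aeval_apply, MvPolynomial.aeval_eq_eval]
  obtain ⟨q, hq, hq'⟩ := LefDual.exists_poly_no_zero E₁ (Sum.elim e fun _ => d)
    (fun t => by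
      rcases t with t | b
      · exact (hhom t).map _
      · exact MvPolynomial.IsHomogeneous.sum _ _ _ fun s _ => MvPolynomial.isHomogeneous_monomial _ s.2)
    (Sum.elim v (pairEquiv k r d (F, G))) fun x hx => by
      by_contra hx0
      obtain ⟨i, hi⟩ := Function.ne_iff.1 hx0
      obtain ⟨χ, hχc, hχb⟩ := hbadv _ x (fun t => (hsub v F G t x).symm.trans (hx (Sum.inl t))) i hi
      haveI hP : (RingHom.ker χ).IsMaximal :=
        RingHom.ker_isMaximal_of_surjective χ fun c => ⟨algebraMap k _ c, χ.commutes c⟩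
      have hz : ∀ b : Bool, χ (LefDual.pform ι i (if b then F else G)) = 0 := fun b => by
        rw [hpf, show (fun l => χ (LefDual.pcoord ι i l)) = (x i)⁻¹ • x from funext fun l => by
          rw [hχc, Pi.smul_apply, smul_eq_mul, div_eq_inv_mul],
          eval_smul_of_homogeneous ((if b then F else G)).2, ← hform v F G b x, hx (Sum.inr b), mul_zero]
      exact h i _ hP (by simpa using hz true) (by simpa using hz false) hχb
  refine ⟨q, hq, fun v' F' G' hne j P hP hF hG hbad => ?_⟩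
  obtain ⟨χ, hχ⟩ := LefDual.exists_point (k := k) P
  obtain rfl : RingHom.ker χ = P := Ideal.ext fun b => (hχ b).symm
  have := congrFun (hq' _ hne (fun l => χ (LefDual.pcoord ι j l)) fun t => by
    rcases t with t | b
    · rw [hsub]; exact hzero _ j χ hbad t
    · rw [hform, ← hpf]; cases b
      · exact RingHom.mem_ker.1 hG
      · exact RingHom.mem_ker.1 hF) j
  simp [LefDual.pcoord_self] at this

/-- The Lefschetz pencils form an open set. -/
theorem exists_poly_lefschetz [IrreducibleSpace X] {m : ℕ} [SmoothOfRelativeDimension (m + 1) (ι ≫ CohB1.ProjSpace.toSpec r k)]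
    (F₀ G₀ : LefPen.Form r k d) (h : LefPen.IsLefschetzPencil k (m + 1) ι d F₀ G₀) :
    ∃ q : MvPolynomial (ForSys.Mon r d ⊕ ForSys.Mon r d) k, MvPolynomial.eval (pairEquiv k r d (F₀, G₀)) q ≠ 0 ∧
      ∀ F G : LefPen.Form r k d, MvPolynomial.eval (pairEquiv k r d (F, G)) q ≠ 0 →
        LefPen.IsLefschetzPencil k (m + 1) ι d F G := by
  classical
  haveI : Smooth (ι ≫ CohB1.ProjSpace.toSpec r k) := SmoothOfRelativeDimension.smooth (m + 1) _
  have hn : 1 ≤ m + 1 := by omega
  obtain ⟨hli, htr, hfin, hmem⟩ := h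
  obtain ⟨c₀, hc₀⟩ := hfin.exists_notMem
  have hgood₀ : ¬ LefDual.Bad ι (F₀ + c₀ • G₀) := (LefDual.transversal_iff ι hn _).1 (not_not.1 hc₀)
  obtain ⟨qg, hqg, hqg'⟩ := LefDual.exists_poly_good ι _ hgood₀
  -- independence
  obtain ⟨u, w, huw⟩ : ∃ u w, ForSys.formEquiv k r d F₀ u * ForSys.formEquiv k r d G₀ w -
      ForSys.formEquiv k r d F₀ w * ForSys.formEquiv k r d G₀ u ≠ 0 := by
    by_contra! hcon
    rw [LinearIndependent.pair_iff] at hli
    obtain ⟨w, hw⟩ : ∃ w, ForSys.formEquiv k r d G₀ w ≠ 0 := by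
      by_contra! hG
      have : G₀ = 0 := (ForSys.formEquiv k r d).injective (by rw [map_zero]; exact funext hG)
      simpa using (hli 0 1 (by simp [this])).2
    refine hw (hli (ForSys.formEquiv k r d G₀ w) (-ForSys.formEquiv k r d F₀ w) ?_).1
    refine (ForSys.formEquiv k r d).injective ?_
    rw [formEquiv_comb, map_zero]
    funext u
    rw [Pi.zero_apply, ← hcon u w]
    ring
  -- members
  let Z : (Fin 2 → k) → (ForSys.Mon r d ⊕ ForSys.Mon r d → k) → Prop := fun v a =>
    Worse ι (m + 1) v ((pairEquiv k r d).symm a).1 ((pairEquiv k r d).symm a).2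
  have hZ : ∀ v F G, Z v (pairEquiv k r d (F, G)) ↔ Worse ι (m + 1) v F G := fun v F G => by
    simp only [Z, LinearEquiv.symm_apply_apply]
  have hclosed : ∀ v a, ¬ Z v a → ∃ P : MvPolynomial (Fin 2) (MvPolynomial (ForSys.Mon r d ⊕ ForSys.Mon r d) k),
      ev v a P ≠ 0 ∧ ∀ v' a', Z v' a' → ev v' a' P = 0 := by
    intro v a hva
    obtain ⟨⟨F, G⟩, rfl⟩ := (pairEquiv k r d).surjective a
    rw [hZ, Worse, not_or, not_and, not_not] at hva
    obtain ⟨q₁, hq₁, hq₁'⟩ := exists_poly_worse_one ι _ hva.1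
    obtain ⟨q₂, hq₂, hq₂'⟩ := exists_poly_base ι v F G fun j P hP hF hG hb => hva.2 ⟨j, P, hP, hF, hG, hb⟩
    have hm : ∀ v' F' G', ev v' (pairEquiv k r d (F', G')) (memb q₁) =
        MvPolynomial.eval (ForSys.formEquiv k r d (v' 0 • F' + v' 1 • G')) q₁ := fun v' F' G' => by
      rw [ev_memb, formEquiv_comb]; rfl
    refine ⟨memb q₁ * split2 q₂, ?_, fun v' a' hZ' => ?_⟩
    · rw [map_mul, hm, ev_split2]
      exact mul_ne_zero hq₁ hq₂
    · obtain ⟨⟨F', G'⟩, rfl⟩ := (pairEquiv k r d).surjective a'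
      rw [map_mul, hm, ev_split2]
      by_contra hne
      obtain hne := mul_ne_zero_iff.1 hne
      rcases (hZ v' F' G').1 hZ' with ⟨hb, ho⟩ | ⟨j, P, hP, hF, hG, hb⟩
      · exact ho (hq₁' _ hne.1 hb)
      · exact hq₂' v' F' G' hne.2 j P hP hF hG hb
  have hscale : ∀ v a (c : k), c ≠ 0 → Z v a → Z (c • v) a := by
    intro v a c hc hva
    have e : ∀ F G : LefPen.Form r k d, (c • v) 0 • F + (c • v) 1 • G = c • (v 0 • F + v 1 • G) := fun F G => by
      simp [smul_add, smul_smul]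
    simp only [Z, Worse, e] at hva ⊢
    rcases hva with ⟨hb, ho⟩ | ⟨j, P, hP, hF, hG, hb⟩
    · refine Or.inl ⟨bad_smul ι hb, fun h1 => ho ?_⟩
      have := oneOrd_smul ι (inv_ne_zero hc) h1
      rwa [inv_smul_smul₀ hc] at this
    · exact Or.inr ⟨j, P, hP, hF, hG, by rw [pform_smul]; exact Ideal.mul_mem_left _ _ hb⟩
  have hbase₀ : ¬ BadBase ι F₀ G₀ := (transversal_two_iff ι F₀ G₀ c₀ hgood₀).1 htr
  obtain ⟨qp, hqp, hqp'⟩ := exists_poly_proj (n := 1) Z hclosed hscale (pairEquiv k r d (F₀, G₀)) fun v hv hZv => by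
    rcases (hZ v F₀ G₀).1 hZv with ⟨hb, ho⟩ | ⟨j, P, hP, hF, hG, hb⟩
    · have hH : ∃ H ∈ LefPen.members k F₀ G₀, ∃ e : k, e ≠ 0 ∧ v 0 • F₀ + v 1 • G₀ = e • H := by
        by_cases h0 : v 0 = 0
        · refine ⟨G₀, Or.inl rfl, v 1, fun h1 => hv (funext fun i => by fin_cases i <;> assumption), by simp [h0]⟩
        · exact ⟨F₀ + (v 1 / v 0) • G₀, Or.inr ⟨_, rfl⟩, v 0, h0, by rw [smul_add, smul_smul, mul_div_cancel₀ _ h0]⟩
      obtain ⟨H, hHm, e, he, hHe⟩ := hH
      rw [hHe] at hb ho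
      refine ho (oneOrd_smul ι he (hmem H hHm ?_))
      rw [LefDual.transversal_iff ι hn, not_not]
      have := bad_smul ι (c := e⁻¹) hb
      rwa [inv_smul_smul₀ he] at this
    · refine hbase₀ ⟨j, P, hP, hF, hG, v 0, v 1, ?_, hb⟩
      by_contra! h2
      exact hv (funext fun i => by fin_cases i; exacts [h2.1, h2.2])
  let minor : MvPolynomial (ForSys.Mon r d ⊕ ForSys.Mon r d) k :=
    MvPolynomial.X (Sum.inl u) * MvPolynomial.X (Sum.inr w) - MvPolynomial.X (Sum.inl w) * MvPolynomial.X (Sum.inr u)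
  let qc : MvPolynomial (ForSys.Mon r d ⊕ ForSys.Mon r d) k :=
    MvPolynomial.aeval (fun s => MvPolynomial.X (Sum.inl s) + MvPolynomial.C c₀ * MvPolynomial.X (Sum.inr s)) qg
  have hqc : ∀ F G, MvPolynomial.eval (pairEquiv k r d (F, G)) qc = MvPolynomial.eval (ForSys.formEquiv k r d (F + c₀ • G)) qg := fun F G => by
    rw [← MvPolynomial.aeval_eq_eval, comp_aeval_eval]
    refine congrArg (fun x => MvPolynomial.eval x qg) (funext fun s => ?_)
    simp [pairEquiv_inl, pairEquiv_inr, map_add, map_smul]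
  refine ⟨minor * qc * qp, ?_, fun F G hne => ?_⟩
  · rw [map_mul, map_mul, hqc]
    refine mul_ne_zero (mul_ne_zero ?_ hqg) hqp
    simpa [minor, pairEquiv_inl, pairEquiv_inr] using huw
  rw [map_mul, map_mul, mul_ne_zero_iff, mul_ne_zero_iff, hqc] at hne
  obtain ⟨⟨hminor, hgoodc⟩, hproj⟩ := hne
  have hworse : ∀ v : Fin 2 → k, v ≠ 0 → ¬ Worse ι (m + 1) v F G := fun v hv h1 => hqp' _ hproj v hv ((hZ v F G).2 h1)
  refine ⟨?_, ?_, ?_, ?_⟩
  · rw [LinearIndependent.pair_iff]
    intro s t hst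
    have h2 := congrArg (ForSys.formEquiv k r d) hst
    rw [formEquiv_comb, map_zero] at h2
    have hu := congrFun h2 u
    have hw := congrFun h2 w
    simp only [minor, map_sub, map_mul, MvPolynomial.eval_X, pairEquiv_inl, pairEquiv_inr] at hminor
    simp only [Pi.zero_apply] at hu hw
    refine ⟨(mul_eq_zero.1 ?_).resolve_right hminor, (mul_eq_zero.1 ?_).resolve_right hminor⟩
    · linear_combination (ForSys.formEquiv k r d G w) * hu - (ForSys.formEquiv k r d G u) * hw
    · linear_combination (ForSys.formEquiv k r d F u) * hw - (ForSys.formEquiv k r d F w) * hu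
  · refine (transversal_two_iff ι F G c₀ (hqg' _ hgoodc)).2 ?_
    rintro ⟨j, P, hP, hF, hG, s, t, hst, hb⟩
    refine hworse ![s, t] (fun h0 => ?_) (Or.inr ⟨j, P, hP, hF, hG, by simpa using hb⟩)
    exact hst.elim (fun h1 => h1 (by simpa using congrFun h0 0)) (fun h1 => h1 (by simpa using congrFun h0 1))
  · let φ : Polynomial k := MvPolynomial.aeval
      (fun s => Polynomial.C (ForSys.formEquiv k r d F s) + Polynomial.X * Polynomial.C (ForSys.formEquiv k r d G s)) qg
    have hφ : ∀ c : k, φ.eval c = MvPolynomial.eval (ForSys.formEquiv k r d (F + c • G)) qg := fun c => by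
      rw [← Polynomial.coe_aeval_eq_eval, comp_aeval_eval]
      refine congrArg (fun x => MvPolynomial.eval x qg) (funext fun s => ?_)
      simp [map_add, map_smul]
      ring
    refine Set.Finite.subset φ.roots.toFinset.finite_toSet fun c hc => ?_
    rw [Finset.mem_coe, Multiset.mem_toFinset, Polynomial.mem_roots']
    refine ⟨fun h0 => hgoodc (by rw [← hφ, h0, Polynomial.eval_zero]), ?_⟩
    by_contra hr
    exact hc ((LefDual.transversal_iff ι hn _).2 (hqg' _ (by rwa [← hφ])))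
  · intro H hH hnt
    rw [LefDual.transversal_iff ι hn, not_not] at hnt
    rcases hH with rfl | ⟨c, rfl⟩
    · by_contra ho
      refine hworse ![0, 1] (fun h0 => by simpa using congrFun h0 1) (Or.inl ⟨?_, ?_⟩)
      · simpa using hnt
      · simpa using ho
    · by_contra ho
      refine hworse ![1, c] (fun h0 => by simpa using congrFun h0 0) (Or.inl ⟨?_, ?_⟩)
      · simpa using hnt
      · simpa using ho

end Groth.Agent.LefPencil
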