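import Groth.Agent.LefPencil.TwoJets
import Groth.Agent.LefPencil.Pencil

/-!
# A section with a single ordinary quadratic singular point
-/

set_option autoImplicit false

universe u

open CategoryTheory CategoryTheory.Limits AlgebraicGeometry TopologicalSpace Opposite

namespace Groth.Agent.LefPencil

attribute [local instance] LefDual.pieceAlg

variable {k : Type u} [Field k] [IsAlgClosed k] {r : ℕ} {X : Scheme.{u}} (ι : X ⟶ CohB1.ProjSpace r k)
  [IsClosedImmersion ι] [IrreducibleSpace X] {m : ℕ} [SmoothOfRelativeDimension (m + 1) (ι ≫ CohB1.ProjSpace.toSpec r k)]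

omit [IrreducibleSpace X] in
include m in
theorem mem_pow_transfer {d s : ℕ} (G : LefPen.Form r k d) {i j : Fin (r + 1)}
    {Q : Ideal Γ(X, BertiniHyp.piece ι i)} (hQ : Q.IsMaximal) {P : Ideal Γ(X, BertiniHyp.piece ι j)} (hP : P.IsMaximal)
    (hx : pt ι i ⟨Q, hQ.isPrime⟩ = pt ι j ⟨P, hP.isPrime⟩) (h : LefDual.pform ι i G ∈ Q ^ s) :
    LefDual.pform ι j G ∈ P ^ s := by
  haveI : Smooth (ι ≫ CohB1.ProjSpace.toSpec r k) := SmoothOfRelativeDimension.smooth (m + 1) _
  rw [mem_pow_iff_germ ι j P hP]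
  rw [mem_pow_iff_germ ι i Q hQ] at h
  have key : ∀ (y x : X) (_ : y = x) (hi : y ∈ BertiniHyp.piece ι i) (hj : x ∈ BertiniHyp.piece ι j),
      X.presheaf.germ _ y hi (LefDual.pform ι i G) ∈ IsLocalRing.maximalIdeal (X.presheaf.stalk y) ^ s →
      X.presheaf.germ _ x hj (LefDual.pform ι j G) ∈ IsLocalRing.maximalIdeal (X.presheaf.stalk x) ^ s := by
    rintro y x rfl hi hj h
    rw [LefDual.pform_germ ι G i j _ hi hj]
    exact Ideal.mul_mem_right _ _ h
  exact key _ _ hx _ _ h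

omit [IrreducibleSpace X] in
/-- Coordinates among the coordinate functions. -/
theorem exists_pieceData (i : Fin (r + 1)) (P : Ideal Γ(X, BertiniHyp.piece ι i)) [P.IsMaximal] :
    ∃ h : Γ(X, BertiniHyp.piece ι i), h ∉ P ∧ Algebra.Smooth k (Localization.Away h) ∧
      ∃ (σ : Fin (m + 1) → Fin (r + 1)) (b : Module.Basis (Fin (m + 1)) (Localization.Away h) Ω[Localization.Away h⁄k]),
        ∀ t, b t = KaehlerDifferential.D k _ (algebraMap _ (Localization.Away h) (LefDual.pcoord ι i (σ t))) := by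
  haveI : Smooth (ι ≫ CohB1.ProjSpace.toSpec r k) := SmoothOfRelativeDimension.smooth (m + 1) _
  haveI := LefDual.piece_smooth ι i
  haveI := LefDual.finiteType_piece ι i
  obtain ⟨h, hhP, hsm, e, σ, b, -, hb⟩ := BertiniAff.exists_piece (LefDual.pcoord ι i) (LefDual.aeval_pcoord_surjective ι i) P
    (f := 1) (fun h1 => ‹P.IsMaximal›.ne_top ((Ideal.eq_top_iff_one _).2 h1))
    (Algebra.Smooth.comp k Γ(X, BertiniHyp.piece ι i) (Localization.Away (1 : Γ(X, BertiniHyp.piece ι i))))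
  obtain ⟨g, hgP, ⟨eb⟩⟩ := LefDual.exists_notMem_basis (LefDual.piece_locally ι (n := m + 1) i) P
  obtain rfl : e = m + 1 := le_antisymm (LefDual.relDim_le_of_bases P hhP hgP b eb) (LefDual.relDim_le_of_bases P hgP hhP eb b)
  exact ⟨h, hhP, hsm, σ, b, hb⟩

omit [IsAlgClosed k] in
theorem mem_ker_of_mem {B S : Type u} [CommRing B] [Algebra k B] [CommRing S] [Algebra k S] [Algebra B S] [IsScalarTower k B S]
    (χ : S →ₐ[k] k) {P : Ideal B} (hP : ∀ a, a ∈ P ↔ χ (algebraMap B S a) = 0) {y : B} {s : ℕ} (hy : y ∈ P ^ s) :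
    algebraMap B S y ∈ RingHom.ker χ ^ s := by
  have h1 := Ideal.mem_map_of_mem (algebraMap B S) hy
  rw [Ideal.map_pow] at h1
  exact Ideal.pow_right_mono (Ideal.map_le_iff_le_comap.2 fun a ha => Ideal.mem_comap.2 (RingHom.mem_ker.2 ((hP a).1 ha))) s h1

omit [IsAlgClosed k] in
theorem mem_of_mem_ker {B : Type u} [CommRing B] [Algebra k B] {h : B} (χ : Localization.Away h →ₐ[k] k) {P : Ideal B}
    [hPm : P.IsMaximal] (hP : ∀ a, a ∈ P ↔ χ (algebraMap B (Localization.Away h) a) = 0) {y : B} {s : ℕ}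
    (hy : algebraMap B (Localization.Away h) y ∈ RingHom.ker χ ^ s) : y ∈ P ^ s := by
  have hle : RingHom.ker χ ≤ P.map (algebraMap B (Localization.Away h)) := fun x hx => by
    obtain ⟨e, a, ha⟩ := IsLocalization.Away.surj h x
    have haP : a ∈ P := (hP a).2 (by rw [← ha, map_mul, RingHom.mem_ker.1 hx, zero_mul])
    exact (Ideal.mul_unit_mem_iff_mem _ ((IsLocalization.Away.algebraMap_isUnit (S := Localization.Away h) h).pow e)).1
      (ha ▸ Ideal.mem_map_of_mem _ haP)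
  have h1 := Ideal.pow_right_mono hle s hy
  rw [← Ideal.map_pow] at h1
  obtain ⟨c, ⟨e, rfl⟩, hcy⟩ := (IsLocalization.algebraMap_mem_map_algebraMap_iff (Submonoid.powers h) (Localization.Away h) _ _).1 h1
  have hh : h ∉ P := fun hm => ((IsLocalization.Away.algebraMap_isUnit (S := Localization.Away h) h).map χ).ne_zero ((hP h).1 hm)
  have hsup : Ideal.span {h ^ e} ⊔ P ^ s = ⊤ := Ideal.sup_pow_eq_top (hPm.out.2 _ (lt_of_le_of_ne le_sup_right fun e' =>
    hh (hPm.isPrime.mem_of_pow_mem e (e'.symm.le (Ideal.mem_sup_left (Ideal.mem_span_singleton_self _))))))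
  obtain ⟨v', hv', w, hw, hvw⟩ := Submodule.mem_sup.1 (hsup.symm ▸ Submodule.mem_top : (1 : B) ∈ _)
  obtain ⟨v, rfl⟩ := Ideal.mem_span_singleton'.1 hv'
  rw [show y = v * (h ^ e * y) + y * w by linear_combination (-y) * hvw]
  exact add_mem (Ideal.mul_mem_left _ _ hcy) (Ideal.mul_mem_left _ _ hw)

theorem mem_sq_of_jetOf {S : Type u} [CommRing S] [Algebra k S] [Algebra.FiniteType k S] {n : ℕ}
    (b : Module.Basis (Fin n) S Ω[S⁄k]) (χ : S →ₐ[k] k) {y : S} (h : jetOf b χ y = 0) : y ∈ RingHom.ker χ ^ 2 := by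
  haveI : (RingHom.ker χ).IsMaximal := RingHom.ker_isMaximal_of_surjective χ fun c => ⟨algebraMap k _ c, χ.commutes c⟩
  refine (LefDual.mem_sq_iff (k := k) _ _).2 ⟨congrFun h none, ?_⟩
  rw [← b.sum_repr (KaehlerDifferential.D k S y)]
  exact Submodule.sum_mem _ fun t _ => Submodule.smul_mem_smul (congrFun h (some t)) trivial

include m in
theorem exists_notMem_maximal [Smooth (ι ≫ CohB1.ProjSpace.toSpec r k)] {i : Fin (r + 1)}
    (hne : Nonempty (BertiniHyp.piece ι i)) {y : Γ(X, BertiniHyp.piece ι i)} (hy : y ≠ 0) :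
    ∃ P : Ideal Γ(X, BertiniHyp.piece ι i), P.IsMaximal ∧ y ∉ P := by
  haveI := LefDual.isIntegral_of_embedded (n := m + 1) ι
  haveI := LefDual.finiteType_piece ι i
  haveI := hne
  haveI : IsJacobsonRing Γ(X, BertiniHyp.piece ι i) := isJacobsonRing_of_finiteType (A := k)
  by_contra! hcon
  refine hy ?_
  have : y ∈ (⊥ : Ideal Γ(X, BertiniHyp.piece ι i)).jacobson := Ideal.mem_sInf.2 fun P hP => hcon P hP.2
  rwa [IsJacobsonRing.out' _ (Ideal.isPrime_bot.isRadical), Ideal.mem_bot] at this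

/-- The linear case. -/
theorem exists_oneOrd_linear (i₁ : Fin (r + 1)) (P₁ : Ideal Γ(X, BertiniHyp.piece ι i₁)) [hP₁ : P₁.IsMaximal]
    (hlin : ∀ ℓ : LefPen.Form r k 1, LefDual.pform ι i₁ ℓ ∈ P₁ ^ 2 → LefDual.pform ι i₁ ℓ = 0) :
    ∃ H : LefPen.Form r k 2, LefDual.Bad ι H ∧ LefPen.OneOrdQuad k (m + 1) ι H := by
  classical
  haveI : Smooth (ι ≫ CohB1.ProjSpace.toSpec r k) := SmoothOfRelativeDimension.smooth (m + 1) _
  haveI := LefDual.isIntegral_of_embedded (n := m + 1) ι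
  haveI := LefDual.finiteType_piece ι
  haveI : ∀ i, IsNoetherianRing Γ(X, BertiniHyp.piece ι i) := fun i => Algebra.FiniteType.isNoetherianRing k _
  obtain ⟨χ₁, hχ₁⟩ := LefDual.exists_point (k := k) P₁
  obtain ⟨h₁, hh₁, hsm₁, σ, b, hb⟩ := exists_pieceData ι i₁ P₁ (m := m)
  obtain ⟨χh, hχh⟩ := exists_lift_away h₁ χ₁ fun e0 => hh₁ ((hχ₁ h₁).2 e0)
  have hPh : ∀ a, a ∈ P₁ ↔ χh (algebraMap _ _ a) = 0 := fun a => by rw [hχh, hχ₁]
  let ℓs : Option (Fin (m + 1)) → LefPen.Form r k 1 := fun o => secForm ι (i := i₁) χh σ (Pi.single o 1)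
  have hℓs : ∀ o, jetOf b χh (algebraMap _ _ (LefDual.pform ι i₁ (ℓs o))) = Pi.single o 1 := fun o =>
    jetOf_secForm ι (i := i₁) b χh σ hb _
  -- every linear form is a combination of these on the section
  have hcomb : ∀ (i : Fin (r + 1)) (ℓ : LefPen.Form r k 1), LefDual.pform ι i ℓ =
      ∑ o, algebraMap k _ (jetOf b χh (algebraMap _ _ (LefDual.pform ι i₁ ℓ)) o) * LefDual.pform ι i (ℓs o) := by
    intro i ℓ
    let ℓ' : LefPen.Form r k 1 := ℓ - ∑ o, jetOf b χh (algebraMap _ _ (LefDual.pform ι i₁ ℓ)) o • ℓs o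
    have hsum : ∀ i, LefDual.pform ι i ℓ' = LefDual.pform ι i ℓ -
        ∑ o, algebraMap k _ (jetOf b χh (algebraMap _ _ (LefDual.pform ι i₁ ℓ)) o) * LefDual.pform ι i (ℓs o) := fun i => by
      rw [← pformL_apply, map_sub, map_sum]
      simp only [map_smul, pformL_apply, Algebra.smul_def]
    have h0 : LefDual.pform ι i₁ ℓ' = 0 := by
      refine hlin _ (mem_of_mem_ker χh hPh (mem_sq_of_jetOf b χh ?_))
      rw [hsum, map_sub, map_sub, map_sum, map_sum]
      simp only [map_mul, ← IsScalarTower.algebraMap_apply]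
      simp only [← Algebra.smul_def, map_smul, hℓs]
      rw [sub_eq_zero]
      conv_lhs => rw [← Finset.univ_sum_single (jetOf b χh (algebraMap _ _ (LefDual.pform ι i₁ ℓ)))]
      exact Finset.sum_congr rfl fun o _ => by rw [← Pi.single_smul', smul_eq_mul, mul_one]
    exact sub_eq_zero.1 ((hsum i).symm.trans (germ_pform_eq_zero ι h0 ⟨⟨_, pt_mem ι i₁ ⟨P₁, hP₁.isPrime⟩⟩⟩))
  let c := hypMatrix k (m + 1)
  let H : LefPen.Form r k 2 := ⟨∑ t, ∑ l, MvPolynomial.C (c t l) * ((ℓs (some t)).1 * (ℓs (some l)).1),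
    MvPolynomial.IsHomogeneous.sum _ _ 2 fun t _ => MvPolynomial.IsHomogeneous.sum _ _ 2 fun l _ =>
      ((show (ℓs (some t)).1.IsHomogeneous 1 from (ℓs (some t)).2).mul (ℓs (some l)).2).C_mul _⟩
  have hH : ∀ i, LefDual.pform ι i H = ∑ t, ∑ l, algebraMap k _ (c t l) *
      (LefDual.pform ι i (ℓs (some t)) * LefDual.pform ι i (ℓs (some l))) := fun i => by
    simp [LefDual.pform_eq_aeval, H]
  let w : Fin (m + 1) → Localization.Away h₁ := fun t => algebraMap _ _ (LefDual.pform ι i₁ (ℓs (some t)))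
  let z : Fin (m + 1) → Localization.Away h₁ := fun t => algebraMap _ _ (LefDual.pcoord ι i₁ (σ t))
  let w₀ : Fin (m + 1) → Localization.Away h₁ := fun t => z t - algebraMap k _ (χh (z t))
  have hwz : ∀ t, w t - w₀ t ∈ RingHom.ker χh ^ 2 := fun t => mem_sq_of_jetOf b χh (by
    rw [map_sub, hℓs, sub_eq_zero]
    funext o
    cases o with
    | none => simp [jetOf_none, w₀, Pi.single_apply]
    | some t' => simp [jetOf_some, pd, w₀, z, ← hb, Finsupp.single_apply, Pi.single_apply, eq_comm])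
  have hker : ∀ t, w₀ t ∈ RingHom.ker χh := fun t => by simp [w₀]
  have hquad : algebraMap _ (Localization.Away h₁) (LefDual.pform ι i₁ H) -
      ∑ t, ∑ l, algebraMap k _ (c t l) * (w₀ t * w₀ l) ∈ RingHom.ker χh ^ 3 := by
    rw [hH]
    simp only [map_sum, map_mul, ← IsScalarTower.algebraMap_apply, ← Finset.sum_sub_distrib, ← mul_sub]
    refine Submodule.sum_mem _ fun t _ => Submodule.sum_mem _ fun l _ => Ideal.mul_mem_left _ _ ?_
    rw [show algebraMap _ _ (LefDual.pform ι i₁ (ℓs (some t))) * algebraMap _ _ (LefDual.pform ι i₁ (ℓs (some l))) - w₀ t * w₀ l =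
      (w t - w₀ t) * w l + w₀ t * (w l - w₀ l) by ring]
    have hwl : w l ∈ RingHom.ker χh := by
      have := add_mem (Ideal.pow_le_self two_ne_zero (hwz l)) (hker l)
      rwa [sub_add_cancel] at this
    refine add_mem ?_ ?_
    · rw [pow_succ]; exact Ideal.mul_mem_mul (hwz t) hwl
    · rw [pow_succ']; exact Ideal.mul_mem_mul (hker t) (hwz l)
  haveI := regular_localization ι i₁ P₁
  obtain ⟨φ, -, hcrit⟩ := coord_criterion b hb χh P₁ hPh (residue_bijective ι i₁ P₁)
  have hnd : Nondeg k (m + 1) (algebraMap _ (Localization.AtPrime P₁) (LefDual.pform ι i₁ H)) :=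
    (hcrit _ c hquad).2 (nonSing_hypMatrix k (m + 1))
  -- the only singular point
  have hval : ∀ (i : Fin (r + 1)) (P : Ideal Γ(X, BertiniHyp.piece ι i)) (χ : Γ(X, BertiniHyp.piece ι i) →ₐ[k] k),
      P.IsMaximal → (∀ a, a ∈ P ↔ χ a = 0) → LefDual.pform ι i H ∈ P ^ 2 →
      ∃ u₀ : k, u₀ ≠ 0 ∧ ∀ ℓ : LefPen.Form r k 1, χ (LefDual.pform ι i ℓ) = χ₁ (LefDual.pform ι i₁ ℓ) * u₀ := by
    intro i P χ hP hχ hbad
    haveI := hP
    obtain ⟨h, hh, -, σ', b', hb'⟩ := exists_pieceData ι i P (m := m)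
    obtain ⟨χ', hχ'⟩ := exists_lift_away h χ fun e0 => hh ((hχ h).2 e0)
    let J : Option (Fin (m + 1)) → (Option (Fin (m + 1)) → k) := fun o =>
      jetOf b' χ' (algebraMap _ _ (LefDual.pform ι i (ℓs o)))
    let Φ : (Option (Fin (m + 1)) → k) →ₗ[k] (Option (Fin (m + 1)) → k) :=
      ∑ o, (LinearMap.proj o : (Option (Fin (m + 1)) → k) →ₗ[k] k).smulRight (J o)
    have hΦ : ∀ v, Φ v = ∑ o, v o • J o := fun v => by simp [Φ]
    have hjet : ∀ ℓ, jetOf b' χ' (algebraMap _ _ (LefDual.pform ι i ℓ)) =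
        Φ (jetOf b χh (algebraMap _ _ (LefDual.pform ι i₁ ℓ))) := fun ℓ => by
      rw [hΦ, hcomb i ℓ, map_sum, map_sum]
      simp only [map_mul, ← IsScalarTower.algebraMap_apply]
      simp only [← Algebra.smul_def, map_smul, J]
    have hsurj : Function.Surjective Φ := fun v =>
      ⟨_, (hjet (secForm ι (i := i) χ' σ' v)).symm.trans (jetOf_secForm ι (i := i) b' χ' σ' hb' v)⟩
    have hinj : Function.Injective Φ := LinearMap.injective_iff_surjective.2 hsurj
    let u : Fin (m + 1) → k := fun t => J (some t) none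
    let L : Fin (m + 1) → k := fun t => ∑ l, (c l t + c t l) * u l
    have h0 : jetOf b' χ' (algebraMap _ _ (LefDual.pform ι i H)) = 0 :=
      jetOf_mem_sq b' χ' (mem_ker_of_mem χ' (fun a => by rw [hχ', hχ]) hbad)
    have hq : qv c u = 0 := by
      have := congrFun h0 none
      rw [hH] at this
      simpa [jetOf_none, qv, u, J, ← IsScalarTower.algebraMap_apply] using this
    have hLu : ∑ t, L t * u t = 0 := by
      have h2 : qv c (u + u) = 0 := by
        have e : u + u = (2 : k) • u := by funext t; simp; ring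
        rw [e]
        simp only [qv, Pi.smul_apply, smul_eq_mul]
        rw [← mul_zero (4 : k), ← hq, qv, Finset.mul_sum]
        refine Finset.sum_congr rfl fun t _ => ?_
        rw [Finset.mul_sum]
        exact Finset.sum_congr rfl fun l _ => by ring
      rw [qv_add, hq, add_zero, zero_add, cross_eq] at h2
      simpa [L, add_mul, Finset.sum_add_distrib, Finset.sum_mul] using h2
    let v : Option (Fin (m + 1)) → k := fun o => o.elim 0 L
    have hΦv : Φ v = 0 := by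
      rw [hΦ, Fintype.sum_option]
      simp only [v, Option.elim_none, zero_smul, zero_add, Option.elim_some]
      funext o
      cases o with
      | none => simpa [Finset.sum_apply, u] using hLu
      | some s =>
        have h1 := congrFun h0 (some s)
        rw [hH] at h1
        simp only [map_sum, map_mul, ← IsScalarTower.algebraMap_apply] at h1
        simp only [← Algebra.smul_def (R := k), map_smul, Pi.zero_apply, Finset.sum_apply, Pi.smul_apply, smul_eq_mul] at h1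
        have h2 : ∀ t l, jetOf b' χ' (algebraMap _ _ (LefDual.pform ι i (ℓs (some t))) * algebraMap _ _ (LefDual.pform ι i (ℓs (some l))))
            (some s) = u t * J (some l) (some s) + J (some t) (some s) * u l := fun t l => by
          simp [jetOf_some, jetOf_none, pd, Derivation.leibniz, u, J, -algebraMap_smul]
          ring
        simp only [h2, cross_eq] at h1
        simpa [Finset.sum_apply, L, add_mul, Finset.sum_add_distrib, Finset.sum_mul] using h1
    have hv : v = 0 := hinj (hΦv.trans (map_zero Φ).symm)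
    have hu : u = 0 := (nonSing_iff c).1 (nonSing_hypMatrix k (m + 1)) u hq fun a => congrFun hv (some a)
    refine ⟨J none none, fun hJ => ?_, fun ℓ => ?_⟩
    · obtain ⟨v', hv'⟩ := hsurj (Pi.single none 1)
      have h3 := congrFun hv' none
      rw [hΦ, Fintype.sum_option] at h3
      simp [Finset.sum_apply, hJ, show ∀ t, J (some t) none = 0 from fun t => congrFun hu t] at h3
    · have h4 := congrFun (hjet ℓ) none
      rw [jetOf_none, hχ', hΦ, Fintype.sum_option] at h4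
      rw [h4]
      simp [Finset.sum_apply, show ∀ t, J (some t) none = 0 from fun t => congrFun hu t, jetOf_none, hχh]
  have hbad₁ : LefDual.pform ι i₁ H ∈ P₁ ^ 2 := (algebraMap_mem_sq_iff P₁ _).1 hnd.mem_sq_max
  refine ⟨H, ⟨i₁, P₁, hP₁, hbad₁⟩, (oneOrdQuad_iff ι H).2 ⟨i₁, P₁, hP₁, hnd, ?_⟩⟩
  rintro x hx
  have hx' := hx
  obtain ⟨i, P, hP, rfl, hbad⟩ := hx
  haveI := hP
  obtain ⟨χ, hχ⟩ := LefDual.exists_point (k := k) P
  obtain ⟨u₀, hu₀, hu⟩ := hval i P χ hP hχ hbad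
  have hmem : pt ι i ⟨P, hP.isPrime⟩ ∈ BertiniHyp.piece ι i₁ := (pt_mem_piece_iff ι i i₁ P hP).2 fun hm => hu₀ (by
    have := hu (xform k r i₁)
    rwa [pform_xform, pform_xform, LefDual.pcoord_self, map_one, one_mul, (hχ _).1 hm, eq_comm] at this)
  obtain ⟨Q, hQ, hQx⟩ := exists_pt ι hmem (pt_isClosed ι i P hP)
  haveI := hQ
  obtain ⟨χQ, hχQ⟩ := LefDual.exists_point (k := k) Q
  obtain ⟨u₁, -, hu'⟩ := hval i₁ Q χQ hQ hχQ (BadAt.mem_sq ι (hP := hQ) (hQx.symm ▸ hx'))
  have hu1 : u₁ = 1 := by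
    have := hu' (xform k r i₁)
    rwa [pform_xform, LefDual.pcoord_self, map_one, map_one, one_mul, eq_comm] at this
  have hQP : Q = P₁ := by
    have : χQ = χ₁ := AlgHom.ext fun a => by
      obtain ⟨p, rfl⟩ := LefDual.aeval_pcoord_surjective ι i₁ a
      rw [MvPolynomial.comp_aeval_apply, MvPolynomial.comp_aeval_apply]
      refine congrArg (fun f => MvPolynomial.aeval f p) (funext fun l => ?_)
      have := hu' (xform k r l)
      rwa [pform_xform, hu1, mul_one] at this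
    exact Ideal.ext fun a => by rw [hχQ, hχ₁, this]
  subst hQP
  exact hQx.symm

/-- Some form has a single ordinary quadratic singular point. -/
theorem exists_oneOrd_bad (d : ℕ) (hd : 2 ≤ d) :
    ∃ H : LefPen.Form r k d, LefDual.Bad ι H ∧ LefPen.OneOrdQuad k (m + 1) ι H := by
  classical
  haveI : Smooth (ι ≫ CohB1.ProjSpace.toSpec r k) := SmoothOfRelativeDimension.smooth (m + 1) _
  haveI := LefDual.isIntegral_of_embedded (n := m + 1) ι
  haveI := LefDual.jacobsonSpace_of_immersion ι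
  haveI := fun i => LefDual.piece_smooth ι i
  haveI := LefDual.finiteType_piece ι
  haveI : ∀ i, IsNoetherianRing Γ(X, BertiniHyp.piece ι i) := fun i => Algebra.FiniteType.isNoetherianRing k _
  let Good : ∀ i : Fin (r + 1), Set Γ(X, BertiniHyp.piece ι i) := fun i => {h | Algebra.Smooth k (Localization.Away h) ∧
    ∃ (σ : Fin (m + 1) → Fin (r + 1)) (b : Module.Basis (Fin (m + 1)) (Localization.Away h) Ω[Localization.Away h⁄k]),
      ∀ t, b t = KaehlerDifferential.D k _ (algebraMap _ (Localization.Away h) (LefDual.pcoord ι i (σ t)))}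
  have hcov : ∀ i, ∃ F : Finset Γ(X, BertiniHyp.piece ι i), ↑F ⊆ Good i ∧
      ∀ P : Ideal Γ(X, BertiniHyp.piece ι i), P.IsMaximal → ∃ h ∈ F, h ∉ P := fun i => by
    have htop : Ideal.span (Good i) = ⊤ := by
      by_contra hne
      obtain ⟨P, hP, hle⟩ := Ideal.exists_le_maximal _ hne
      haveI := hP
      obtain ⟨h, hh, hdata⟩ := exists_pieceData ι i P (m := m)
      exact hh (hle (Ideal.subset_span hdata))
    obtain ⟨F, hF, hF'⟩ := (Ideal.span_eq_top_iff_finite (Good i)).1 htop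
    refine ⟨F, hF, fun P hP => ?_⟩
    by_contra! hcon
    exact hP.ne_top (top_le_iff.1 (hF' ▸ Ideal.span_le.2 hcon))
  choose F hFgood hFcov using hcov
  -- a point in all the coordinate neighbourhoods
  obtain ⟨x₁, hx₁U, hx₁⟩ : ∃ x₁ : X, (∀ i, ∀ h ∈ F i, h ≠ 0 → x₁ ∈ X.basicOpen h) ∧ x₁ ∈ closedPoints X := by
    let U : Set X := ⋂ i, ⋂ h ∈ (F i).filter (· ≠ 0), (X.basicOpen h : Set X)
    have hU : IsOpen U := isOpen_iInter_of_finite fun i => isOpen_biInter_finset fun h _ => (X.basicOpen h).isOpen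
    have hgen : genericPoint X ∈ U := Set.mem_iInter.2 fun i => Set.mem_iInter₂.2 fun h hh => by
      have hne : X.basicOpen h ≠ ⊥ := fun hb => (Finset.mem_filter.1 hh).2 ((AlgebraicGeometry.basicOpen_eq_bot_iff h).1 hb)
      obtain ⟨y, hy⟩ := SetLike.coe_injective.ne hne |> Set.nonempty_iff_ne_empty.2
      exact ((genericPoint_spec X).mem_open_set_iff (X.basicOpen h).isOpen).2 ⟨y, trivial, hy⟩
    obtain ⟨x, hxU, hx⟩ := nonempty_inter_closedPoints ⟨_, hgen⟩ hU.isLocallyClosed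
    refine ⟨x, fun i h hh h0 => ?_, hx⟩
    exact Set.mem_iInter₂.1 (Set.mem_iInter.1 hxU i) h (Finset.mem_filter.2 ⟨hh, h0⟩)
  obtain ⟨i₁, hi₁⟩ := exists_piece_mem ι x₁
  obtain ⟨P₁, hP₁, hPx₁⟩ := exists_pt ι hi₁ hx₁
  haveI := hP₁
  obtain ⟨χ₁, hχ₁⟩ := LefDual.exists_point (k := k) P₁
  obtain ⟨h₁, hh₁, -, σ₁, b₁, hb₁⟩ := exists_pieceData ι i₁ P₁ (m := m)
  obtain ⟨χh₁, hχh₁⟩ := exists_lift_away h₁ χ₁ fun e0 => hh₁ ((hχ₁ h₁).2 e0)
  haveI hne₁ : Nonempty (BertiniHyp.piece ι i₁) := ⟨⟨x₁, hi₁⟩⟩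
  -- the base point
  have hbase : (d = 2 ∧ ∀ ℓ : LefPen.Form r k 1, LefDual.pform ι i₁ ℓ ∈ P₁ ^ 2 → LefDual.pform ι i₁ ℓ = 0) ∨
      ∃ (j₀ : Fin (r + 1)) (P₀ : Ideal Γ(X, BertiniHyp.piece ι j₀)) (hP₀ : P₀.IsMaximal),
        pt ι j₀ ⟨P₀, hP₀.isPrime⟩ ≠ x₁ ∧ (3 ≤ d ∨ ∃ ℓ : LefPen.Form r k 1, LefDual.pform ι j₀ ℓ ∉ P₀ ∧
          ∀ (i : Fin (r + 1)) (P : Ideal Γ(X, BertiniHyp.piece ι i)) (hP : P.IsMaximal),
            pt ι i ⟨P, hP.isPrime⟩ = x₁ → LefDual.pform ι i ℓ ∈ P ^ 2) := by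
    by_cases hl : ∃ ℓ : LefPen.Form r k 1, LefDual.pform ι i₁ ℓ ∈ P₁ ^ 2 ∧ LefDual.pform ι i₁ ℓ ≠ 0
    · obtain ⟨ℓ, hℓ, hℓ0⟩ := hl
      obtain ⟨P₀, hP₀, hP₀ℓ⟩ := exists_notMem_maximal ι (m := m) hne₁ hℓ0
      refine Or.inr ⟨i₁, P₀, hP₀, fun he => hP₀ℓ ?_, Or.inr ⟨ℓ, hP₀ℓ, fun i P hP hx => ?_⟩⟩
      · have := congrArg PrimeSpectrum.asIdeal (pt_injective ι i₁ (he.trans hPx₁.symm))
        exact (show P₀ = P₁ from this).symm ▸ Ideal.pow_le_self two_ne_zero hℓ
      · exact mem_pow_transfer ι (m := m) ℓ hP₁ hP (hPx₁.trans hx.symm) hℓ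
    by_cases h3 : 3 ≤ d
    · let ℓ := secForm ι (i := i₁) χh₁ σ₁ (Pi.single (some 0) 1)
      have hj := jetOf_secForm ι (i := i₁) b₁ χh₁ σ₁ hb₁ (Pi.single (some 0) 1)
      have hℓ0 : LefDual.pform ι i₁ ℓ ≠ 0 := fun h => by
        rw [show LefDual.pform ι i₁ (secForm ι (i := i₁) χh₁ σ₁ (Pi.single (some 0) 1)) = 0 from h, map_zero, map_zero] at hj
        simpa using (congrFun hj (some 0)).symm
      have hℓP : LefDual.pform ι i₁ ℓ ∈ P₁ := (hχ₁ _).2 (by
        rw [← hχh₁]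
        have := congrFun hj none
        simpa [jetOf_none, ℓ] using this)
      obtain ⟨P₀, hP₀, hP₀ℓ⟩ := exists_notMem_maximal ι (m := m) hne₁ hℓ0
      exact Or.inr ⟨i₁, P₀, hP₀, fun he => hP₀ℓ ((show P₀ = P₁ from
        congrArg PrimeSpectrum.asIdeal (pt_injective ι i₁ (he.trans hPx₁.symm))).symm ▸ hℓP), Or.inl h3⟩
    push Not at hl
    exact Or.inl ⟨by omega, hl⟩
  rcases hbase with ⟨rfl, hlin⟩ | ⟨j₀, P₀, hP₀, hne, hstar⟩
  · exact exists_oneOrd_linear ι i₁ P₁ hlin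
  haveI := hP₀
  obtain ⟨χ₀, hχ₀⟩ := LefDual.exists_point (k := k) P₀
  obtain ⟨H₀, hH₀P, hH₀⟩ := exists_nondeg_at ι (m := m) j₀ P₀ d hd
  haveI : Module.Finite k (LefPen.Form r k d) := Module.Finite.equiv (ForSys.formEquiv k r d).symm
  let Lsub : Submodule k (LefPen.Form r k d) := (Submodule.restrictScalars k (P₀ ^ 2)).comap (pformL ι d j₀)
  have hLmem : ∀ G, G ∈ Lsub ↔ LefDual.pform ι j₀ G ∈ P₀ ^ 2 := fun G => by simp [Lsub, pformL_apply]
  haveI : FiniteDimensional k Lsub := FiniteDimensional.finiteDimensional_submodule _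
  haveI : Module.Free k Lsub := Module.Free.of_divisionRing k Lsub
  let γ := Module.finBasis k Lsub
  let mem : (Fin (Module.finrank k Lsub) → k) → LefPen.Form r k d := fun a => ∑ s, a s • (γ s).1
  have hmem : ∀ a, LefDual.pform ι j₀ (mem a) ∈ P₀ ^ 2 := fun a => (hLmem _).1 (Submodule.sum_mem _ fun s _ => Lsub.smul_mem _ (γ s).2)
  have hrepr : ∀ G, LefDual.pform ι j₀ G ∈ P₀ ^ 2 → ∃ a, mem a = G := fun G hG =>
    ⟨γ.repr ⟨G, (hLmem G).2 hG⟩, by
      have := congrArg Subtype.val (γ.sum_repr ⟨G, (hLmem G).2 hG⟩)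
      exact (Submodule.coe_sum ..).symm.trans this⟩
  -- the functions cutting out the base point
  have hcut : ∀ i, ∃ f : Fin (r + 1) → Γ(X, BertiniHyp.piece ι i),
      (∀ (P : Ideal Γ(X, BertiniHyp.piece ι i)) (hP : P.IsMaximal), pt ι i ⟨P, hP.isPrime⟩ ≠ pt ι j₀ ⟨P₀, hP₀.isPrime⟩ →
        ∃ l, f l ∉ P) ∧
      ∀ l (χ : Γ(X, BertiniHyp.piece ι i) →ₐ[k] k), χ (f l) ≠ 0 →
        ∃ ℓ₀ : LefPen.Form r k 1, LefDual.pform ι j₀ ℓ₀ ∈ P₀ ∧ χ (LefDual.pform ι i ℓ₀) = 1 := by
    intro i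
    by_cases hx : pt ι j₀ ⟨P₀, hP₀.isPrime⟩ ∈ BertiniHyp.piece ι i
    · obtain ⟨Q, hQ, hQx⟩ := exists_pt ι hx (pt_isClosed ι j₀ P₀ hP₀)
      haveI := hQ
      obtain ⟨χQ, hχQ⟩ := LefDual.exists_point (k := k) Q
      refine ⟨fun l => LefDual.pcoord ι i l - algebraMap k _ (χQ (LefDual.pcoord ι i l)), fun P hP hPne => ?_, fun l χ hl => ?_⟩
      · by_contra! hcon
        haveI := hP
        obtain ⟨χ, hχ⟩ := LefDual.exists_point (k := k) P
        refine hPne ?_
        have : χ = χQ := AlgHom.ext fun a => by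
          obtain ⟨p, rfl⟩ := LefDual.aeval_pcoord_surjective ι i a
          rw [MvPolynomial.comp_aeval_apply, MvPolynomial.comp_aeval_apply]
          refine congrArg (fun f => MvPolynomial.aeval f p) (funext fun l => ?_)
          have := (hχ _).1 (hcon l)
          rwa [map_sub, AlgHom.commutes, sub_eq_zero] at this
        obtain rfl : P = Q := Ideal.ext fun a => by rw [hχ, hχQ, this]
        exact hQx
      · let c := χ (LefDual.pcoord ι i l - algebraMap k _ (χQ (LefDual.pcoord ι i l)))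
        refine ⟨c⁻¹ • (xform k r l - χQ (LefDual.pcoord ι i l) • xform k r i), ?_, ?_⟩
        · rw [← pow_one P₀]
          refine mem_pow_transfer ι (m := m) _ hQ hP₀ hQx ?_
          rw [pow_one, hχQ, ← pformL_apply]
          simp only [map_smul, map_sub, pformL_apply, pform_xform, LefDual.pcoord_self, Algebra.smul_def, map_mul,
            AlgHom.commutes, mul_one]
          simp
        · rw [← pformL_apply]
          simp only [map_smul, map_sub, pformL_apply, pform_xform, LefDual.pcoord_self, Algebra.smul_def, mul_one]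
          rw [map_mul, AlgHom.commutes]
          exact inv_mul_cancel₀ hl
    · refine ⟨fun _ => 1, fun P hP _ => ⟨0, fun h => hP.ne_top ((Ideal.eq_top_iff_one _).2 h)⟩, fun l χ _ => ?_⟩
      refine ⟨xform k r i, ?_, by rw [pform_xform, LefDual.pcoord_self, map_one]⟩
      rw [pform_xform]
      by_contra h
      exact hx ((pt_mem_piece_iff ι j₀ i P₀ hP₀).2 h)
  choose f hf hfℓ using hcut
  -- genericity
  have hpoly : ∀ x : Σ i : Fin (r + 1), ↥(F i) × Fin (r + 1),
      ∃ p : MvPolynomial (Fin (Module.finrank k Lsub)) k, p ≠ 0 ∧ ∀ a, MvPolynomial.eval a p ≠ 0 →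
        ∀ χ : Γ(X, BertiniHyp.piece ι x.1) →ₐ[k] k, χ x.2.1.1 ≠ 0 → χ (f x.1 x.2.2) ≠ 0 →
          LefDual.pform ι x.1 (mem a) ∉ RingHom.ker χ ^ 2 := by
    rintro ⟨i, ⟨h, hhF⟩, l⟩
    by_cases h0 : h = 0
    · exact ⟨1, one_ne_zero, fun a _ χ hχ => (hχ (by simp [show h = 0 from h0])).elim⟩
    haveI : Nonempty (BertiniHyp.piece ι i) := ⟨⟨x₁, X.basicOpen_le h (hx₁U i h hhF h0)⟩⟩
    obtain ⟨hsm, σ, b, hb⟩ := hFgood i hhF
    haveI := hsm
    haveI : IsDomain (Localization.Away h) := IsLocalization.isDomain_localization (powers_le_nonZeroDivisors_of_noZeroDivisors h0)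
    by_cases hf0 : algebraMap _ (Localization.Away h) (f i l) = 0
    · refine ⟨1, one_ne_zero, fun a _ χ hχ hχf => absurd ?_ hχf⟩
      obtain ⟨χ', hχ'⟩ := exists_lift_away h χ hχ
      rw [← hχ', hf0, map_zero]
    let S := Localization.Away h
    let S' := Localization.Away (algebraMap _ S (f i l))
    haveI : IsDomain S' := IsLocalization.isDomain_localization (powers_le_nonZeroDivisors_of_noZeroDivisors hf0)
    haveI : Algebra.Smooth k S' := Algebra.Smooth.comp k S S'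
    let b' : Module.Basis (Fin (m + 1)) S' Ω[S'⁄k] :=
      b.ofIsLocalizedModule S' (Submonoid.powers (algebraMap _ S (f i l))) (KaehlerDifferential.map k k S S')
    have hb' : ∀ t, b' t = KaehlerDifferential.D k S' (algebraMap _ S' (LefDual.pcoord ι i (σ t))) := fun t => by
      rw [show b' t = KaehlerDifferential.map k k S S' (b t) from Module.Basis.ofIsLocalizedModule_apply .., hb,
        IsScalarTower.algebraMap_apply Γ(X, BertiniHyp.piece ι i) S S']
      exact KaehlerDifferential.map_D k k S S' _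
    have hpd : ∀ (y : S) t, pd b' (algebraMap S S' y) t = algebraMap S S' (pd b y t) := fun y t => by
      have h1 : KaehlerDifferential.D k S' (algebraMap S S' y) = ∑ t, algebraMap S S' (pd b y t) • b' t := by
        rw [← KaehlerDifferential.map_D k k S S', ← b.sum_repr (KaehlerDifferential.D k S y), map_sum]
        refine Finset.sum_congr rfl fun t _ => ?_
        rw [map_smul, show b' t = KaehlerDifferential.map k k S S' (b t) from Module.Basis.ofIsLocalizedModule_apply ..,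
          ← algebraMap_smul S']
        rfl
      show b'.repr _ t = _
      rw [h1, b'.repr_sum_self]
    let g : Fin (Module.finrank k Lsub) → S := fun s => algebraMap _ S (LefDual.pform ι i (γ s).1)
    let g' : Fin (Module.finrank k Lsub) → S' := fun s => algebraMap _ S' (LefDual.pform ι i (γ s).1)
    have hg' : ∀ a, LefDual.member g' a = algebraMap _ S' (LefDual.pform ι i (mem a)) := fun a => by
      rw [← pformL_apply, map_sum, map_sum]
      simp only [LefDual.member, g', map_smul, pformL_apply, Algebra.smul_def, map_mul, ← IsScalarTower.algebraMap_apply]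
    have hjetv' : ∀ (χ' : S' →ₐ[k] k) a, jetv b' g' χ' a = jetOf b' χ' (algebraMap _ S' (LefDual.pform ι i (mem a))) := fun χ' a => by
      rw [← hg', LefDual.member, map_sum]
      simp only [← Algebra.smul_def, map_smul]
      funext o
      cases o <;> simp [jetv, jetOf_none, jetOf_some, Finset.sum_apply]
    have hfull : ∃ A : Option (Fin (m + 1)) → Fin (Module.finrank k Lsub) → k,
        Matrix.det (Matrix.of fun o o' => ∑ s, algebraMap k S' (A o s) * o'.elim (g' s) fun t => pd b' (g' s) t) ≠ 0 := by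
      have hx₁i := X.basicOpen_le h (hx₁U i h hhF h0)
      obtain ⟨P, hP, hPx⟩ := exists_pt ι hx₁i hx₁
      haveI := hP
      obtain ⟨χ, hχ⟩ := LefDual.exists_point (k := k) P
      have hχh : χ h ≠ 0 := fun e0 => by
        have h2 := (hχ h).2 e0
        rw [← pow_one P, mem_pow_iff_germ ι i P hP, pow_one, IsLocalRing.mem_maximalIdeal, mem_nonunits_iff] at h2
        have h3 := hx₁U i h hhF h0
        rw [← hPx, Scheme.mem_basicOpen _ _ _ (pt_mem ι i _)] at h3
        exact h2 h3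
      obtain ⟨χ', hχ'⟩ := exists_lift_away h χ hχh
      obtain ⟨l', hl'⟩ := hf i P hP (fun e => hne (e.symm.trans hPx))
      obtain ⟨ℓ₀, hℓ₀, hℓ₀'⟩ := hfℓ i l' χ fun e0 => hl' ((hχ _).2 e0)
      obtain ⟨A, hA⟩ := exists_det_of_point (fun s (o : Option (Fin (m + 1))) => o.elim (g s) fun t => pd b (g s) t) χ'
        fun u => by
          obtain ⟨G, hG, hGj⟩ := exists_full_jets ι (i := i) b χ' σ P₀ hd χ₀ hχ₀ hb ℓ₀ hℓ₀ (by rw [hχ', hℓ₀'])
            (hstar.imp id fun ⟨ℓ, hℓ, hℓ'⟩ => ⟨ℓ, hℓ, jetOf_mem_sq b χ'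
              (mem_ker_of_mem χ' (fun a => by rw [hχ', hχ]) (hℓ' i P hP hPx))⟩) u
          obtain ⟨a, rfl⟩ := hrepr G hG
          refine ⟨a, fun o => ?_⟩
          rw [← congrFun hGj o, ← pformL_apply, map_sum, map_sum, map_sum]
          simp only [map_smul, pformL_apply, Algebra.smul_def, map_mul, ← IsScalarTower.algebraMap_apply]
          simp only [← Algebra.smul_def, map_smul, Finset.sum_apply, Pi.smul_apply, smul_eq_mul]
          refine Finset.sum_congr rfl fun s _ => ?_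
          cases o <;> rfl
      refine ⟨A, fun h0' => one_ne_zero (α := k) ?_⟩
      rw [← hA, ← map_zero χ']
      congr 1
      refine (map_eq_zero_iff (algebraMap S S') (IsLocalization.injective S' (powers_le_nonZeroDivisors_of_noZeroDivisors hf0))).1 ?_
      rw [← h0', RingHom.map_det]
      congr 1
      ext o o'
      simp only [RingHom.mapMatrix_apply, Matrix.map_apply, Matrix.of_apply, map_sum, map_mul, ← IsScalarTower.algebraMap_apply]
      refine Finset.sum_congr rfl fun s _ => ?_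
      have e : g' s = algebraMap S S' (g s) := IsScalarTower.algebraMap_apply Γ(X, BertiniHyp.piece ι i) S S' _
      cases o' <;> simp [e, hpd]
    obtain ⟨p, hp, hp'⟩ := exists_poly_noSing b' hb' g' (fun χ' => by
      let χ : Γ(X, BertiniHyp.piece ι i) →ₐ[k] k := χ'.comp (IsScalarTower.toAlgHom k _ S')
      have hu : IsUnit (algebraMap Γ(X, BertiniHyp.piece ι i) S' (f i l)) := by
        rw [IsScalarTower.algebraMap_apply _ S S']
        exact IsLocalization.Away.algebraMap_isUnit (S := S') _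
      obtain ⟨ℓ₀, hℓ₀, hℓ₀'⟩ := hfℓ i l χ (hu.map χ').ne_zero
      obtain ⟨μ, hμ, hμ'⟩ := exists_hyperplane_jets ι (i := i) b' χ' σ P₀ hd χ₀ hχ₀ hb' ℓ₀ hℓ₀ hℓ₀'
      refine ⟨μ, hμ, fun u hu => ?_⟩
      obtain ⟨G, hG, hGj⟩ := hμ' u hu
      obtain ⟨a, rfl⟩ := hrepr G hG
      exact ⟨a, (hjetv' χ' a).trans hGj⟩) hfull
    refine ⟨p, hp, fun a ha χ hχ hχf hbad => ?_⟩
    obtain ⟨χ', hχ'⟩ := exists_lift_away h χ hχ
    obtain ⟨χ'', hχ''⟩ := exists_lift_away (algebraMap _ S (f i l)) χ' (by rwa [hχ'])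
    have hcomp : ∀ y, χ'' (algebraMap _ S' y) = χ y := fun y => by
      rw [IsScalarTower.algebraMap_apply _ S S', hχ'', hχ']
    refine hp' a ha χ'' (sing_of_mem_sq b' g' a χ'' ?_)
    rw [hg']
    exact mem_ker_of_mem χ'' (fun y => by rw [hcomp, RingHom.mem_ker]) hbad
  choose p hp hp' using hpoly
  obtain ⟨qn, Q, hqn, -, hnond, -⟩ := exists_local_data ι (m := m) j₀ P₀ χ₀ hχ₀ H₀ hH₀
  let pn : MvPolynomial (Fin (Module.finrank k Lsub)) k := MvPolynomial.aeval
    (Sum.elim (fun s => ∑ t, MvPolynomial.C (ForSys.formEquiv k r d (γ t).1 s) * MvPolynomial.X t)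
      fun l => MvPolynomial.C (χ₀ (LefDual.pcoord ι j₀ l))) qn
  have hpn : ∀ a, MvPolynomial.eval a pn = MvPolynomial.eval
      (Sum.elim (ForSys.formEquiv k r d (mem a)) fun l => χ₀ (LefDual.pcoord ι j₀ l)) qn := fun a => by
    rw [← MvPolynomial.aeval_eq_eval, comp_aeval_eval]
    refine congrArg (fun x => MvPolynomial.eval x qn) (funext fun x => ?_)
    cases x with
    | inl s =>
      simp only [Sum.elim_inl, map_sum, map_mul, mem, map_smul, Finset.sum_apply, Pi.smul_apply, smul_eq_mul]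
      exact Finset.sum_congr rfl fun t _ => by simp [mul_comm]
    | inr l => simp
  have hpn0 : pn ≠ 0 := fun h => by
    obtain ⟨a, ha⟩ := hrepr H₀ ((algebraMap_mem_sq_iff P₀ _).1 hH₀.mem_sq_max)
    have := hpn a
    rw [h, map_zero, ha] at this
    exact hqn this.symm
  obtain ⟨a, ha⟩ : ∃ a, MvPolynomial.eval a (pn * ∏ x, p x) ≠ 0 := by
    by_contra! hcon
    exact mul_ne_zero hpn0 (Finset.prod_ne_zero_iff.2 fun x _ => hp x) (MvPolynomial.funext fun a => by rw [hcon a, map_zero])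
  rw [map_mul, map_prod, mul_ne_zero_iff, Finset.prod_ne_zero_iff, hpn] at ha
  refine ⟨mem a, ⟨j₀, P₀, hP₀, hmem a⟩, (oneOrdQuad_iff ι _).2 ⟨j₀, P₀, hP₀, hnond _ P₀ χ₀ hχ₀ (hmem a) ha.1, ?_⟩⟩
  rintro x ⟨i, P, hP, rfl, hbad⟩
  by_contra hxne
  obtain ⟨h, hhF, hhP⟩ := hFcov i P hP
  obtain ⟨l, hl⟩ := hf i P hP hxne
  haveI := hP
  obtain ⟨χ, hχ⟩ := LefDual.exists_point (k := k) P
  refine hp' ⟨i, ⟨h, hhF⟩, l⟩ a (ha.2 _ (Finset.mem_univ _)) χ (fun e => hhP ((hχ _).2 e)) (fun e => hl ((hχ _).2 e)) ?_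
  rwa [show RingHom.ker χ = P from Ideal.ext fun y => (hχ y).symm]

end Groth.Agent.LefPencil
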