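import Groth.Agent.LefPencil.CritChart
import Groth.Agent.LefPencil.OnePoint
import Groth.Agent.LefPencil.Generic
import Groth.Agent.DimTrdeg.Basic

/-!
# In characteristic zero a general linear pencil is Morse
-/

set_option autoImplicit false

universe u

open CategoryTheory CategoryTheory.Limits AlgebraicGeometry TopologicalSpace Opposite

namespace Groth.Agent.LefPencil

attribute [local instance] LefDual.pieceAlg

section Algebra

open KaehlerDifferential

variable {k : Type u} [Field k] {S : Type u} [CommRing S] [Algebra k S] {n : ℕ}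
  (b : Module.Basis (Fin n) S Ω[S⁄k]) {z : Fin n → S}

theorem trdeg_le_of_coords [IsAlgClosed k] [IsDomain S] [Algebra.Smooth k S] (hb : ∀ t, b t = D k S (z t)) :
    Algebra.trdeg k S ≤ n := by
  have hmin : (⊥ : Ideal S) ∈ minimalPrimes S := ⟨⟨Ideal.isPrime_bot, le_rfl⟩, fun q _ _ => bot_le⟩
  have hdim : ringKrullDim S = n := by
    rw [← BertiniAff.ringKrullDim_quotient_minimalPrime b hb hmin]
    exact (ringKrullDim_eq_of_ringEquiv (RingEquiv.quotientBot S)).symm
  obtain ⟨s, hs, hs'⟩ := DimTrdeg.exists_trdeg_eq_ringKrullDim k S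
  rw [hdim, Nat.cast_inj] at hs'
  rw [hs, hs']

theorem derivation_ker_pow (χ : S →ₐ[k] k) (δ : Derivation k S S) (s : ℕ) {y : S} (hy : y ∈ RingHom.ker χ ^ (s + 1)) :
    δ y ∈ RingHom.ker χ ^ s := by
  induction s generalizing y with
  | zero => simp
  | succ s ih =>
    rw [pow_succ] at hy
    refine Submodule.mul_induction_on hy (fun p hp q hq => ?_) fun p q hp hq => ?_
    · rw [Derivation.leibniz, smul_eq_mul, smul_eq_mul]
      refine add_mem (Ideal.mul_mem_right _ _ hp) ?_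
      rw [mul_comm, pow_succ]
      exact Ideal.mul_mem_mul (ih hp) hq
    · rw [map_add]; exact add_mem hp hq

theorem hessian_eq (hb : ∀ t, b t = D k S (z t)) (χ : S →ₐ[k] k) {y : S} (c : Fin n → Fin n → k)
    (hy : y - ∑ i, ∑ l, algebraMap k S (c i l) * ((z i - algebraMap k S (χ (z i))) * (z l - algebraMap k S (χ (z l)))) ∈
      RingHom.ker χ ^ 3) (t s : Fin n) :
    χ (pd b (pd b y t) s) = c t s + c s t := by
  classical
  let w : Fin n → S := fun i => z i - algebraMap k S (χ (z i))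
  have hw : ∀ i t, Crit.pdD b t (w i) = if i = t then 1 else 0 := fun i t => by
    rw [map_sub, Derivation.map_algebraMap, sub_zero, Crit.pdD_apply, pd, ← hb, Module.Basis.repr_self, Finsupp.single_apply]
  have h2 := derivation_ker_pow χ (Crit.pdD b s) 1 (derivation_ker_pow χ (Crit.pdD b t) 2 hy)
  rw [pow_one, RingHom.mem_ker, map_sub, map_sub, map_sub, sub_eq_zero, Crit.pdD_apply, Crit.pdD_apply] at h2
  rw [h2]
  have h1 : ∀ i l, χ (Crit.pdD b s (Crit.pdD b t (algebraMap k S (c i l) * (w i * w l)))) =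
      c i l * ((if i = t then 1 else 0) * (if l = s then 1 else 0) + (if l = t then 1 else 0) * (if i = s then 1 else 0)) := by
    intro i l
    by_cases hi : i = t <;> by_cases hl : l = t <;> simp [Derivation.leibniz, hw, hi, hl, apply_ite χ]
    all_goals ring
  rw [map_sum, map_sum, map_sum]
  simp only [map_sum]
  rw [Finset.sum_congr rfl fun i _ => Finset.sum_congr rfl fun l _ => h1 i l]
  simp [mul_add, Finset.sum_add_distrib]

/-- A linear section with non-degenerate Hessian has a non-degenerate quadratic part. -/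
theorem exists_quad_of_hessian [IsAlgClosed k] [Algebra.Smooth k S] (hb : ∀ t, b t = D k S (z t)) {M : ℕ} (x : Fin M → S) (H : Fin M → k)
    (χ : S →ₐ[k] k) (hs : Sing b x H χ)
    (hw : ∀ w : Fin n → k, (∀ t, ∑ s, w s * ∑ j, H j * χ (pd b (pd b (x j) t) s) = 0) → w = 0) :
    ∃ c : Fin n → Fin n → k, NonSing c ∧ LefDual.member x H - ∑ i, ∑ l, algebraMap k S (c i l) *
      ((z i - algebraMap k S (χ (z i))) * (z l - algebraMap k S (χ (z l)))) ∈ RingHom.ker χ ^ 3 := by
  obtain ⟨C, hC, -⟩ := exists_quad_and_pair b hb x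
  refine ⟨quadPart C H χ, (nonSing_iff _).2 fun v _ hv => hw v fun t => ?_, hC H χ hs⟩
  have hh : ∀ s, ∑ j, H j * χ (pd b (pd b (x j) t) s) = quadPart C H χ t s + quadPart C H χ s t := fun s => by
    rw [← hessian_eq b hb χ _ (hC H χ hs) t s, pd_member, pd_member]
    simp [LefDual.member]
  simp only [hh]
  rw [← hv t]
  exact Finset.sum_congr rfl fun s _ => by ring

end Algebra

variable {k : Type u} [Field k] {r : ℕ} {X : Scheme.{u}} (ι : X ⟶ CohB1.ProjSpace r k)

/-- The linear form with given coefficients. -/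
noncomputable def linForm (H : Fin (r + 1) → k) : LefPen.Form r k 1 := ∑ j, H j • xform k r j

variable [IsClosedImmersion ι]

theorem pform_linForm (i : Fin (r + 1)) (H : Fin (r + 1) → k) :
    LefDual.pform ι i (linForm H) = LefDual.member (LefDual.pcoord ι i) H := by
  rw [← pformL_apply, linForm, map_sum]
  simp only [map_smul, pformL_apply, pform_xform, Algebra.smul_def, LefDual.member]

theorem exists_linForm (G : LefPen.Form r k 1) : ∃ H, linForm H = G := by
  classical
  refine ⟨fun j => MvPolynomial.coeff (Finsupp.single j 1) G.1, Subtype.ext (MvPolynomial.ext _ _ fun m => ?_)⟩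
  simp only [linForm, Submodule.coe_sum, Submodule.coe_smul, xform, MvPolynomial.coeff_sum, MvPolynomial.coeff_smul,
    MvPolynomial.coeff_X, smul_eq_mul, mul_ite, mul_one, mul_zero]
  by_cases hm : m.degree = 1
  · obtain ⟨a, rfl⟩ : ∃ a, m = Finsupp.single a 1 := by
      obtain ⟨a, ha⟩ : ∃ a, m a ≠ 0 := by
        by_contra! hcon
        rw [show m = 0 from Finsupp.ext hcon, map_zero] at hm
        exact zero_ne_one hm
      refine ⟨a, ?_⟩
      have h1 : m.erase a + Finsupp.single a (m a) = m := Finsupp.erase_add_single a m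
      rw [← h1, map_add, Finsupp.degree_single] at hm
      have h2 : (m.erase a).degree = 0 := by omega
      rw [Finsupp.degree_eq_zero_iff] at h2
      rw [h2, zero_add] at h1
      rw [← h1, show m a = 1 by omega]
    rw [Finset.sum_eq_single a]
    · rw [if_pos rfl]
    · exact fun j _ hj => if_neg fun h => hj (Finsupp.single_left_injective one_ne_zero h)
    · exact fun h => absurd (Finset.mem_univ _) h
  · rw [MvPolynomial.IsHomogeneous.coeff_eq_zero (show G.1.IsHomogeneous 1 from G.2) hm]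
    exact Finset.sum_eq_zero fun j _ => if_neg fun h => hm (by rw [← h, Finsupp.degree_single])

theorem linForm_sub (H : Fin (r + 1) → k) (γ : Fin (r + 1) → k) (v : k) :
    linForm (fun j => H j - v * γ j) = linForm H - v • linForm γ := by
  rw [linForm, linForm, linForm, Finset.smul_sum, ← Finset.sum_sub_distrib]
  refine Finset.sum_congr rfl fun j _ => ?_
  show (H j - v * γ j) • xform k r j = _
  exact (sub_smul (H j) (v * γ j) (xform k r j)).trans (congrArg (H j • xform k r j - ·) (mul_smul v (γ j) (xform k r j)))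

variable [IsAlgClosed k] [IrreducibleSpace X] {m : ℕ} [SmoothOfRelativeDimension (m + 1) (ι ≫ CohB1.ProjSpace.toSpec r k)]

omit [IrreducibleSpace X] in
theorem mem_basicOpen_pt [Smooth (ι ≫ CohB1.ProjSpace.toSpec r k)] (i : Fin (r + 1)) (P : Ideal Γ(X, BertiniHyp.piece ι i)) (hP : P.IsMaximal)
    (f : Γ(X, BertiniHyp.piece ι i)) : pt ι i ⟨P, hP.isPrime⟩ ∈ X.basicOpen f ↔ f ∉ P := by
  have h := mem_pow_iff_germ ι i P hP f 1
  rw [pow_one, pow_one] at h
  rw [Scheme.mem_basicOpen _ _ _ (pt_mem ι i _), h, IsLocalRing.mem_maximalIdeal, mem_nonunits_iff, not_not]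

/-- In characteristic zero there is a section with one ordinary quadratic point, or a pencil without singular members. -/
theorem exists_oneOrd_or_pencil [CharZero k] (g : LefPen.Form r k 1) (hg : ¬ LefDual.Bad ι g) :
    (∃ H : LefPen.Form r k 1, LefDual.Bad ι H ∧ LefPen.OneOrdQuad k (m + 1) ι H) ∨
      ∃ G : LefPen.Form r k 1, ∀ s t : k, (s ≠ 0 ∨ t ≠ 0) → ¬ LefDual.Bad ι (s • g + t • G) := by
  classical
  haveI : Smooth (ι ≫ CohB1.ProjSpace.toSpec r k) := SmoothOfRelativeDimension.smooth (m + 1) _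
  haveI := LefDual.isIntegral_of_embedded (n := m + 1) ι
  haveI := LefDual.jacobsonSpace_of_immersion ι
  haveI := fun i => LefDual.piece_smooth ι i
  haveI := LefDual.finiteType_piece ι
  haveI : ∀ i, IsNoetherianRing Γ(X, BertiniHyp.piece ι i) := fun i => Algebra.FiniteType.isNoetherianRing k _
  obtain ⟨γ, rfl⟩ := exists_linForm g
  let Good : ∀ i : Fin (r + 1), Set Γ(X, BertiniHyp.piece ι i) := fun i => {h | Algebra.Smooth k (Localization.Away h) ∧
    ∃ (σ : Fin (m + 1) → Fin (r + 1)) (b : Module.Basis (Fin (m + 1)) (Localization.Away h) Ω[Localization.Away h⁄k]),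
      ∀ t, b t = KaehlerDifferential.D k _ (algebraMap _ (Localization.Away h) (LefDual.pcoord ι i (σ t)))}
  have hcov : ∀ i, ∃ F : Finset Γ(X, BertiniHyp.piece ι i), ↑F ⊆ Good i ∧
      ∀ P : Ideal Γ(X, BertiniHyp.piece ι i), P.IsMaximal → ∃ h ∈ F, h ∉ P := fun i => by
    have htop : Ideal.span (Good i) = ⊤ := by
      by_contra hne
      obtain ⟨P, hP, hle⟩ := Ideal.exists_le_maximal _ hne
      haveI := hP
      obtain ⟨h, hh, hdata⟩ := exists_pieceData ι i P (m := m)
      exact hh (hle (Ideal.subset_span hdata))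
    obtain ⟨F, hF, hF'⟩ := (Ideal.span_eq_top_iff_finite (Good i)).1 htop
    refine ⟨F, hF, fun P hP => ?_⟩
    by_contra! hcon
    exact hP.ne_top (top_le_iff.1 (hF' ▸ Ideal.span_le.2 hcon))
  choose F hFgood hFcov using hcov
  obtain ⟨i₀, P₀, hP₀⟩ := exists_closedPoint_piece ι (k := k)
  haveI := hP₀
  obtain ⟨h₀, hh₀F, hh₀⟩ := hFcov i₀ P₀ hP₀
  have h00 : h₀ ≠ 0 := fun e => hh₀ (e ▸ P₀.zero_mem)
  haveI : Nonempty (BertiniHyp.piece ι i₀) := ⟨⟨_, pt_mem ι i₀ ⟨P₀, hP₀.isPrime⟩⟩⟩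
  obtain ⟨hsm₀, σ₀, b₀, hb₀⟩ := hFgood i₀ hh₀F
  haveI := hsm₀
  haveI : IsDomain (Localization.Away h₀) := IsLocalization.isDomain_localization (powers_le_nonZeroDivisors_of_noZeroDivisors h00)
  let x₀ : Fin (r + 1) → Localization.Away h₀ := fun j => algebraMap _ _ (LefDual.pcoord ι i₀ j)
  have hx₀ : x₀ i₀ = 1 := by simp [x₀, LefDual.pcoord_self]
  obtain ⟨qm, Pm, hqm, hqm'⟩ := Crit.exists_poly_main b₀ σ₀ i₀ x₀ hb₀ hx₀ γ (trdeg_le_of_coords b₀ hb₀)
  -- the singular points of a general member lie in the chart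
  have havoid : ∀ y : Σ i : Fin (r + 1), ↥(F i), ∃ q : MvPolynomial (ULift.{u} (Fin (r + 1))) k, q ≠ 0 ∧
      ∀ (P : Ideal Γ(X, BertiniHyp.piece ι y.1)) (hP : P.IsMaximal) (H : Fin (r + 1) → k) (v : k), y.2.1 ∉ P →
        LefDual.pform ι y.1 (linForm H) ∈ P ^ 2 → MvPolynomial.eval (fun j => H j.down + v * γ j.down) q ≠ 0 →
        pt ι y.1 ⟨P, hP.isPrime⟩ ∈ X.basicOpen h₀ := by
    rintro ⟨i, h, hhF⟩
    by_cases hex : ∃ P : Ideal Γ(X, BertiniHyp.piece ι i), P.IsMaximal ∧ h ∉ P
    swap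
    · exact ⟨1, one_ne_zero, fun P hP H v hhP => absurd ⟨P, hP, hhP⟩ hex⟩
    obtain ⟨P', hP', hhP'⟩ := hex
    have h0 : h ≠ 0 := fun e => hhP' (e ▸ P'.zero_mem)
    haveI : Nonempty (BertiniHyp.piece ι i) := ⟨⟨_, pt_mem ι i ⟨P', hP'.isPrime⟩⟩⟩
    obtain ⟨hsm, σ, b, hb⟩ := hFgood i hhF
    haveI := hsm
    haveI : IsDomain (Localization.Away h) := IsLocalization.isDomain_localization (powers_le_nonZeroDivisors_of_noZeroDivisors h0)
    have hgenU : ∀ U : X.Opens, (∃ x, x ∈ U) → genericPoint X ∈ U := fun U ⟨x, hx⟩ =>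
      ((genericPoint_spec X).mem_open_set_iff U.isOpen).2 ⟨x, trivial, hx⟩
    have hη : genericPoint X ∈ BertiniHyp.piece ι i := hgenU _ ⟨_, pt_mem ι i ⟨P', hP'.isPrime⟩⟩
    have hη₀ : genericPoint X ∈ X.basicOpen h₀ := hgenU _ ⟨_, (mem_basicOpen_pt ι i₀ P₀ hP₀ h₀).2 hh₀⟩
    obtain ⟨f, hfle, hfmem⟩ : ∃ f : Γ(X, BertiniHyp.piece ι i), X.basicOpen f ≤ X.basicOpen h₀ ∧ genericPoint X ∈ X.basicOpen f :=
      (LefDual.pieceAff ι i).2.exists_basicOpen_le (V := X.basicOpen h₀) ⟨_, hη₀⟩ hη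
    have hf0 : f ≠ 0 := fun e => by
      rw [e, Scheme.basicOpen_zero] at hfmem
      exact hfmem
    have hf0' : algebraMap _ (Localization.Away h) f ≠ 0 := fun e => hf0
      (IsLocalization.injective (Localization.Away h) (powers_le_nonZeroDivisors_of_noZeroDivisors h0) (e.trans (map_zero _).symm))
    let x : Fin (r + 1) → Localization.Away h := fun j => algebraMap _ _ (LefDual.pcoord ι i j)
    obtain ⟨q, hq, hq'⟩ := Crit.exists_poly_avoid b σ i x hb (by simp [x, LefDual.pcoord_self]) γ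
      (trdeg_le_of_coords b hb) hf0'
    refine ⟨q, hq, fun P hP H v hhP hbad hev => hfle ((mem_basicOpen_pt ι i P hP f).2 ?_)⟩
    haveI := hP
    obtain ⟨χ, hχ⟩ := LefDual.exists_point (k := k) P
    obtain ⟨χ', hχ'⟩ := exists_lift_away h χ fun e0 => hhP ((hχ h).2 e0)
    have hmem := mem_ker_of_mem χ' (fun a => by rw [hχ', hχ]) hbad
    rw [pform_linForm, LefDual.member, map_sum] at hmem
    simp only [map_mul, ← IsScalarTower.algebraMap_apply] at hmem
    have hs := sing_of_mem_sq b x H χ' hmem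
    have h0' := hs.1
    simp only [LefDual.member, map_sum, map_mul, AlgHom.commutes, Algebra.algebraMap_self, RingHom.id_apply] at h0'
    refine fun hfP => hq' χ' H v h0' (fun t => ?_) hev (by rw [hχ']; exact (hχ f).1 hfP)
    have h1 := hs.2 t
    rw [pd_member] at h1
    simpa [LefDual.member] using h1
  choose qa hqa hqa' using havoid
  obtain ⟨a, ha⟩ : ∃ a, MvPolynomial.eval a (qm * ∏ y, qa y) ≠ 0 := by
    by_contra! hcon
    exact mul_ne_zero hqm (Finset.prod_ne_zero_iff.2 fun y _ => hqa y) (MvPolynomial.funext fun a => by rw [hcon a, map_zero])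
  rw [map_mul, map_prod, mul_ne_zero_iff, Finset.prod_ne_zero_iff] at ha
  let A : Fin (r + 1) → k := fun j => a (ULift.up j)
  let Hv : k → Fin (r + 1) → k := fun v j => A j - v * γ j
  have hAv : ∀ v, (fun j : ULift.{u} (Fin (r + 1)) => Hv v j.down + v * γ j.down) = a := fun v => funext fun j => by
    simp [Hv, A]
  have hAv' : ∀ v, (fun l => Hv v l + v * γ l) = A := fun v => funext fun l => by simp [Hv]
  -- a singular point of a member is a non-degenerate point of the chart
  have hkey : ∀ (v : k) (x : X), BadAt ι (linForm (Hv v)) x → ∃ (Q : Ideal Γ(X, BertiniHyp.piece ι i₀)) (hQ : Q.IsMaximal),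
      pt ι i₀ ⟨Q, hQ.isPrime⟩ = x ∧ Nondeg k (m + 1) (algebraMap _ (Localization.AtPrime Q) (LefDual.pform ι i₀ (linForm (Hv v)))) ∧
      ∃ χ : Γ(X, BertiniHyp.piece ι i₀) →ₐ[k] k, (∀ y, y ∈ Q ↔ χ y = 0) ∧ ∀ j, χ (LefDual.pcoord ι i₀ j) = Pm j v A := by
    intro v x hx
    have hx' := hx
    obtain ⟨i, P, hP, rfl, hbad⟩ := hx
    obtain ⟨h, hhF, hhP⟩ := hFcov i P hP
    have hin := hqa' ⟨i, h, hhF⟩ P hP (Hv v) v hhP hbad (by rw [hAv]; exact ha.2 _ (Finset.mem_univ _))
    obtain ⟨Q, hQ, hQx⟩ := exists_pt ι (X.basicOpen_le h₀ hin) (pt_isClosed ι i P hP)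
    haveI := hQ
    refine ⟨Q, hQ, hQx, ?_⟩
    have hh₀Q : h₀ ∉ Q := (mem_basicOpen_pt ι i₀ Q hQ h₀).1 (hQx.symm ▸ hin)
    have hbadQ := BadAt.mem_sq ι (hP := hQ) (hQx.symm ▸ hx')
    obtain ⟨χ, hχ⟩ := LefDual.exists_point (k := k) Q
    obtain ⟨χ', hχ'⟩ := exists_lift_away h₀ χ fun e0 => hh₀Q ((hχ h₀).2 e0)
    have hPh : ∀ y, y ∈ Q ↔ χ' (algebraMap _ _ y) = 0 := fun y => by rw [hχ', hχ]
    have himg : algebraMap _ (Localization.Away h₀) (LefDual.pform ι i₀ (linForm (Hv v))) = LefDual.member x₀ (Hv v) := by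
      rw [pform_linForm, LefDual.member, map_sum]
      simp only [map_mul, ← IsScalarTower.algebraMap_apply]
      rfl
    have hmem := mem_ker_of_mem χ' hPh hbadQ
    rw [himg] at hmem
    have hs := sing_of_mem_sq b₀ x₀ (Hv v) χ' hmem
    have h0' := hs.1
    simp only [LefDual.member, map_sum, map_mul, AlgHom.commutes, Algebra.algebraMap_self, RingHom.id_apply] at h0'
    obtain ⟨hhess, hPm⟩ := hqm' χ' (Hv v) v h0' (fun t => by
      have h1 := hs.2 t
      rw [pd_member] at h1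
      simpa [LefDual.member] using h1)
      (by rw [hAv]; exact ha.1)
    rw [hAv'] at hPm
    refine ⟨?_, χ, hχ, fun j => ?_⟩
    · haveI := regular_localization ι i₀ Q
      obtain ⟨φ, -, hcrit⟩ := coord_criterion b₀ hb₀ χ' Q hPh (residue_bijective ι i₀ Q)
      obtain ⟨c, hc, hquad⟩ := exists_quad_of_hessian b₀ hb₀ x₀ (Hv v) χ' hs hhess
      refine (hcrit _ c ?_).2 hc
      rw [himg]
      exact hquad
    · rw [← hχ']
      exact hPm j
  by_cases hbad : ∃ v, LefDual.Bad ι (linForm (Hv v))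
  · obtain ⟨v, hv⟩ := hbad
    refine Or.inl ⟨linForm (Hv v), hv, ?_⟩
    obtain ⟨i, P, hP, hbad⟩ := hv
    obtain ⟨Q, hQ, -, hnd, χ, hχ, hPm⟩ := hkey v _ ⟨i, P, hP, rfl, hbad⟩
    refine (oneOrdQuad_iff ι _).2 ⟨i₀, Q, hQ, hnd, fun x hx => ?_⟩
    obtain ⟨Q', hQ', hQx, -, χ', hχ', hPm'⟩ := hkey v x hx
    have : χ' = χ := AlgHom.ext fun y => by
      obtain ⟨p, rfl⟩ := LefDual.aeval_pcoord_surjective ι i₀ y
      rw [MvPolynomial.comp_aeval_apply, MvPolynomial.comp_aeval_apply]
      exact congrArg (fun f => MvPolynomial.aeval f p) (funext fun l => (hPm' l).trans (hPm l).symm)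
    obtain rfl : Q' = Q := Ideal.ext fun y => by rw [hχ, hχ', this]
    exact hQx.symm
  · refine Or.inr ⟨linForm A, fun s t hst hb => ?_⟩
    by_cases ht : t = 0
    · have hs : s ≠ 0 := hst.resolve_right fun h => h ht
      have h2 := bad_smul ι (c := s⁻¹) hb
      rw [ht, zero_smul, add_zero, inv_smul_smul₀ hs] at h2
      exact hg h2
    · refine hbad ⟨-(s / t), ?_⟩
      have h2 := bad_smul ι (c := t⁻¹) hb
      rw [smul_add, inv_smul_smul₀ ht, smul_smul, ← div_eq_inv_mul, add_comm] at h2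
      rw [linForm_sub, sub_eq_add_neg, ← neg_one_smul k (-(s / t) • linForm γ), smul_smul, neg_one_mul, neg_neg]
      exact h2

end Groth.Agent.LefPencil
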