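import Groth.Agent.LefPencil.LocalOrd
import Groth.Agent.LefDual.Smooth

/-!
# Coordinates near a point and the quadratic part
-/

set_option autoImplicit false

universe u

namespace Groth.Agent.LefPencil

open KaehlerDifferential MvPolynomial

variable {k : Type u} [Field k] [IsAlgClosed k] {R : Type u} [CommRing R] [IsLocalRing R] [IsNoetherianRing R] [Algebra k R]

theorem nondeg_iff_of_chart {n : ℕ} {φ : R →ₐ[k] MvPolynomial (Fin n) k ⧸ mv k n ^ 3} (hφ : IsChart φ) {g : R}
    {c : Fin n → Fin n → k} (hg : φ g = Ideal.Quotient.mk _ (qf c)) : Nondeg k n g ↔ NonSing c := by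
  refine ⟨?_, fun h => ⟨φ, hφ, c, h, hg⟩⟩
  rintro ⟨φ', hφ', c', hc', hg'⟩
  obtain ⟨α, hα, hq, -⟩ := transfer hφ' le_rfl (Ideal.pow_le_pow_right (by norm_num)) φ hφ.1
    fun x hx => RingHom.mem_ker.1 (hφ.2 ▸ hx)
  obtain ⟨c'', hc'', hv⟩ := exists_qf_comp c' α
  have h1 := hq g c' c'' hc'' hg'
  rw [hg, Ideal.Quotient.eq] at h1
  refine nonSing_of_comp hα (fun v => ?_) hc'
  rw [qv_eq_of_sub_mem h1, hv]

theorem chart_of_coords [IsRegularLocalRing R]
    (hres : Function.Bijective (algebraMap k (R ⧸ IsLocalRing.maximalIdeal R))) {n : ℕ} (t : Fin n → R)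
    (ht : ∀ i, t i ∈ IsLocalRing.maximalIdeal R)
    (hspan : ∀ x ∈ IsLocalRing.maximalIdeal R, ∃ γ : Fin n → k,
      x - ∑ i, algebraMap k R (γ i) * t i ∈ IsLocalRing.maximalIdeal R ^ 2)
    (hind : ∀ γ : Fin n → k, ∑ i, algebraMap k R (γ i) * t i ∈ IsLocalRing.maximalIdeal R ^ 2 → γ = 0) :
    ∃ φ : R →ₐ[k] MvPolynomial (Fin n) k ⧸ mv k n ^ 3, IsChart φ ∧
      ∀ (g : R) (c : Fin n → Fin n → k),
        g - ∑ i, ∑ l, algebraMap k R (c i l) * (t i * t l) ∈ IsLocalRing.maximalIdeal R ^ 3 →
        (Nondeg k n g ↔ NonSing c) := by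
  classical
  obtain ⟨d, φ, hφ⟩ := exists_chart (k := k) hres
  have h3le : mv k d ^ 3 ≤ mv k d := Ideal.pow_le_self (by norm_num)
  have hlin : ∀ i, ∃ α, φ (t i) - Ideal.Quotient.mk _ (lin α) ∈ (mv k d ^ 2).map (Ideal.Quotient.mk (mv k d ^ 3)) := fun i => by
    obtain ⟨p, hp, hpx⟩ := (Ideal.mem_map_iff_of_surjective _ Ideal.Quotient.mk_surjective).1
      ((mem_max_iff h3le φ hφ.1 _).1 (ht i))
    obtain ⟨α, hα⟩ := exists_lin hp
    exact ⟨α, by rw [← hpx, ← map_sub]; exact Ideal.mem_map_of_mem _ hα⟩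
  choose α hα using hlin
  have hmap : ∀ s, ∀ x ∈ IsLocalRing.maximalIdeal R ^ s, φ x ∈ (mv k d ^ s).map (Ideal.Quotient.mk (mv k d ^ 3)) := fun s x hx => by
    have h := Ideal.mem_map_of_mem φ hx
    rw [Ideal.map_pow] at h ⊢
    exact Ideal.pow_right_mono ((Ideal.map_le_iff_le_comap (K := (mv k d).map (Ideal.Quotient.mk (mv k d ^ 3)))).2 fun y hy => Ideal.mem_comap.2 ((mem_max_iff h3le φ hφ.1 y).1 hy)) s h
  have hsq : ∀ x, φ x ∈ (mv k d ^ 2).map (Ideal.Quotient.mk (mv k d ^ 3)) → x ∈ IsLocalRing.maximalIdeal R ^ 2 := fun x hx => by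
    have h0 : (mv k d).map (Ideal.Quotient.mk (mv k d ^ 3)) ≤ (IsLocalRing.maximalIdeal R).map φ := fun y hy => by
      obtain ⟨z, rfl⟩ := hφ.1 y
      exact Ideal.mem_map_of_mem _ ((mem_max_iff h3le φ hφ.1 z).2 hy)
    rw [Ideal.map_pow] at hx
    have hx' := Ideal.pow_right_mono h0 2 hx
    rw [← Ideal.map_pow] at hx'
    obtain ⟨z, hz, hzx⟩ := (Ideal.mem_map_iff_of_surjective φ hφ.1).1 hx'
    have h1 : x - z ∈ IsLocalRing.maximalIdeal R ^ 3 := by rw [← hφ.2, RingHom.mem_ker, map_sub, hzx, sub_self]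
    simpa using add_mem (Ideal.pow_le_pow_right (by norm_num : 2 ≤ 3) h1) hz
  have hcomb : ∀ γ : Fin n → k, φ (∑ i, algebraMap k R (γ i) * t i) -
      Ideal.Quotient.mk _ (lin fun a => ∑ i, γ i * α i a) ∈ (mv k d ^ 2).map (Ideal.Quotient.mk (mv k d ^ 3)) := fun γ => by
    have e : (lin fun a => ∑ i, γ i * α i a : MvPolynomial (Fin d) k) = ∑ i, C (γ i) * lin (α i) := by
      simp only [lin, map_sum, Finset.sum_mul, Finset.mul_sum, map_mul]
      rw [Finset.sum_comm]
      exact Finset.sum_congr rfl fun i _ => Finset.sum_congr rfl fun a _ => mul_assoc _ _ _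
    rw [e, map_sum, map_sum, ← Finset.sum_sub_distrib]
    refine Submodule.sum_mem _ fun i _ => ?_
    rw [map_mul, map_mul, AlgHom.commutes, show Ideal.Quotient.mk _ (C (γ i)) = algebraMap k (MvPolynomial (Fin d) k ⧸ mv k d ^ 3) (γ i) from rfl, ← mul_sub]
    exact Ideal.mul_mem_left _ _ (hα i)
  let T : (Fin n → k) →ₗ[k] (Fin d → k) :=
    { toFun := fun γ a => ∑ i, γ i * α i a
      map_add' := fun v w => funext fun i => by simp [add_mul, Finset.sum_add_distrib]
      map_smul' := fun a v => funext fun i => by simp [Finset.mul_sum, mul_assoc] }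
  have hinj : Function.Injective T := (injective_iff_map_eq_zero T).2 fun γ hγ => hind γ (hsq _ (by
    have := hcomb γ
    rwa [show (lin fun a => ∑ i, γ i * α i a : MvPolynomial (Fin d) k) = lin (T γ) from rfl, hγ,
      show (lin (0 : Fin d → k)) = 0 by simp [lin], map_zero, sub_zero] at this))
  have hsurj : Function.Surjective T := by
    intro v
    obtain ⟨x, hx⟩ := hφ.1 (Ideal.Quotient.mk _ (lin v))
    obtain ⟨γ, hγ⟩ := hspan x ((mem_max_iff h3le φ hφ.1 x).2 (hx ▸ Ideal.mem_map_of_mem _ (lin_mem v)))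
    refine ⟨γ, ?_⟩
    have h1 := hmap 2 _ hγ
    rw [map_sub, hx] at h1
    have h2 := add_mem h1 (hcomb γ)
    rw [sub_add_sub_cancel, ← map_sub, Ideal.mem_quotient_iff_mem_sup,
      sup_eq_left.2 (Ideal.pow_le_pow_right (by norm_num : 2 ≤ 3)),
      show lin v - (lin fun a => ∑ i, γ i * α i a) = lin (v - T γ) by simp [lin, sub_mul, Finset.sum_sub_distrib, T]] at h2
    exact (sub_eq_zero.1 (lin_eq_zero_of_mem h2)).symm
  obtain rfl : n = d := by simpa using (LinearEquiv.ofBijective T ⟨hinj, hsurj⟩).finrank_eq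
  refine ⟨φ, hφ, fun g c hg => ?_⟩
  obtain ⟨c', hc', hv⟩ := exists_qf_comp c α
  have hquad : ∀ i l, φ (t i) * φ (t l) = Ideal.Quotient.mk _ (lin (α i) * lin (α l)) := fun i l => by
    rw [← sub_eq_zero, map_mul, show φ (t i) * φ (t l) - Ideal.Quotient.mk _ (lin (α i)) * Ideal.Quotient.mk _ (lin (α l)) =
      (φ (t i) - Ideal.Quotient.mk _ (lin (α i))) * φ (t l) +
        Ideal.Quotient.mk _ (lin (α i)) * (φ (t l) - Ideal.Quotient.mk _ (lin (α l))) by ring,
      ← Submodule.mem_bot (MvPolynomial (Fin n) k ⧸ mv k n ^ 3), ← Ideal.map_quotient_self (mv k n ^ 3)]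
    refine add_mem ?_ ?_
    · have hp : (mv k n ^ 3).map (Ideal.Quotient.mk (mv k n ^ 3)) =
          (mv k n ^ 2).map (Ideal.Quotient.mk (mv k n ^ 3)) * (mv k n).map (Ideal.Quotient.mk (mv k n ^ 3)) := by
        rw [← Ideal.map_mul, ← pow_succ]
      exact hp.ge <| Ideal.mul_mem_mul (hα i) ((mem_max_iff h3le φ hφ.1 _).1 (ht l))
    · have hp : (mv k n ^ 3).map (Ideal.Quotient.mk (mv k n ^ 3)) =
          (mv k n).map (Ideal.Quotient.mk (mv k n ^ 3)) * (mv k n ^ 2).map (Ideal.Quotient.mk (mv k n ^ 3)) := by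
        rw [← Ideal.map_mul, ← pow_succ']
      exact hp.ge <| Ideal.mul_mem_mul (Ideal.mem_map_of_mem _ (lin_mem _)) (hα l)
  have hg' : φ g = Ideal.Quotient.mk _ (qf c') := by
    rw [← hc']
    have h1 := RingHom.mem_ker.1 (hφ.2.symm ▸ hg)
    rw [map_sub, sub_eq_zero] at h1
    rw [h1]
    simp only [map_sum, map_mul, AlgHom.commutes, hquad]
    rfl
  rw [nondeg_iff_of_chart hφ hg']
  let A : (Fin n → k) →ₗ[k] (Fin n → k) :=
    { toFun := fun v i => ∑ l, α i l * v l
      map_add' := fun v w => funext fun i => by simp [mul_add, Finset.sum_add_distrib]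
      map_smul' := fun a v => funext fun i => by simp [Finset.mul_sum, mul_left_comm] }
  have hA : Function.Injective A := (injective_iff_map_eq_zero A).2 fun v hv => funext fun a => by
    obtain ⟨γ, hγ⟩ := hsurj (Pi.single a 1)
    have : v a = ∑ i, γ i * A v i := by
      simp only [A, LinearMap.coe_mk, AddHom.coe_mk, Finset.mul_sum, ← mul_assoc]
      rw [Finset.sum_comm]
      simp only [← Finset.sum_mul, show ∀ x, ∑ i, γ i * α i x = (Pi.single a 1 : Fin n → k) x from fun x => congrFun hγ x,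
        Pi.single_apply, ite_mul, one_mul, zero_mul, Finset.sum_ite_eq', Finset.mem_univ, if_true]
    rw [this, hv]; simp
  constructor
  · intro h v hv'
    obtain ⟨u, rfl⟩ := LinearMap.injective_iff_surjective.1 hA v
    rw [h u fun w => ((hv (u + w)).trans ((congrArg (qv c) (map_add A u w)).trans (hv' (A w)))).trans (hv w).symm, map_zero]
  · exact nonSing_of_comp hA hv

/-- Coordinates on a principal open subset give charts at its points. -/
theorem coord_criterion {B : Type u} [CommRing B] [Algebra k B] [Algebra.FiniteType k B] {h : B} {n : ℕ}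
    (b : Module.Basis (Fin n) (Localization.Away h) Ω[Localization.Away h⁄k]) {z : Fin n → Localization.Away h}
    (hb : ∀ t, b t = D k _ (z t)) (χ : Localization.Away h →ₐ[k] k) (P : Ideal B) [P.IsMaximal]
    (hP : ∀ a, a ∈ P ↔ χ (algebraMap B _ a) = 0) [IsRegularLocalRing (Localization.AtPrime P)]
    (hres : Function.Bijective (algebraMap k (Localization.AtPrime P ⧸ IsLocalRing.maximalIdeal (Localization.AtPrime P)))) :
    ∃ φ : Localization.AtPrime P →ₐ[k] MvPolynomial (Fin n) k ⧸ mv k n ^ 3, IsChart φ ∧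
      ∀ (a : B) (c : Fin n → Fin n → k),
        algebraMap B (Localization.Away h) a -
          ∑ i, ∑ l, algebraMap k _ (c i l) * ((z i - algebraMap k _ (χ (z i))) * (z l - algebraMap k _ (χ (z l)))) ∈
            RingHom.ker χ ^ 3 →
        (Nondeg k n (algebraMap B (Localization.AtPrime P) a) ↔ NonSing c) := by
  classical
  haveI : IsNoetherianRing B := Algebra.FiniteType.isNoetherianRing k B
  let R := Localization.AtPrime P
  have hh : χ (algebraMap B (Localization.Away h) h) ≠ 0 := ((IsLocalization.Away.algebraMap_isUnit (S := (Localization.Away h)) h).map χ).ne_zero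
  have hhP : h ∉ P := fun e => hh ((hP h).1 e)
  let θ : (Localization.Away h) →ₐ[k] R := IsLocalization.liftAlgHom (M := Submonoid.powers h) (S := (Localization.Away h)) (f := IsScalarTower.toAlgHom k B R)
    (fun ⟨_, e, he⟩ => by
      subst he
      exact IsLocalization.map_units R (⟨h ^ e, fun hm => hhP (‹P.IsMaximal›.isPrime.mem_of_pow_mem e hm)⟩ : P.primeCompl))
  have hθ : ∀ a, θ (algebraMap B (Localization.Away h) a) = algebraMap B R a := fun a => IsLocalization.lift_eq _ a
  haveI hmax : (RingHom.ker χ).IsMaximal := RingHom.ker_isMaximal_of_surjective χ fun c => ⟨algebraMap k _ c, χ.commutes c⟩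
  have hθm : ∀ x, χ x = 0 → θ x ∈ IsLocalRing.maximalIdeal R := fun x hx => by
    obtain ⟨e, a, ha⟩ := IsLocalization.Away.surj h x
    have haP : a ∈ P := (hP a).2 (by rw [← ha, map_mul, hx, zero_mul])
    have h1 : θ x * θ (algebraMap B (Localization.Away h) h ^ e) ∈ IsLocalRing.maximalIdeal R := by
      rw [← map_mul, ha, hθ]
      exact (IsLocalization.AtPrime.to_map_mem_maximal_iff R P a).2 haP
    exact (Ideal.mul_unit_mem_iff_mem _ (((IsLocalization.Away.algebraMap_isUnit (S := (Localization.Away h)) h).pow e).map θ)).1 h1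
  have hθle : ∀ s, ∀ x ∈ RingHom.ker χ ^ s, θ x ∈ IsLocalRing.maximalIdeal R ^ s := fun s x hx => by
    have h1 := Ideal.mem_map_of_mem θ hx
    rw [Ideal.map_pow] at h1
    exact Ideal.pow_right_mono ((Ideal.map_le_iff_le_comap (K := IsLocalRing.maximalIdeal R)).2 fun y hy => Ideal.mem_comap.2 (hθm y hy)) s h1
  let t : Fin n → (Localization.Away h) := fun i => z i - algebraMap k _ (χ (z i))
  have ht : ∀ i, χ (t i) = 0 := fun i => by simp [t]
  haveI : Algebra.FiniteType k (Localization.Away h) := inferInstance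
  have hspan' : ∀ x, χ x = 0 → ∃ γ : Fin n → k, x - ∑ i, algebraMap k (Localization.Away h) (γ i) * t i ∈ RingHom.ker χ ^ 2 := fun x hx => by
    let γ : Fin n → k := fun i => χ (b.repr (D k (Localization.Away h) x) i)
    refine ⟨γ, (LefDual.mem_sq_iff (k := k) _ _).2 ⟨by simp [RingHom.mem_ker, hx, ht], ?_⟩⟩
    have hD : D k (Localization.Away h) (x - ∑ i, algebraMap k (Localization.Away h) (γ i) * t i) =
        ∑ i, (b.repr (D k (Localization.Away h) x) i - algebraMap k (Localization.Away h) (γ i)) • b i := by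
      rw [map_sub, map_sum]
      simp only [Derivation.leibniz, Derivation.map_algebraMap, smul_zero, add_zero, t, map_sub, sub_zero, ← hb]
      conv_lhs => arg 1; rw [← b.sum_repr (D k (Localization.Away h) x)]
      simp only [sub_smul, Finset.sum_sub_distrib]
    rw [hD]
    exact Submodule.sum_mem _ fun i _ => Submodule.smul_mem_smul (by simp [RingHom.mem_ker, γ]) trivial
  refine (chart_of_coords hres (fun i => θ (t i)) (fun i => hθm _ (ht i)) (fun x hx => ?_) (fun γ hγ => ?_)).imp
    fun φ hφ => ⟨hφ.1, fun a c hac => hφ.2 _ c ?_⟩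
  · obtain ⟨⟨a, s⟩, has⟩ := IsLocalization.surj P.primeCompl x
    obtain ⟨χs, hs⟩ : ∃ v : k, v * χ (algebraMap B (Localization.Away h) s.1) = 1 :=
      ⟨_, inv_mul_cancel₀ fun e => s.2 ((hP _).2 e)⟩
    have haP : a ∈ P := (IsLocalization.AtPrime.to_map_mem_maximal_iff R P a).1 (has ▸ Ideal.mul_mem_right _ _ hx)
    obtain ⟨γ, hγ⟩ := hspan' (algebraMap k (Localization.Away h) χs * algebraMap B (Localization.Away h) a) (by simp [(hP a).1 haP])
    refine ⟨γ, ?_⟩
    have h1 := hθle 2 _ hγ
    simp only [map_sub, map_mul, map_sum, AlgHom.commutes, hθ] at h1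
    have h2 : x - algebraMap k R χs * algebraMap B R a ∈ IsLocalRing.maximalIdeal R ^ 2 := by
      rw [← has, show x - algebraMap k R χs * (x * algebraMap B R s.1) = x * (1 - algebraMap k R χs * algebraMap B R s.1) by ring, pow_two]
      refine Ideal.mul_mem_mul hx ?_
      have h3 := hθm (1 - algebraMap k (Localization.Away h) χs * algebraMap B (Localization.Away h) s.1) (by simp [hs])
      simp only [map_sub, map_one, map_mul, AlgHom.commutes, hθ] at h3
      exact h3
    simpa using add_mem h2 h1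
  · have hu : θ (∑ i, algebraMap k (Localization.Away h) (γ i) * t i) ∈ IsLocalRing.maximalIdeal R ^ 2 := by simpa using hγ
    set u := ∑ i, algebraMap k (Localization.Away h) (γ i) * t i with hudef
    obtain ⟨e, a, ha⟩ := IsLocalization.Away.surj h u
    have h1 : algebraMap B R a ∈ IsLocalRing.maximalIdeal R ^ 2 := by
      rw [← hθ, ← ha, map_mul]; exact Ideal.mul_mem_right _ _ hu
    rw [← Localization.AtPrime.map_eq_maximalIdeal, ← Ideal.map_pow] at h1
    obtain ⟨s, hs, hsa⟩ := (IsLocalization.algebraMap_mem_map_algebraMap_iff P.primeCompl R _ _).1 h1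
    have h2 := Ideal.mem_map_of_mem (algebraMap B (Localization.Away h)) hsa
    rw [map_mul, Ideal.map_pow, ← ha] at h2
    have h3 := Ideal.pow_right_mono (Ideal.map_le_iff_le_comap.2 fun y hy => (hP y).1 hy :
      P.map (algebraMap B (Localization.Away h)) ≤ RingHom.ker χ) 2 h2
    have h4 : u ∈ RingHom.ker χ ^ 2 := by
      have hc : algebraMap B (Localization.Away h) s * algebraMap B (Localization.Away h) h ^ e ∉ RingHom.ker χ := by
        simp only [RingHom.mem_ker, map_mul, map_pow]
        exact mul_ne_zero (fun e' => hs ((hP s).2 e')) (pow_ne_zero _ hh)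
      have hsup : Ideal.span {algebraMap B (Localization.Away h) s * algebraMap B (Localization.Away h) h ^ e} ⊔ RingHom.ker χ ^ 2 = ⊤ :=
        Ideal.sup_pow_eq_top (hmax.out.2 _ (lt_of_le_of_ne le_sup_right fun e' =>
          hc (e'.symm.le (Ideal.mem_sup_left (Ideal.mem_span_singleton_self _)))))
      obtain ⟨v', hv', w', hw', hvw⟩ := Submodule.mem_sup.1 (hsup.symm ▸ Submodule.mem_top : (1 : (Localization.Away h)) ∈ _)
      obtain ⟨v, rfl⟩ := Ideal.mem_span_singleton'.1 hv'
      rw [show u = v * (algebraMap B (Localization.Away h) s * (u * algebraMap B (Localization.Away h) h ^ e)) + u * w' by linear_combination (-u) * hvw]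
      exact add_mem (Ideal.mul_mem_left _ _ h3) (Ideal.mul_mem_left _ _ hw')
    have h5 := ((LefDual.mem_sq_iff (k := k) _ _).1 h4).2
    funext i
    have h6 : χ (b.repr (D k (Localization.Away h) u) i) = 0 := by
      have h7 := LinearMap.map_le_range.trans le_rfl (Submodule.mem_map_of_mem (f := (Finsupp.lapply i).comp b.repr.toLinearMap) h5)
      refine Submodule.smul_induction_on h5 (fun p hp ω _ => ?_) fun x y hx hy => by rw [map_add, Finsupp.add_apply, map_add, hx, hy, add_zero]
      rw [map_smul, Finsupp.smul_apply, smul_eq_mul, map_mul, RingHom.mem_ker.1 hp, zero_mul]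
    have h8 : D k (Localization.Away h) u = ∑ l, algebraMap k (Localization.Away h) (γ l) • b l := by
      rw [hudef, map_sum]
      simp [Derivation.leibniz, Derivation.map_algebraMap, t, hb]
    rw [h8, b.repr_sum_self] at h6
    simpa using h6
  · have h1 := hθle 3 _ hac
    simpa [hθ, t, R] using h1

end Groth.Agent.LefPencil
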