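import Groth.Agent.LefPencil.Jacobian
import Groth.Agent.LefPencil.Pair

/-!
# Critical points of the linear functions on a coordinate chart
-/

set_option autoImplicit false

universe u

namespace Groth.Agent.LefPencil

open KaehlerDifferential MvPolynomial

namespace Crit

variable {k : Type u} [Field k] {S : Type u} [CommRing S] [Algebra k S] {n r : ℕ}
  (b : Module.Basis (Fin n) S Ω[S⁄k]) (σ : Fin n → Fin (r + 1)) (i : Fin (r + 1)) (x : Fin (r + 1) → S)

/-- The indices of the free coefficients. -/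
abbrev Free : Type := {j : Fin (r + 1) // j ∉ Set.range σ ∧ j ≠ i}

/-- The free coefficients and the parameter. -/
abbrev Par : Type u := ULift.{u} (Option (Free σ i))

/-- The partial derivative. -/
noncomputable def pdD (t : Fin n) : Derivation k S S :=
  ((Finsupp.lapply t).comp b.repr.toLinearMap).compDer (D k S)

theorem pdD_apply (t : Fin n) (y : S) : pdD b t y = pd b y t := rfl

variable (hb : ∀ t, b t = D k S (x (σ t))) (hxi : x i = 1)

include hb in
theorem pd_coord (s t : Fin n) : pd b (x (σ s)) t = if s = t then 1 else 0 := by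
  rw [pd, ← hb, Module.Basis.repr_self, Finsupp.single_apply]

include hxi in
theorem pd_xi (t : Fin n) : pd b (x i) t = 0 := by
  rw [← pdD_apply, hxi, Derivation.map_one_eq_zero]

include hb hxi in
theorem sigma_injective [Nontrivial S] : Function.Injective σ ∧ ∀ t, σ t ≠ i := by
  refine ⟨fun s t h => ?_, fun t h => ?_⟩
  · by_contra hne
    have h1 := pd_coord b σ x hb s t
    rw [h, pd_coord b σ x hb, if_pos rfl, if_neg hne] at h1
    exact one_ne_zero h1
  · have h1 := pd_coord b σ x hb t t
    rw [h, pd_xi b i x hxi, if_pos rfl] at h1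
    exact zero_ne_one h1

include hb hxi in
/-- A solution of the linear conditions vanishing at the free indices vanishes. -/
theorem sol_zero {R : Type u} [CommRing R] (φ : S →+* R) (H : Fin (r + 1) → R)
    (h0 : ∑ j, H j * φ (x j) = 0) (h1 : ∀ t, ∑ j, H j * φ (pd b (x j) t) = 0) (hfree : ∀ j : Free σ i, H j.1 = 0) :
    H = 0 := by
  classical
  rcases subsingleton_or_nontrivial S with hS | hS
  · have : (1 : R) = 0 := by rw [← map_one φ, Subsingleton.elim (1 : S) 0, map_zero]
    funext j
    rw [Pi.zero_apply, ← mul_one (H j), this, mul_zero]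
  obtain ⟨hinj, hne⟩ := sigma_injective b σ i x hb hxi
  have hσ : ∀ t, H (σ t) = 0 := fun t => by
    rw [← h1 t, Finset.sum_eq_single (σ t)]
    · rw [pd_coord b σ x hb, if_pos rfl, map_one, mul_one]
    · intro j _ hj
      by_cases hr : j ∈ Set.range σ
      · obtain ⟨s, rfl⟩ := hr
        rw [pd_coord b σ x hb, if_neg (fun e => hj (congrArg σ e)), map_zero, mul_zero]
      · by_cases hji : j = i
        · rw [hji, pd_xi b i x hxi, map_zero, mul_zero]
        · rw [hfree ⟨j, hr, hji⟩, zero_mul]
    · exact fun h => absurd (Finset.mem_univ _) h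
  have hj : ∀ j, j ≠ i → H j = 0 := fun j hji => by
    by_cases hr : j ∈ Set.range σ
    · obtain ⟨s, rfl⟩ := hr
      exact hσ s
    · exact hfree ⟨j, hr, hji⟩
  funext j
  by_cases hji : j = i
  · rw [Finset.sum_eq_single i (fun j _ hji => by rw [hj j hji, zero_mul]) (fun h => absurd (Finset.mem_univ _) h), hxi,
      map_one, mul_one] at h0
    rw [hji, h0, Pi.zero_apply]
  · exact hj j hji

/-- The free variables. -/
noncomputable def fv (f : Free σ i) : MvPolynomial (Par.{u} σ i) S := MvPolynomial.X (ULift.up (some f))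

/-- The parameter. -/
noncomputable def par : MvPolynomial (Par.{u} σ i) S := MvPolynomial.X (ULift.up none)

open Classical in
/-- The coefficients away from the distinguished index. -/
noncomputable def coef (j : Fin (r + 1)) : MvPolynomial (Par.{u} σ i) S :=
  if h : ∃ t, σ t = j then -∑ f : Free σ i, fv σ i f * C (pd b (x f.1) h.choose)
  else if hj : j = i then 0 else fv σ i ⟨j, fun ⟨t, ht⟩ => h ⟨t, ht⟩, hj⟩

/-- The universal form singular at the point. -/
noncomputable def univ (j : Fin (r + 1)) : MvPolynomial (Par.{u} σ i) S :=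
  if j = i then -∑ l, coef b σ i x l * C (x l) else coef b σ i x j

theorem univ_free (f : Free σ i) : univ b σ i x f.1 = fv σ i f := by
  rw [univ, if_neg f.2.2, coef, dif_neg fun ⟨t, ht⟩ => f.2.1 ⟨t, ht⟩, dif_neg f.2.2]

include hb hxi in
theorem coef_i [Nontrivial S] : coef b σ i x i = 0 := by
  rw [coef, dif_neg fun ⟨t, ht⟩ => (sigma_injective b σ i x hb hxi).2 t ht, dif_pos rfl]

include hb hxi in
theorem univ_value [Nontrivial S] : ∑ j, univ b σ i x j * C (x j) = 0 := by
  classical
  have h : ∀ j, univ b σ i x j * C (x j) =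
      coef b σ i x j * C (x j) + if j = i then -∑ l, coef b σ i x l * C (x l) else 0 := fun j => by
    unfold univ
    by_cases hj : j = i
    · subst hj
      rw [if_pos rfl, if_pos rfl, coef_i b σ j x hb hxi, zero_mul, zero_add, hxi, map_one, mul_one]
    · rw [if_neg hj, if_neg hj, add_zero]
  rw [Finset.sum_congr rfl fun j _ => h j, Finset.sum_add_distrib, Finset.sum_ite_eq' Finset.univ i,
    if_pos (Finset.mem_univ _), add_neg_cancel]

include hb hxi in
theorem univ_deriv [Nontrivial S] (t : Fin n) : ∑ j, univ b σ i x j * C (pd b (x j) t) = 0 := by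
  classical
  obtain ⟨hinj, hne⟩ := sigma_injective b σ i x hb hxi
  rw [← Finset.sum_filter_add_sum_filter_not Finset.univ (fun j => j ∉ Set.range σ ∧ j ≠ i)]
  rw [Finset.sum_subtype (p := fun j => j ∉ Set.range σ ∧ j ≠ i) _ (fun j => by simp) fun j => univ b σ i x j * C (pd b (x j) t)]
  rw [Finset.sum_eq_single (σ t)]
  · have hc : univ b σ i x (σ t) = -∑ f : Free σ i, fv σ i f * C (pd b (x f.1) t) := by
      have hex : ∃ s, σ s = σ t := ⟨t, rfl⟩
      rw [univ, if_neg (hne t), coef, dif_pos hex, hinj hex.choose_spec]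
    rw [pd_coord b σ x hb, if_pos rfl, map_one, mul_one, hc, Finset.sum_congr rfl fun f _ => by rw [univ_free]]
    exact add_neg_cancel _
  · intro j hj hjt
    simp only [Finset.mem_filter, Finset.mem_univ, true_and, not_and_or, not_not] at hj
    rcases hj with ⟨s, rfl⟩ | hj
    · rw [pd_coord b σ x hb, if_neg (fun e => hjt (congrArg σ e)), map_zero, mul_zero]
    · rw [hj, pd_xi b i x hxi, map_zero, mul_zero]
  · intro h
    simp only [Finset.mem_filter, Finset.mem_univ, true_and, not_and_or, not_not] at h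
    exact absurd (Or.inl ⟨t, rfl⟩) h

variable (γ : Fin (r + 1) → k)

/-- The coordinates of the member. -/
noncomputable def mem (j : ULift.{u} (Fin (r + 1))) : MvPolynomial (Par.{u} σ i) S :=
  univ b σ i x j.down + par σ i * C (algebraMap k S (γ j.down))

include hb hxi in
/-- Every singular member comes from the universal one. -/
theorem exists_lift [Nontrivial S] (χ : S →ₐ[k] k) (H : Fin (r + 1) → k) (v : k) (h0 : ∑ j, H j * χ (x j) = 0)
    (h1 : ∀ t, ∑ j, H j * χ (pd b (x j) t) = 0) :
    ∃ ψ : MvPolynomial (Par.{u} σ i) S →ₐ[k] k, (∀ s, ψ (C s) = χ s) ∧ ψ (par σ i) = v ∧ (∀ j, ψ (univ b σ i x j) = H j) ∧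
      ∀ j, ψ (mem b σ i x γ j) = H j.down + v * γ j.down := by
  let val : Par.{u} σ i → k := fun p => p.down.elim v fun f => H f.1
  let ψ₀ : MvPolynomial (Par.{u} σ i) S →+* k := MvPolynomial.eval₂Hom χ.toRingHom val
  let ψ : MvPolynomial (Par.{u} σ i) S →ₐ[k] k := ⟨ψ₀, fun c => by
    simp [ψ₀, IsScalarTower.algebraMap_apply k S (MvPolynomial (Par.{u} σ i) S), MvPolynomial.algebraMap_eq]⟩
  have hC : ∀ s, ψ (C s) = χ s := fun s => MvPolynomial.eval₂Hom_C _ _ _
  have hX : ∀ p, ψ (X p) = val p := fun p => MvPolynomial.eval₂Hom_X' _ _ _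
  have hu : ∀ j, ψ (univ b σ i x j) = H j := by
    have h := sol_zero b σ i x hb hxi χ.toRingHom (fun j => ψ (univ b σ i x j) - H j) ?_ ?_ ?_
    · exact fun j => sub_eq_zero.1 (congrFun h j)
    · have := congrArg ψ (univ_value b σ i x hb hxi)
      simp only [map_sum, map_mul, hC, map_zero] at this
      simp only [sub_mul, Finset.sum_sub_distrib, AlgHom.toRingHom_eq_coe, RingHom.coe_coe, this, h0, sub_zero]
    · intro t
      have := congrArg ψ (univ_deriv b σ i x hb hxi t)
      simp only [map_sum, map_mul, hC, map_zero] at this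
      simp only [sub_mul, Finset.sum_sub_distrib, AlgHom.toRingHom_eq_coe, RingHom.coe_coe, this, h1, sub_zero]
    · intro f
      rw [univ_free, fv, hX, sub_eq_zero]
      rfl
  refine ⟨ψ, hC, hX _, hu, fun j => ?_⟩
  rw [mem, map_add, map_mul, hu, hC, AlgHom.commutes, par, hX]
  rfl

include hb hxi in
theorem card_par [Nontrivial S] : n + Fintype.card (Par.{u} σ i) = r + 1 := by
  classical
  obtain ⟨hinj, hne⟩ := sigma_injective b σ i x hb hxi
  let e : ({j : Fin (r + 1) // j ∉ Set.range σ ∧ j ≠ i} ⊕ (Fin n ⊕ Unit)) → Fin (r + 1) :=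
    Sum.elim Subtype.val (Sum.elim σ fun _ => i)
  have he : Function.Bijective e := by
    refine ⟨?_, fun j => ?_⟩
    · rintro (⟨a, ha⟩ | a | a) (⟨c, hc⟩ | c | c) h <;> simp only [e, Sum.elim_inl, Sum.elim_inr] at h
      · subst h; rfl
      · exact absurd ⟨c, h.symm⟩ ha.1
      · exact absurd h ha.2
      · exact absurd ⟨a, h⟩ hc.1
      · rw [hinj h]
      · exact absurd h (hne a)
      · exact absurd h.symm hc.2
      · exact absurd h.symm (hne c)
      · rfl
    · by_cases h : j ∈ Set.range σ
      · obtain ⟨t, rfl⟩ := h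
        exact ⟨Sum.inr (Sum.inl t), rfl⟩
      · by_cases hji : j = i
        · exact ⟨Sum.inr (Sum.inr ()), hji.symm⟩
        · exact ⟨Sum.inl ⟨j, h, hji⟩, rfl⟩
  have h := Nat.card_eq_of_bijective e he
  rw [Nat.card_sum, Nat.card_sum, Nat.card_fin, Nat.card_fin, Nat.card_unique (α := Unit)] at h
  change Nat.card (Free σ i) + (n + 1) = r + 1 at h
  rw [← Nat.card_eq_fintype_card, Nat.card_congr Equiv.ulift, Finite.card_option]
  omega

include hb hxi in
theorem trdeg_le [IsDomain S] (htr : Algebra.trdeg k S ≤ n) :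
    Algebra.trdeg k (MvPolynomial (Par.{u} σ i) S) ≤ Fintype.card (ULift.{u} (Fin (r + 1))) := by
  haveI : FaithfulSMul k S := (faithfulSMul_iff_algebraMap_injective _ _).2 (RingHom.injective _)
  refine (trdeg_add_eq k S (A := MvPolynomial (Par.{u} σ i) S)).symm.trans_le ?_
  rw [MvPolynomial.trdeg_of_isDomain, Cardinal.lift_id,
    Cardinal.mk_fintype, Fintype.card_ulift (α := Fin (r + 1)), Fintype.card_fin]
  refine (add_le_add htr le_rfl).trans ?_
  exact_mod_cast (card_par b σ i x hb hxi).le

include hb hxi in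
/-- A nonzero function does not vanish at the singular points of a general member. -/
theorem exists_poly_avoid [IsDomain S] (htr : Algebra.trdeg k S ≤ n) {c : S} (hc : c ≠ 0) :
    ∃ q : MvPolynomial (ULift.{u} (Fin (r + 1))) k, q ≠ 0 ∧ ∀ (χ : S →ₐ[k] k) (H : Fin (r + 1) → k) (v : k),
      ∑ j, H j * χ (x j) = 0 → (∀ t, ∑ j, H j * χ (pd b (x j) t) = 0) →
      eval (fun j => H j.down + v * γ j.down) q ≠ 0 → χ c ≠ 0 := by
  obtain ⟨q, hq, hq'⟩ := exists_poly_ne_zero (trdeg_le b σ i x hb hxi htr) (mem b σ i x γ) (c := C c)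
    (fun h => hc (MvPolynomial.C_injective _ _ (h.trans (map_zero C).symm)))
  refine ⟨q, hq, fun χ H v h0 h1 hev => ?_⟩
  obtain ⟨ψ, hψC, -, -, hψ⟩ := exists_lift b σ i x hb hxi γ χ H v h0 h1
  rw [← hψC]
  exact hq' ψ (by simpa [hψ] using hev)

/-- The derivations along the coordinates and the variables. -/
noncomputable def der (s : ULift.{u} (Fin n) ⊕ Par.{u} σ i) :
    Derivation k (MvPolynomial (Par.{u} σ i) S) (MvPolynomial (Par.{u} σ i) S) :=
  open Classical in
  s.elim (fun t => coeffDeriv (pdD b t.down) 0) fun p => coeffDeriv 0 (Pi.single p 1)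

/-- The coordinates and the variables. -/
noncomputable def crd (s : ULift.{u} (Fin n) ⊕ Par.{u} σ i) : MvPolynomial (Par.{u} σ i) S :=
  s.elim (fun t => C (x (σ t.down))) X

theorem der_inl_C (t : Fin n) (y : S) : der b σ i (Sum.inl (ULift.up t)) (C y) = C (pd b y t) := by
  rw [der, Sum.elim_inl, coeffDeriv_C]; rfl

theorem der_inl_X (t : ULift.{u} (Fin n)) (p : Par.{u} σ i) : der b σ i (Sum.inl t) (X p) = 0 := by
  rw [der, Sum.elim_inl, coeffDeriv_X]; rfl

theorem der_inr_C (p : Par.{u} σ i) (y : S) : der b σ i (Sum.inr p) (C y) = 0 := by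
  rw [der, Sum.elim_inr, coeffDeriv_C, Derivation.zero_apply, map_zero]

include hb in
theorem der_crd [DecidableEq (ULift.{u} (Fin n) ⊕ Par.{u} σ i)] (s t : ULift.{u} (Fin n) ⊕ Par.{u} σ i) :
    der b σ i s (crd σ i x t) = if s = t then 1 else 0 := by
  classical
  rcases s with s | s <;> rcases t with t | t
  · obtain ⟨s⟩ := s
    obtain ⟨t⟩ := t
    rw [crd, Sum.elim_inl, der_inl_C, pd_coord b σ x hb]
    by_cases h : s = t
    · subst h; simp
    · simp [h, Ne.symm h]
  · rw [crd, Sum.elim_inr, der_inl_X, if_neg Sum.inl_ne_inr]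
  · rw [crd, Sum.elim_inl, der_inr_C, if_neg Sum.inr_ne_inl]
  · rw [crd, Sum.elim_inr, der, Sum.elim_inr, coeffDeriv_X, Pi.single_apply]
    by_cases h : s = t
    · subst h; simp
    · simp [h, Ne.symm h]

include hb hxi in
theorem der_univ_value [Nontrivial S] (s : ULift.{u} (Fin n) ⊕ Par.{u} σ i) :
    ∑ j, der b σ i s (univ b σ i x j) * C (x j) = 0 := by
  have h := congrArg (der b σ i s) (univ_value b σ i x hb hxi)
  simp only [map_sum, map_zero, Derivation.leibniz, smul_eq_mul, Finset.sum_add_distrib] at h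
  have h2 : ∑ j, univ b σ i x j * der b σ i s (C (x j)) = 0 := by
    cases s with
    | inl t =>
      obtain ⟨t⟩ := t
      simp only [der_inl_C]
      exact univ_deriv b σ i x hb hxi t
    | inr p => simp only [der_inr_C, mul_zero, Finset.sum_const_zero]
  rw [h2, zero_add] at h
  rw [← h]
  exact Finset.sum_congr rfl fun j _ => mul_comm _ _

theorem der_const (s : ULift.{u} (Fin n) ⊕ Par.{u} σ i) (c : k) : der b σ i s (C (algebraMap k S c)) = 0 := by
  rw [show C (algebraMap k S c) = algebraMap k (MvPolynomial (Par.{u} σ i) S) c from rfl, Derivation.map_algebraMap]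

theorem der_mem (s : ULift.{u} (Fin n) ⊕ Par.{u} σ i) (j : ULift.{u} (Fin (r + 1))) :
    der b σ i s (mem b σ i x γ j) =
      der b σ i s (univ b σ i x j.down) + C (algebraMap k S (γ j.down)) * der b σ i s (par σ i) := by
  rw [mem, map_add, Derivation.leibniz, der_const, smul_zero, zero_add, smul_eq_mul]

/-- The linear form defining the direction of the pencils. -/
noncomputable def dir : MvPolynomial (Par.{u} σ i) S := ∑ j, C (algebraMap k S (γ j)) * C (x j)

include hb hxi in
theorem der_mem_value [Nontrivial S] (s : ULift.{u} (Fin n) ⊕ Par.{u} σ i) :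
    ∑ j : ULift.{u} (Fin (r + 1)), C (x j.down) * der b σ i s (mem b σ i x γ j) =
      dir σ i x γ * der b σ i s (par σ i) := by
  rw [← Equiv.ulift.symm.sum_comp]
  simp only [der_mem, mul_add, Finset.sum_add_distrib, dir, Finset.sum_mul]
  simp only [Equiv.ulift_symm_apply, ULift.down_up]
  rw [show ∑ j : Fin (r + 1), C (x j) * der b σ i s (univ b σ i x j) = 0 from
    (Finset.sum_congr rfl fun j _ => mul_comm _ _).trans (der_univ_value b σ i x hb hxi s), zero_add]
  exact Finset.sum_congr rfl fun j _ => by rw [← mul_assoc, mul_comm (C (x j))]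

include hb hxi in
theorem jacobian_ne_zero [CharZero k] [IsDomain S] (htr : Algebra.trdeg k S ≤ n)
    (hind : AlgebraicIndependent k (mem b σ i x γ)) [DecidableEq (ULift.{u} (Fin n) ⊕ Par.{u} σ i)]
    (e : (ULift.{u} (Fin n) ⊕ Par.{u} σ i) ≃ ULift.{u} (Fin (r + 1))) :
    (Matrix.of fun s t => der b σ i s (mem b σ i x γ (e t))).det ≠ 0 :=
  det_jacobian_ne_zero (trdeg_le b σ i x hb hxi htr) hind e (der b σ i) (crd σ i x) (der_crd b σ i x hb)

include hb hxi in
/-- The coordinates of the singular point are rational in the member. -/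
theorem exists_relation [CharZero k] [IsDomain S] (htr : Algebra.trdeg k S ≤ n)
    (hind : AlgebraicIndependent k (mem b σ i x γ)) :
    ∃ Q : Fin (r + 1) → Polynomial (MvPolynomial (ULift.{u} (Fin (r + 1))) k),
      evP (mem b σ i x γ) (par σ i) (Q i) ≠ 0 ∧
      ∀ j, C (x j) * evP (mem b σ i x γ) (par σ i) (Q i) = evP (mem b σ i x γ) (par σ i) (Q j) := by
  classical
  let a := mem b σ i x γ
  let g := dir σ i x γ
  obtain ⟨u, Q, hu, hQ⟩ := exists_deriv_rel (trdeg_le b σ i x hb hxi htr) hind (par σ i)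
  let ev := evP (k := k) a (par σ i)
  let e : (ULift.{u} (Fin n) ⊕ Par.{u} σ i) ≃ ULift.{u} (Fin (r + 1)) := Fintype.equivOfCardEq (by
    rw [Fintype.card_sum, Fintype.card_ulift (α := Fin n), Fintype.card_ulift (α := Fin (r + 1)), Fintype.card_fin,
      Fintype.card_fin, card_par b σ i x hb hxi])
  have hrel : ∀ j : ULift.{u} (Fin (r + 1)), ev u * C (x j.down) + g * ev (Q j) = 0 := by
    intro j
    have h0 : Matrix.mulVec (Matrix.of fun s t => der b σ i s (a (e t)))
        (fun t => ev u * C (x (e t).down) + g * ev (Q (e t))) = 0 := funext fun s => by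
      show ∑ t, der b σ i s (a (e t)) * (ev u * C (x (e t).down) + g * ev (Q (e t))) = 0
      rw [e.sum_comp fun j => der b σ i s (a j) * (ev u * C (x j.down) + g * ev (Q j))]
      have h1 : ∑ j, der b σ i s (a j) * (ev u * C (x j.down) + g * ev (Q j)) =
          ev u * ∑ j, C (x j.down) * der b σ i s (a j) + g * ∑ j, ev (Q j) * der b σ i s (a j) := by
        rw [Finset.mul_sum, Finset.mul_sum, ← Finset.sum_add_distrib]
        exact Finset.sum_congr rfl fun j _ => by ring
      rw [h1, der_mem_value b σ i x hb hxi γ s]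
      linear_combination g * hQ (der b σ i s)
    have := congrFun (Matrix.eq_zero_of_mulVec_eq_zero (jacobian_ne_zero b σ i x hb hxi γ htr hind e) h0) (e.symm j)
    simpa using this
  have hui : ev u + g * ev (Q (ULift.up i)) = 0 := by simpa [hxi] using hrel (ULift.up i)
  refine ⟨fun j => Q (ULift.up j), fun h => hu ?_, fun j => ?_⟩
  · show ev u = 0
    rw [show ev (Q (ULift.up i)) = 0 from h, mul_zero, add_zero] at hui
    exact hui
  have hg : g ≠ 0 := fun h => hu (by rw [h, zero_mul, add_zero] at hui; exact hui)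
  refine mul_left_cancel₀ hg ?_
  have := hrel (ULift.up j)
  linear_combination (C (x j) : MvPolynomial (Par.{u} σ i) S) * hui - this

include hb hxi in
theorem hessian_nondeg [IsDomain S] [DecidableEq (ULift.{u} (Fin n) ⊕ Par.{u} σ i)]
    (e : (ULift.{u} (Fin n) ⊕ Par.{u} σ i) ≃ ULift.{u} (Fin (r + 1))) (χ : S →ₐ[k] k) (H : Fin (r + 1) → k)
    (ψ : MvPolynomial (Par.{u} σ i) S →ₐ[k] k) (hψC : ∀ s, ψ (C s) = χ s) (hψu : ∀ j, ψ (univ b σ i x j) = H j)
    (hdet : ψ (Matrix.of fun s t => der b σ i s (mem b σ i x γ (e t))).det ≠ 0) (w : Fin n → k)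
    (hw : ∀ t, ∑ s, w s * ∑ j, H j * χ (pd b (pd b (x j) t) s) = 0) : w = 0 := by
  classical
  let H' : Fin (r + 1) → k := fun j => ∑ s, w s * ψ (der b σ i (Sum.inl (ULift.up s)) (univ b σ i x j))
  have hH' : H' = 0 := by
    refine sol_zero b σ i x hb hxi χ.toRingHom H' ?_ ?_ ?_
    · simp only [H', Finset.sum_mul, AlgHom.toRingHom_eq_coe, RingHom.coe_coe]
      rw [Finset.sum_comm]
      refine Finset.sum_eq_zero fun s _ => ?_
      have := congrArg ψ (der_univ_value b σ i x hb hxi (Sum.inl (ULift.up s)))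
      simp only [map_sum, map_mul, hψC, map_zero] at this
      simp only [mul_assoc, ← Finset.mul_sum, this, mul_zero]
    · intro t
      simp only [H', Finset.sum_mul, AlgHom.toRingHom_eq_coe, RingHom.coe_coe]
      rw [Finset.sum_comm, ← neg_eq_zero, ← hw t, ← Finset.sum_neg_distrib]
      refine Finset.sum_congr rfl fun s _ => ?_
      have := congrArg (fun z => ψ (der b σ i (Sum.inl (ULift.up s)) z)) (univ_deriv b σ i x hb hxi t)
      simp only [map_sum, Derivation.leibniz, smul_eq_mul, Finset.sum_add_distrib, map_add, map_mul, map_zero,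
        der_inl_C, hψC, hψu] at this
      simp only [mul_assoc, ← Finset.mul_sum]
      rw [← mul_neg]
      congr 1
      rw [neg_eq_iff_add_eq_zero, ← this, add_comm]
      congr 1
      exact Finset.sum_congr rfl fun j _ => mul_comm _ _
    · intro f
      simp only [H', univ_free, fv, der_inl_X, map_zero, mul_zero, Finset.sum_const_zero]
  have hz : Matrix.vecMul (Sum.elim (fun t => w t.down) (0 : Par.{u} σ i → k))
      ((Matrix.of fun s t => der b σ i s (mem b σ i x γ (e t))).map ψ) = 0 := funext fun t => by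
    show ∑ s, Sum.elim (fun t => w t.down) (0 : Par.{u} σ i → k) s * ψ (der b σ i s (mem b σ i x γ (e t))) = 0
    rw [Fintype.sum_sum_type]
    simp only [Sum.elim_inl, Sum.elim_inr, Pi.zero_apply, zero_mul, Finset.sum_const_zero, add_zero]
    refine Eq.trans ?_ (congrFun hH' (e t).down)
    rw [← Equiv.ulift.symm.sum_comp]
    refine Finset.sum_congr rfl fun s _ => ?_
    rw [der_mem, par, der_inl_X, mul_zero, add_zero]
    rfl
  have hd : ((Matrix.of fun s t => der b σ i s (mem b σ i x γ (e t))).map ψ).det ≠ 0 := by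
    rw [AlgHom.map_det] at hdet
    exact hdet
  funext t
  exact congrFun (Matrix.eq_zero_of_vecMul_eq_zero hd hz) (Sum.inl (ULift.up t))

include hb hxi in
/-- In characteristic zero the singular points of a general member are non-degenerate and determined by the member. -/
theorem exists_poly_main [CharZero k] [IsDomain S] (htr : Algebra.trdeg k S ≤ n) :
    ∃ (q : MvPolynomial (ULift.{u} (Fin (r + 1))) k) (P : Fin (r + 1) → k → (Fin (r + 1) → k) → k), q ≠ 0 ∧
      ∀ (χ : S →ₐ[k] k) (H : Fin (r + 1) → k) (v : k),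
      ∑ j, H j * χ (x j) = 0 → (∀ t, ∑ j, H j * χ (pd b (x j) t) = 0) →
      eval (fun j => H j.down + v * γ j.down) q ≠ 0 →
      (∀ w : Fin n → k, (∀ t, ∑ s, w s * ∑ j, H j * χ (pd b (pd b (x j) t) s) = 0) → w = 0) ∧
      ∀ j, χ (x j) = P j v (fun l => H l + v * γ l) := by
  classical
  let a := mem b σ i x γ
  have htrA := trdeg_le b σ i x hb hxi htr
  by_cases hind : AlgebraicIndependent k a
  swap
  · obtain ⟨q, hq, hq0⟩ : ∃ q : MvPolynomial (ULift.{u} (Fin (r + 1))) k, aeval a q = 0 ∧ q ≠ 0 := by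
      rw [algebraicIndependent_iff] at hind
      push Not at hind
      exact hind
    refine ⟨q, fun _ _ _ => 0, hq0, fun χ H v h0 h1 hev => absurd ?_ hev⟩
    obtain ⟨ψ, -, -, -, hψ⟩ := exists_lift b σ i x hb hxi γ χ H v h0 h1
    have := congrArg ψ hq
    rwa [comp_aeval_apply, map_zero, MvPolynomial.aeval_eq_eval, show (fun j => ψ (a j)) = fun j => H j.down + v * γ j.down
      from funext hψ] at this
  let e : (ULift.{u} (Fin n) ⊕ Par.{u} σ i) ≃ ULift.{u} (Fin (r + 1)) := Fintype.equivOfCardEq (by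
    rw [Fintype.card_sum, Fintype.card_ulift (α := Fin n), Fintype.card_ulift (α := Fin (r + 1)), Fintype.card_fin,
      Fintype.card_fin, card_par b σ i x hb hxi])
  have hdet := jacobian_ne_zero b σ i x hb hxi γ htr hind e
  obtain ⟨Q, hQi, hxj⟩ := exists_relation b σ i x hb hxi γ htr hind
  let ev := evP (k := k) a (par σ i)
  obtain ⟨q, hq, hq'⟩ := exists_poly_ne_zero htrA a (c := (Matrix.of fun s t => der b σ i s (a (e t))).det * ev (Q i))
    (mul_ne_zero hdet hQi)
  let val : Polynomial (MvPolynomial (ULift.{u} (Fin (r + 1))) k) → k → (Fin (r + 1) → k) → k := fun F v l =>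
    F.eval₂ (MvPolynomial.eval fun j => l j.down) v
  refine ⟨q, fun j v l => val (Q j) v l / val (Q i) v l, hq, fun χ H v h0 h1 hev => ?_⟩
  obtain ⟨ψ, hψC, hψv, hψu, hψ⟩ := exists_lift b σ i x hb hxi γ χ H v h0 h1
  have hne := hq' ψ (by rw [show (fun j => ψ (a j)) = fun j => H j.down + v * γ j.down from funext hψ]; exact hev)
  rw [map_mul, mul_ne_zero_iff] at hne
  have hval : ∀ F, ψ (ev F) = val F v fun l => H l + v * γ l := fun F => by
    simp only [ev, evP, Polynomial.coe_eval₂RingHom, val]
    rw [← RingHom.coe_coe, Polynomial.hom_eval₂, RingHom.coe_coe, hψv]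
    congr 1
    refine MvPolynomial.ringHom_ext (fun c => by simp [hψC]) fun j => ?_
    simp [hψ, a]
  refine ⟨fun w hw => hessian_nondeg b σ i x hb hxi γ e χ H ψ hψC hψu hne.1 w hw, fun j => ?_⟩
  · have := congrArg ψ (hxj j)
    rw [map_mul, hψC, hval, hval] at this
    rw [eq_div_iff (by rw [← hval]; exact hne.2)]
    exact this

end Crit

end Groth.Agent.LefPencil
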