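import Groth.Agent.LefDual.Elim
import Mathlib.RingTheory.Polynomial.Basic
import Mathlib.Algebra.Polynomial.Roots

/-!
# Projections of closed cones
-/

set_option autoImplicit false

universe u

namespace Groth.Agent.LefPencil

open MvPolynomial

variable {k : Type u} [Field k]

/-- Evaluation of a polynomial with polynomial coefficients. -/
noncomputable def ev {σ ι : Type*} (v : σ → k) (a : ι → k) : MvPolynomial σ (MvPolynomial ι k) →+* k :=
  (eval v).comp (MvPolynomial.map (eval a))

theorem homogeneousComponent_vanish [Infinite k] {σ ι : Type*} (P : MvPolynomial σ (MvPolynomial ι k)) (v : σ → k)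
    (a : ι → k) (h : ∀ c : k, c ≠ 0 → ev (c • v) a P = 0) (e : ℕ) : ev v a (homogeneousComponent e P) = 0 := by
  classical
  let φ : Polynomial k := ∑ i ∈ Finset.range (P.totalDegree + 1), Polynomial.C (ev v a (homogeneousComponent i P)) * Polynomial.X ^ i
  have hφ : ∀ c : k, c ≠ 0 → φ.IsRoot c := fun c hc => by
    have h1 := h c hc
    conv_lhs at h1 => rw [← sum_homogeneousComponent P, map_sum]
    rw [Polynomial.IsRoot.def, Polynomial.eval_finsetSum, ← h1]
    refine Finset.sum_congr rfl fun i _ => ?_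
    rw [Polynomial.eval_mul, Polynomial.eval_C, Polynomial.eval_pow, Polynomial.eval_X, mul_comm]
    have hhom := (homogeneousComponent_isHomogeneous i P).map (eval a)
    simp only [ev, RingHom.comp_apply]
    conv_rhs => rw [eval_eq]
    conv_lhs => rw [eval_eq, Finset.mul_sum]
    refine Finset.sum_congr rfl fun s hs => ?_
    rw [show c ^ i = c ^ (∑ j ∈ s.support, s j) by rw [hhom.degree_eq_sum_deg_support hs]]
    simp only [Pi.smul_apply, smul_eq_mul, mul_pow, Finset.prod_mul_distrib, Finset.prod_pow_eq_pow_sum]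
    ring
  have hφ0 : φ = 0 := Polynomial.eq_zero_of_infinite_isRoot φ
    (((Set.finite_singleton (0 : k)).infinite_compl).mono fun c hc => hφ c hc)
  by_cases he : e ∈ Finset.range (P.totalDegree + 1)
  · have h2 := congrArg (fun q => Polynomial.coeff q e) hφ0
    simp only [φ, Polynomial.finsetSum_coeff, Polynomial.coeff_C_mul, Polynomial.coeff_X_pow, Polynomial.coeff_zero] at h2
    simpa [Finset.mem_range.1 he] using h2
  · rw [homogeneousComponent_eq_zero _ _ (by simp at he; omega), map_zero]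

/-- The image of a closed cone under the projection away from projective space is closed. -/
theorem exists_poly_proj [IsAlgClosed k] {n : ℕ} {ι : Type*} [Finite ι] (Z : (Fin (n + 1) → k) → (ι → k) → Prop)
    (hclosed : ∀ v a, ¬ Z v a → ∃ P : MvPolynomial (Fin (n + 1)) (MvPolynomial ι k), ev v a P ≠ 0 ∧
      ∀ v' a', Z v' a' → ev v' a' P = 0)
    (hscale : ∀ v a (c : k), c ≠ 0 → Z v a → Z (c • v) a) (a₀ : ι → k) (h₀ : ∀ v, v ≠ 0 → ¬ Z v a₀) :
    ∃ q : MvPolynomial ι k, eval a₀ q ≠ 0 ∧ ∀ a, eval a q ≠ 0 → ∀ v, v ≠ 0 → ¬ Z v a := by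
  classical
  let S : Set (MvPolynomial (Fin (n + 1)) (MvPolynomial ι k)) :=
    {P | (∃ e, 0 < e ∧ P.IsHomogeneous e) ∧ ∀ v a, Z v a → ev v a P = 0}
  obtain ⟨s, hsS, hs⟩ := (Submodule.fg_span_iff_fg_span_finset_subset S).1
    (IsNoetherian.noetherian (Ideal.span S))
  have hsep : ∀ v, v ≠ 0 → ∃ P ∈ S, ev v a₀ P ≠ 0 := fun v hv => by
    obtain ⟨P, hP, hPZ⟩ := hclosed v a₀ (h₀ v hv)
    obtain ⟨e, he⟩ : ∃ e, ev v a₀ (homogeneousComponent e P) ≠ 0 := by
      by_contra! hcon
      refine hP ?_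
      rw [← sum_homogeneousComponent P, map_sum, Finset.sum_eq_zero fun i _ => hcon i]
    have hvan : ∀ v' a', Z v' a' → ev v' a' (homogeneousComponent e P) = 0 := fun v' a' hZ =>
      homogeneousComponent_vanish P v' a' (fun c hc => hPZ _ _ (hscale _ _ c hc hZ)) e
    obtain ⟨i, hi⟩ := Function.ne_iff.1 hv
    refine ⟨homogeneousComponent e P * X i, ⟨⟨e + 1, by omega, (homogeneousComponent_isHomogeneous e P).mul
      (isHomogeneous_X _ i)⟩, fun v' a' hZ => by rw [map_mul, hvan v' a' hZ, zero_mul]⟩, ?_⟩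
    rw [map_mul]
    exact mul_ne_zero he (by simpa [ev] using hi)
  have hspan : ∀ v (a : ι → k), (∀ t : ↥s, ev v a t.1 = 0) → ∀ P ∈ S, ev v a P = 0 := fun v a h P hP => by
    have h1 : Ideal.span (s : Set (MvPolynomial (Fin (n + 1)) (MvPolynomial ι k))) ≤ RingHom.ker (ev v a) :=
      Ideal.span_le.2 fun Q hQ => h ⟨Q, hQ⟩
    exact h1 ((show Ideal.span S = Ideal.span (s : Set (MvPolynomial (Fin (n + 1)) (MvPolynomial ι k))) from hs).le (Ideal.subset_span hP))
  choose e he hF using fun t : ↥s => (hsS t.2).1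
  obtain ⟨q, hq, hq'⟩ := LefDual.exists_poly_no_zero (fun t : ↥s => t.1) e hF a₀ fun v hv => by
    by_contra hv0
    obtain ⟨P, hP, hP'⟩ := hsep v hv0
    exact hP' (hspan v a₀ hv P hP)
  refine ⟨q, hq, fun a ha v hv hZ => hv (hq' a ha v fun t => ?_)⟩
  exact (hsS t.2).2 v a hZ

end Groth.Agent.LefPencil
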