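import Groth.Agent.LefDual.Main
import Groth.Agent.LefPencil.Proj

/-!
# Equations for the singular points of hypersurface sections
-/

set_option autoImplicit false

universe u

open CategoryTheory CategoryTheory.Limits AlgebraicGeometry TopologicalSpace Opposite HomogeneousLocalization

namespace Groth.Agent.LefPencil

attribute [local instance] LefDual.pieceAlg

open scoped Classical

variable {k : Type u} [Field k] [IsAlgClosed k] {r : ℕ} {X : Scheme.{u}} (ι : X ⟶ CohB1.ProjSpace r k)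

/-- Homogeneous equations for the singular points of the sections. -/
theorem exists_bad_equations [IsClosedImmersion ι] [Smooth (ι ≫ CohB1.ProjSpace.toSpec r k)] (d : ℕ) :
    ∃ (κ : Type u) (_ : Fintype κ) (F : κ → MvPolynomial (Fin (r + 1)) (MvPolynomial (ForSys.Mon r d) k)) (e : κ → ℕ),
      (∀ x, (F x).IsHomogeneous (e x)) ∧
      (∀ (G : LefPen.Form r k d) (i : Fin (r + 1)) (χ : Γ(X, BertiniHyp.piece ι i) →ₐ[k] k),
        LefDual.pform ι i G ∈ RingHom.ker χ ^ 2 → ∀ x, MvPolynomial.eval (fun m => χ (LefDual.pcoord ι i m))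
          (MvPolynomial.map (MvPolynomial.eval (ForSys.formEquiv k r d G)) (F x)) = 0) ∧
      ∀ (G : LefPen.Form r k d) (v : Fin (r + 1) → k),
        (∀ x, MvPolynomial.eval v (MvPolynomial.map (MvPolynomial.eval (ForSys.formEquiv k r d G)) (F x)) = 0) →
        ∀ j, v j ≠ 0 → ∃ χ : Γ(X, BertiniHyp.piece ι j) →ₐ[k] k,
          (∀ m, χ (LefDual.pcoord ι j m) = v m / v j) ∧ LefDual.pform ι j G ∈ RingHom.ker χ ^ 2 := by
  classical
  haveI := fun j => LefDual.piece_smooth ι j
  haveI := fun j => LefDual.finiteType_piece ι j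
  haveI := LefDual.jacobsonSpace_of_immersion ι
  choose M E hE using fun j => LefDual.exists_equations (k := k) (LefDual.pbasis ι d j)
  choose b hb using fun j (t : Fin (M j)) (s : ForSys.Mon r d) => LefDual.aeval_pcoord_surjective ι j (E j t s)
  have hker : ∀ j, ∃ S : Finset (MvPolynomial (Fin (r + 1)) k),
      Ideal.span (S : Set _) = RingHom.ker (MvPolynomial.aeval (R := k) (LefDual.pcoord ι j)) := fun j =>
    IsNoetherian.noetherian (RingHom.ker (MvPolynomial.aeval (R := k) (LefDual.pcoord ι j)))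
  choose S hS using hker
  let κ := Σ j : Fin (r + 1), (↥(S j) ⊕ Fin (M j))
  let p : κ → MvPolynomial (Fin (r + 1)) (MvPolynomial (ForSys.Mon r d) k) := fun
    | ⟨j, Sum.inl g⟩ => MvPolynomial.map MvPolynomial.C g.1
    | ⟨j, Sum.inr t⟩ => ∑ s, MvPolynomial.C (MvPolynomial.X s) * MvPolynomial.map MvPolynomial.C (b j t s)
  have hcomp : ∀ a : ForSys.Mon r d → k, (MvPolynomial.eval a).comp MvPolynomial.C = RingHom.id k := fun a => by
    ext; simp
  have hinl : ∀ (a : ForSys.Mon r d → k) (w : Fin (r + 1) → k) j (g : ↥(S j)),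
      MvPolynomial.eval₂ (MvPolynomial.eval a) w (p ⟨j, Sum.inl g⟩) = MvPolynomial.aeval w g.1 := fun a w j g => by
    show MvPolynomial.eval₂ _ w (MvPolynomial.map MvPolynomial.C g.1) = _
    rw [MvPolynomial.eval₂_map, hcomp]; rfl
  have hinr : ∀ (a : ForSys.Mon r d → k) (w : Fin (r + 1) → k) j (t : Fin (M j)),
      MvPolynomial.eval₂ (MvPolynomial.eval a) w (p ⟨j, Sum.inr t⟩) = ∑ s, a s * MvPolynomial.aeval w (b j t s) := fun a w j t => by
    show MvPolynomial.eval₂ _ w (∑ s, _) = _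
    rw [MvPolynomial.eval₂_sum]
    refine Finset.sum_congr rfl fun s _ => ?_
    rw [MvPolynomial.eval₂_mul, MvPolynomial.eval₂_C, MvPolynomial.eval₂_map, hcomp, MvPolynomial.eval_X]; rfl
  have hχ : ∀ j (P : Ideal Γ(X, BertiniHyp.piece ι j)), P.IsMaximal → ∀ (χ : Γ(X, BertiniHyp.piece ι j) →ₐ[k] k),
      (∀ x, x ∈ P ↔ χ x = 0) → ∀ G : LefPen.Form r k d, LefDual.pform ι j G ∈ P ^ 2 →
      ∀ x : ↥(S j) ⊕ Fin (M j), MvPolynomial.eval₂ (MvPolynomial.eval (ForSys.formEquiv k r d G))
        (fun i => χ (LefDual.pcoord ι j i)) (p ⟨j, x⟩) = 0 := by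
    intro j P hP χ hχ G hG x
    have hev : ∀ q : MvPolynomial (Fin (r + 1)) k, MvPolynomial.aeval (fun i => χ (LefDual.pcoord ι j i)) q =
        χ (MvPolynomial.aeval (R := k) (LefDual.pcoord ι j) q) := fun q => (MvPolynomial.comp_aeval_apply _ χ q).symm
    rcases x with g | t
    · rw [hinl, hev, (RingHom.mem_ker (f := MvPolynomial.aeval (R := k) (LefDual.pcoord ι j))).1 ((hS j).le (Ideal.subset_span g.2)), map_zero]
    · rw [hinr]
      have h1 := (hχ _).1 ((hE j _ P hP).1 (by rwa [LefDual.member_pbasis]) t)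
      simpa [map_sum, hev, hb] using h1
  have hzero : ∀ (G : LefPen.Form r k d) (i : Fin (r + 1)) (χ : Γ(X, BertiniHyp.piece ι i) →ₐ[k] k),
      LefDual.pform ι i G ∈ RingHom.ker χ ^ 2 → ∀ x : κ, MvPolynomial.eval (fun m => χ (LefDual.pcoord ι i m))
        (MvPolynomial.map (MvPolynomial.eval (ForSys.formEquiv k r d G)) (LefDual.homMul x.1 (p x))) = 0 := by
    rintro G i χ hbad ⟨j, x⟩
    haveI hP : (RingHom.ker χ).IsMaximal :=
      RingHom.ker_isMaximal_of_surjective χ fun c => ⟨algebraMap k _ c, χ.commutes c⟩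
    let P := RingHom.ker χ
    have hχP : ∀ b, b ∈ P ↔ χ b = 0 := fun b => RingHom.mem_ker
    rw [LefDual.eval_homMul]
    split_ifs with hj
    · rfl
    refine mul_eq_zero_of_right _ ?_
    obtain ⟨Q, hQ, htr⟩ := LefDual.transfer ι i j P (fun h => hj ((hχP _).1 h))
    obtain ⟨χ', hχ'⟩ := LefDual.exists_point (k := k) Q
    have hcoord : (fun m => χ (LefDual.pcoord ι i m) / χ (LefDual.pcoord ι i j)) = fun m => χ' (LefDual.pcoord ι j m) := by
      funext m
      let c : k := χ (LefDual.pcoord ι i m) / χ (LefDual.pcoord ι i j)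
      let F : LefPen.Form r k 1 := (⟨MvPolynomial.X m, ProjPoint.X_mem m⟩ : LefPen.Form r k 1) -
        c • (⟨MvPolynomial.X j, ProjPoint.X_mem j⟩ : LefPen.Form r k 1)
      have hF : ∀ l, LefDual.pform ι l F = LefDual.pcoord ι l m - algebraMap k _ c * LefDual.pcoord ι l j := fun l => by
        rw [LefDual.pform_eq_aeval]
        simp [F, Algebra.smul_def]
      have h1 := (htr 1 F).1 (by rw [hF, hχP]; simp [c, hj])
      rw [hF, hχ', LefDual.pcoord_self, mul_one, map_sub, AlgHom.commutes, sub_eq_zero] at h1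
      simpa [c] using h1.symm
    show MvPolynomial.eval₂ _ (fun m => χ (LefDual.pcoord ι i m) / χ (LefDual.pcoord ι i j)) _ = 0
    rw [hcoord]
    exact hχ j Q hQ χ' hχ' G ((htr d G).2 hbad) x
  have hbadv : ∀ (G : LefPen.Form r k d) (v : Fin (r + 1) → k), (∀ x : κ,
      MvPolynomial.eval v (MvPolynomial.map (MvPolynomial.eval (ForSys.formEquiv k r d G)) (LefDual.homMul x.1 (p x))) = 0) →
      ∀ j, v j ≠ 0 → ∃ χ : Γ(X, BertiniHyp.piece ι j) →ₐ[k] k,
        (∀ m, χ (LefDual.pcoord ι j m) = v m / v j) ∧ LefDual.pform ι j G ∈ RingHom.ker χ ^ 2 := by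
    intro G v hall j hj'
    let w : Fin (r + 1) → k := fun i => v i / v j
    have hw : ∀ x : ↥(S j) ⊕ Fin (M j),
        MvPolynomial.eval₂ (MvPolynomial.eval (ForSys.formEquiv k r d G)) w (p ⟨j, x⟩) = 0 := fun x => by
      have h1 := hall ⟨j, x⟩
      rw [LefDual.eval_homMul, if_neg hj'] at h1
      exact (mul_eq_zero.1 h1).resolve_left (pow_ne_zero _ hj')
    have hkw : RingHom.ker (MvPolynomial.aeval (R := k) (LefDual.pcoord ι j)) ≤ RingHom.ker (MvPolynomial.aeval (R := k) w) := by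
      rw [← hS j, Ideal.span_le]
      intro g hg
      show MvPolynomial.aeval w g = 0
      exact (hinl (ForSys.formEquiv k r d G) w j ⟨g, hg⟩).symm.trans (hw (Sum.inl ⟨g, hg⟩))
    obtain ⟨χ, hχw⟩ := LefDual.exists_hom_of_ker (LefDual.pcoord ι j) (LefDual.aeval_pcoord_surjective ι j) w hkw
    have hP : (RingHom.ker χ).IsMaximal := RingHom.ker_isMaximal_of_surjective χ fun c => ⟨algebraMap k _ c, χ.commutes c⟩
    refine ⟨χ, fun m => ?_, ?_⟩
    · have := hχw (MvPolynomial.X m)
      simpa [w] using this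
    rw [← LefDual.member_pbasis, hE j _ _ hP]
    intro t
    rw [RingHom.mem_ker, map_sum]
    rw [← (hinr (ForSys.formEquiv k r d G) w j t).symm.trans (hw (Sum.inr t))]
    refine Finset.sum_congr rfl fun s _ => ?_
    rw [map_mul, AlgHom.commutes, ← hb j t s, hχw, Algebra.algebraMap_self_apply]
  exact ⟨κ, inferInstance, fun x => LefDual.homMul x.1 (p x), fun x => (p x).totalDegree + 1,
    fun x => LefDual.isHomogeneous_homMul _ _, hzero, hbadv⟩

end Groth.Agent.LefPencil
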