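import Mathlib

/-!
# Algebraically independent functions and their Jacobian in characteristic zero
-/

set_option autoImplicit false

universe u

namespace Groth.Agent.LefPencil

open MvPolynomial

variable {k : Type u} [Field k] {A : Type u} [CommRing A] [Algebra k A] {ι : Type u} [Fintype ι]

theorem deriv_aeval (a : ι → A) (D : Derivation k A A) (p : MvPolynomial ι k) :
    D (aeval a p) = ∑ j, aeval a (pderiv j p) * D (a j) := by
  classical
  induction p using MvPolynomial.induction_on with
  | C c => simp
  | add p q hp hq => simp [hp, hq, add_mul, Finset.sum_add_distrib]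
  | mul_X p i hp =>
    have h1 : ∀ j, aeval a (pderiv j (p * X i)) * D (a j) =
        a i * (aeval a (pderiv j p) * D (a j)) + if j = i then aeval a p * D (a i) else 0 := fun j => by
      rw [pderiv_mul, pderiv_X, map_add, map_mul, map_mul, aeval_X, add_mul]
      congr 1
      · ring
      · by_cases h : j = i
        · subst h; simp
        · simp [h, Ne.symm h]
    rw [Finset.sum_congr rfl fun j _ => h1 j, Finset.sum_add_distrib, ← Finset.mul_sum, ← hp, map_mul, aeval_X,
      Derivation.leibniz, smul_eq_mul, smul_eq_mul, Finset.sum_ite_eq' Finset.univ i, if_pos (Finset.mem_univ _), add_comm]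

/-- Evaluation at an element and a family. -/
noncomputable def evP (a : ι → A) (y : A) : Polynomial (MvPolynomial ι k) →+* A :=
  Polynomial.eval₂RingHom (aeval a).toRingHom y

theorem deriv_evP (a : ι → A) (y : A) (P : Polynomial (MvPolynomial ι k)) :
    ∃ Q : ι → Polynomial (MvPolynomial ι k), ∀ D : Derivation k A A,
      D (evP a y P) = evP a y P.derivative * D y + ∑ j, evP a y (Q j) * D (a j) := by
  induction P using Polynomial.induction_on' with
  | add P R hP hR =>
    obtain ⟨Q, hQ⟩ := hP
    obtain ⟨Q', hQ'⟩ := hR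
    refine ⟨fun j => Q j + Q' j, fun D => ?_⟩
    simp only [map_add, hQ D, hQ' D, add_mul, Finset.sum_add_distrib]
    ring
  | monomial n c =>
    refine ⟨fun j => Polynomial.monomial n (pderiv j c), fun D => ?_⟩
    simp only [evP, Polynomial.coe_eval₂RingHom, Polynomial.eval₂_monomial, Polynomial.derivative_monomial,
      Derivation.leibniz, Derivation.leibniz_pow, smul_eq_mul, AlgHom.toRingHom_eq_coe, RingHom.coe_coe, deriv_aeval,
      map_mul, map_natCast, nsmul_eq_mul, Finset.mul_sum]
    congr 1
    · ring
    · exact Finset.sum_congr rfl fun j _ => by ring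

variable [IsDomain A] {a : ι → A}

/-- A nonzero element forces a nonzero condition on the values of the family. -/
theorem exists_poly_ne_zero (htr : Algebra.trdeg k A ≤ Fintype.card ι) (a : ι → A) {c : A} (hc : c ≠ 0) :
    ∃ q : MvPolynomial ι k, q ≠ 0 ∧ ∀ χ : A →ₐ[k] k, eval (fun j => χ (a j)) q ≠ 0 → χ c ≠ 0 := by
  by_cases hind : AlgebraicIndependent k a
  · have htb := hind.isTranscendenceBasis_of_trdeg_le_of_finite (by rwa [Cardinal.mk_fintype])
    haveI := htb.isAlgebraic
    obtain ⟨y, hy, d, hd⟩ := (Algebra.IsAlgebraic.isAlgebraic (R := Algebra.adjoin k (Set.range a)) c).exists_nonzero_dvd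
      (mem_nonZeroDivisors_of_ne_zero hc)
    obtain ⟨q, hq⟩ : (y : A) ∈ (aeval (R := k) a).range := by
      rw [← Algebra.adjoin_range_eq_range_aeval]
      exact y.2
    refine ⟨q, fun h0 => hy (Subtype.ext ?_), fun χ hχ h0 => hχ ?_⟩
    · rw [← hq, h0]
      simp
    · have h1 : χ (aeval a q) = 0 := by
        have : algebraMap (Algebra.adjoin k (Set.range a)) A y = c * d := hd
        rw [show aeval a q = c * d from hq.trans this, map_mul, h0, zero_mul]
      rwa [comp_aeval_apply, MvPolynomial.aeval_eq_eval] at h1
  · obtain ⟨q, hq, hq0⟩ : ∃ q : MvPolynomial ι k, aeval a q = 0 ∧ q ≠ 0 := by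
      rw [algebraicIndependent_iff] at hind
      push Not at hind
      exact hind
    refine ⟨q, hq0, fun χ hχ _ => hχ ?_⟩
    have := congrArg χ hq
    rwa [comp_aeval_apply, map_zero, MvPolynomial.aeval_eq_eval] at this

/-- An element algebraic over the independent family satisfies a separable relation. -/
theorem exists_deriv_rel [CharZero k] (htr : Algebra.trdeg k A ≤ Fintype.card ι) (hind : AlgebraicIndependent k a) (y : A) :
    ∃ (u : Polynomial (MvPolynomial ι k)) (Q : ι → Polynomial (MvPolynomial ι k)), evP a y u ≠ 0 ∧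
      ∀ D : Derivation k A A, evP a y u * D y + ∑ j, evP a y (Q j) * D (a j) = 0 := by
  classical
  have htb := hind.isTranscendenceBasis_of_trdeg_le_of_finite (by rwa [Cardinal.mk_fintype])
  haveI := htb.isAlgebraic
  let φ : MvPolynomial ι k →+* A := (aeval a).toRingHom
  have hφ : Function.Injective φ := hind
  have hex : ∃ P : Polynomial (MvPolynomial ι k), P ≠ 0 ∧ evP a y P = 0 := by
    obtain ⟨p, hp, hp'⟩ := Algebra.IsAlgebraic.isAlgebraic (R := Algebra.adjoin k (Set.range a)) y
    let e := hind.aevalEquiv
    refine ⟨p.map e.symm.toRingHom, (Polynomial.map_ne_zero_iff e.symm.injective).2 hp, ?_⟩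
    rw [evP, Polynomial.coe_eval₂RingHom, Polynomial.eval₂_map,
      show ((aeval a).toRingHom.comp e.symm.toRingHom : _ →+* A) = algebraMap (Algebra.adjoin k (Set.range a)) A from
        RingHom.ext fun z => by
          have := hind.algebraMap_aevalEquiv (e.symm z)
          rw [AlgEquiv.apply_symm_apply] at this
          exact this.symm]
    exact hp'
  have hexn : ∃ n, ∃ P : Polynomial (MvPolynomial ι k), P ≠ 0 ∧ evP a y P = 0 ∧ P.natDegree = n :=
    let ⟨P, h1, h2⟩ := hex; ⟨_, P, h1, h2, rfl⟩
  obtain ⟨P, hP0, hP, hPn⟩ := Nat.find_spec hexn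
  have hdeg : P.natDegree ≠ 0 := fun h0 => by
    rw [Polynomial.eq_C_of_natDegree_eq_zero h0] at hP hP0
    rw [evP, Polynomial.coe_eval₂RingHom, Polynomial.eval₂_C, ← map_zero φ] at hP
    exact hP0 (by rw [hφ hP, map_zero])
  obtain ⟨Q, hQ⟩ := deriv_evP a y P
  refine ⟨P.derivative, Q, fun h0 => ?_, fun D => ?_⟩
  · exact Nat.find_min hexn (m := P.derivative.natDegree) (hPn ▸ Polynomial.natDegree_derivative_lt hdeg)
      ⟨_, Polynomial.derivative_ne_zero.2 hdeg, h0, rfl⟩
  · rw [← hQ D, hP, map_zero]

/-- The Jacobian of an independent family does not vanish. -/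
theorem det_jacobian_ne_zero [CharZero k] (htr : Algebra.trdeg k A ≤ Fintype.card ι) (hind : AlgebraicIndependent k a)
    {κ : Type u} [Fintype κ] [DecidableEq κ] (e : κ ≃ ι) (D : κ → Derivation k A A) (y : κ → A)
    (hy : ∀ s t, D s (y t) = if s = t then 1 else 0) :
    (Matrix.of fun s t => D s (a (e t))).det ≠ 0 := by
  choose u Q hu hQ using fun t => exists_deriv_rel htr hind (y t)
  have heq : (Matrix.of fun s t => D s (a (e t))) * (Matrix.of fun t t' => evP a (y t') (Q t' (e t))) =
      Matrix.diagonal fun t => - evP a (y t) (u t) := by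
    refine Matrix.ext fun s t => ?_
    have h := hQ t (D s)
    rw [hy, ← e.sum_comp] at h
    rw [Matrix.mul_apply, Matrix.diagonal_apply]
    simp only [Matrix.of_apply]
    rw [Finset.sum_congr rfl fun x _ => mul_comm (D s (a (e x))) (evP a (y t) (Q t (e x)))]
    split_ifs with hst
    · subst hst
      rw [if_pos rfl, mul_one] at h
      exact eq_neg_of_add_eq_zero_right h
    · simpa [hst] using h
  intro h0
  have := congrArg Matrix.det heq
  rw [Matrix.det_mul, h0, zero_mul, Matrix.det_diagonal, eq_comm, Finset.prod_eq_zero_iff] at this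
  obtain ⟨t, -, ht⟩ := this
  exact hu t (neg_eq_zero.1 ht)

section CoeffDeriv

variable {S : Type u} [CommRing S] [Algebra k S] {τ : Type u}

/-- The map `p ↦ (p, δ p)` into the square-zero extension. -/
noncomputable def dualMap (δ : Derivation k S S) (v : τ → MvPolynomial τ S) :
    MvPolynomial τ S →+* TrivSqZeroExt (MvPolynomial τ S) (MvPolynomial τ S) :=
  MvPolynomial.eval₂Hom
    { toFun := fun s => TrivSqZeroExt.inl (C s) + TrivSqZeroExt.inr (C (δ s))
      map_one' := by simp
      map_zero' := by simp
      map_add' := fun s t => by simp only [map_add, TrivSqZeroExt.inl_add, TrivSqZeroExt.inr_add]; abel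
      map_mul' := fun s t => by
        ext
        · simp
        · simp [Derivation.leibniz, mul_comm] }
    fun x => TrivSqZeroExt.inl (X x) + TrivSqZeroExt.inr (v x)

theorem dualMap_fst (δ : Derivation k S S) (v : τ → MvPolynomial τ S) (p : MvPolynomial τ S) :
    (dualMap δ v p).fst = p := by
  induction p using MvPolynomial.induction_on with
  | C s => simp [dualMap]
  | add p q hp hq => simp [hp, hq]
  | mul_X p i hp => rw [map_mul, TrivSqZeroExt.fst_mul, hp]; simp [dualMap]

theorem dualMap_C_snd (δ : Derivation k S S) (v : τ → MvPolynomial τ S) (s : S) :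
    (dualMap δ v (C s)).snd = C (δ s) := by
  simp [dualMap]

theorem dualMap_X_snd (δ : Derivation k S S) (v : τ → MvPolynomial τ S) (x : τ) :
    (dualMap δ v (X x)).snd = v x := by
  simp [dualMap]

theorem dualMap_mul_snd (δ : Derivation k S S) (v : τ → MvPolynomial τ S) (p q : MvPolynomial τ S) :
    (dualMap δ v (p * q)).snd = p * (dualMap δ v q).snd + (dualMap δ v p).snd * q := by
  rw [map_mul, TrivSqZeroExt.snd_mul, dualMap_fst, dualMap_fst, smul_eq_mul, op_smul_eq_mul]

theorem dualMap_smul_snd (δ : Derivation k S S) (v : τ → MvPolynomial τ S) (c : k) (p : MvPolynomial τ S) :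
    (dualMap δ v (c • p)).snd = c • (dualMap δ v p).snd := by
  rw [Algebra.smul_def, Algebra.smul_def, IsScalarTower.algebraMap_apply k S (MvPolynomial τ S),
    MvPolynomial.algebraMap_eq, dualMap_mul_snd, dualMap_C_snd, δ.map_algebraMap, map_zero, zero_mul, add_zero]

/-- The derivation of a polynomial ring given by a derivation of the coefficients and values on the variables. -/
noncomputable def coeffDeriv (δ : Derivation k S S) (v : τ → MvPolynomial τ S) :
    Derivation k (MvPolynomial τ S) (MvPolynomial τ S) :=
  Derivation.mk'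
    { toFun := fun p => (dualMap δ v p).snd
      map_add' := fun p q => by rw [map_add, TrivSqZeroExt.snd_add]
      map_smul' := fun c p => dualMap_smul_snd δ v c p }
    fun p q => by
      simp only [LinearMap.coe_mk, AddHom.coe_mk, dualMap_mul_snd, smul_eq_mul]
      rw [mul_comm (dualMap δ v p).snd q]

theorem coeffDeriv_C (δ : Derivation k S S) (v : τ → MvPolynomial τ S) (s : S) :
    coeffDeriv δ v (C s) = C (δ s) :=
  dualMap_C_snd δ v s

theorem coeffDeriv_X (δ : Derivation k S S) (v : τ → MvPolynomial τ S) (x : τ) :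
    coeffDeriv δ v (X x) = v x :=
  dualMap_X_snd δ v x

end CoeffDeriv

end Groth.Agent.LefPencil
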