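import Groth.Agent.LefPencil.Trunc
import Groth.Agent.LefDual.Main
import Groth.Agent.BertiniAff.Section

/-!
# Non-degenerate quadratic forms
-/

set_option autoImplicit false

universe u

open CategoryTheory CategoryTheory.Limits AlgebraicGeometry TopologicalSpace Opposite HomogeneousLocalization

namespace Groth.Agent.LefPencil

attribute [local instance] LefDual.pieceAlg

variable {k : Type u} [Field k] {m : ℕ}

local notation "ℙ" => CohB1.ProjSpace m k

/-- The points of a standard chart. -/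
theorem exists_pointHom (j : Fin (m + 1)) {C : Type u} [CommRing C] [Algebra k C] (v : Fin (m + 1) → C) (hv : v j = 1) :
    ∃ χ : Γ(ℙ, BertiniHyp.piece (𝟙 ℙ) j) →ₐ[k] C, ∀ i, χ (LefDual.pcoord (𝟙 ℙ) j i) = v i := by
  let θ := Proj.basicOpenIsoAway (CohB1.polyGrading m k) (MvPolynomial.X j) (ProjPoint.X_mem j) one_pos
  have hθ : ∀ z, θ.inv.hom (BertiniHyp.pieceMap (𝟙 ℙ) j z) = z := fun z => by
    show θ.inv.hom (((Proj.awayToSection _ _).hom z)) = z
    exact ConcreteCategory.congr_hom θ.hom_inv_id z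
  have hu : IsUnit (MvPolynomial.eval₂Hom (algebraMap k C) v (MvPolynomial.X j)) := by
    rw [MvPolynomial.eval₂Hom_X', hv]; exact isUnit_one
  let χ₀ := (ProjPoint.evalAway (algebraMap k C) v (MvPolynomial.X j) hu).comp θ.inv.hom
  refine ⟨{ χ₀ with commutes' := fun c => ?_ }, fun i => ?_⟩
  · show ProjPoint.evalAway _ v _ hu (θ.inv.hom (BertiniHyp.pieceMap (𝟙 ℙ) j (ProjPoint.chartBase j c))) = _
    rw [hθ]
    exact RingHom.congr_fun (ProjUniv.evalAway_chartBase _ v j hu) c
  · show ProjPoint.evalAway _ v _ hu (θ.inv.hom (BertiniHyp.pieceMap (𝟙 ℙ) j (ProjPoint.coord j i))) = _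
    rw [hθ]
    exact ProjUniv.evalAway_coord _ v j i hu hv

theorem piece_equiv (j : Fin (m + 1)) :
    Nonempty (MvPolynomial (Fin m) k ≃ₐ[k] Γ(ℙ, BertiniHyp.piece (𝟙 ℙ) j)) := by
  obtain ⟨χ, hχ⟩ := exists_pointHom (k := k) j (C := MvPolynomial (Fin m) k) (Fin.insertNth j 1 MvPolynomial.X)
    (Fin.insertNth_apply_same _ _ _)
  let ψ : MvPolynomial (Fin m) k →ₐ[k] Γ(ℙ, BertiniHyp.piece (𝟙 ℙ) j) :=
    MvPolynomial.aeval fun l => LefDual.pcoord (𝟙 ℙ) j (j.succAbove l)
  have h1 : χ.comp ψ = AlgHom.id k _ := MvPolynomial.algHom_ext fun l => by simp [ψ, hχ]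
  have h2 : ∀ i, ψ (χ (LefDual.pcoord (𝟙 ℙ) j i)) = LefDual.pcoord (𝟙 ℙ) j i := fun i => by
    rw [hχ]
    rcases Fin.eq_self_or_eq_succAbove j i with rfl | ⟨l, rfl⟩
    · rw [Fin.insertNth_apply_same, map_one, LefDual.pcoord_self]
    · rw [Fin.insertNth_apply_succAbove]; simp [ψ]
  refine ⟨AlgEquiv.ofAlgHom ψ χ (AlgHom.ext fun b => ?_) h1⟩
  obtain ⟨p, rfl⟩ := LefDual.aeval_pcoord_surjective (𝟙 ℙ) j b
  have : (ψ.comp χ).comp (MvPolynomial.aeval (LefDual.pcoord (𝟙 ℙ) j)) =
      MvPolynomial.aeval (LefDual.pcoord (𝟙 ℙ) j) :=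
    MvPolynomial.algHom_ext fun i => by simpa using h2 i
  exact DFunLike.congr_fun this p

theorem cross_eq {A : Type u} [CommRing A] {n : ℕ} (c : Fin n → Fin n → A) (v w : Fin n → A) :
    ∑ i, ∑ l, c i l * (v i * w l + w i * v l) = ∑ a, (∑ i, c i a * v i + ∑ l, c a l * v l) * w a := by
  simp only [mul_add, Finset.sum_add_distrib, add_mul, Finset.sum_mul]
  congr 1
  · rw [Finset.sum_comm]; exact Finset.sum_congr rfl fun a _ => Finset.sum_congr rfl fun i _ => (mul_assoc _ _ _).symm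
  · exact Finset.sum_congr rfl fun a _ => Finset.sum_congr rfl fun i _ => by ring

theorem snd_qv {n : ℕ} (c : Fin n → Fin n → k) (v x : Fin n → k) :
    TrivSqZeroExt.snd (qv (fun i l => algebraMap k (DualNumber k) (c i l))
      fun i => TrivSqZeroExt.inl (v i) + TrivSqZeroExt.inr (x i)) = ∑ i, ∑ l, c i l * (v i * x l + x i * v l) := by
  simp only [qv, TrivSqZeroExt.snd_sum]
  refine Finset.sum_congr rfl fun i _ => Finset.sum_congr rfl fun l _ => ?_
  simp [TrivSqZeroExt.algebraMap_eq_inl']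

variable [IsAlgClosed k]

/-- Smoothness of a hypersurface in projective space, piecewise. -/
theorem smooth_hyp_iff (G : LefPen.Form m k 2) :
    Smooth ((LefPen.hypIdeal G).subschemeι ≫ CohB1.ProjSpace.toSpec m k) ↔
      ∀ j, Algebra.Smooth k (Γ(ℙ, BertiniHyp.piece (𝟙 ℙ) j) ⧸ Ideal.span {LefDual.pform (𝟙 ℙ) j G}) := by
  have key : ∀ I : (ℙ).IdealSheafData, I = LefPen.hypIdeal G →
      (Smooth ((LefPen.hypIdeal G).subschemeι ≫ CohB1.ProjSpace.toSpec m k) ↔
        Smooth (I.subschemeι ≫ 𝟙 ℙ ≫ CohB1.ProjSpace.toSpec m k)) := by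
    rintro I rfl; rw [Category.id_comp]
  let I := LefPen.secIdeal (𝟙 ℙ) ({G} : Set (LefPen.Form m k 2))
  let J : ∀ j, Ideal Γ(ℙ, BertiniHyp.piece (𝟙 ℙ) j) := fun j => I.ideal (LefDual.pieceAff (𝟙 ℙ) j)
  rw [key I (by simp [I, LefPen.secIdeal])]
  have hspec : ∀ j, I.subschemeCover.f (LefDual.pieceAff (𝟙 ℙ) j) ≫ I.subschemeι ≫ 𝟙 ℙ ≫ CohB1.ProjSpace.toSpec m k =
      Spec.map (CommRingCat.ofHom (algebraMap k (Γ(ℙ, BertiniHyp.piece (𝟙 ℙ) j) ⧸ J j))) := fun j => by
    rw [← Category.assoc, show I.subschemeCover.f (LefDual.pieceAff (𝟙 ℙ) j) ≫ I.subschemeι =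
      Spec.map (CommRingCat.ofHom (Ideal.Quotient.mk (I.ideal (LefDual.pieceAff (𝟙 ℙ) j)))) ≫ (LefDual.pieceAff (𝟙 ℙ) j).2.fromSpec from
        (Scheme.IdealSheafData.subschemeCover_map_subschemeι I _).trans (I.glueDataObjι_ι _)]
    refine (Category.assoc _ _ _).trans ?_
    rw [LefDual.fromSpec_piece]
    exact (Spec.map_comp _ _).symm
  have hJ : ∀ j, J j = Ideal.span {LefDual.pform (𝟙 ℙ) j G} := fun j =>
    LefDual.secIdeal_piece (𝟙 ℙ) G j
  constructor
  · intro h j
    have h1 : Smooth (I.subschemeCover.f (LefDual.pieceAff (𝟙 ℙ) j) ≫ I.subschemeι ≫ 𝟙 ℙ ≫ CohB1.ProjSpace.toSpec m k) :=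
      inferInstance
    rw [hspec] at h1
    have h2 := (HasRingHomProperty.Spec_iff (P := @Smooth)).1 h1
    rw [hJ] at h2
    exact RingHom.smooth_algebraMap.1 h2
  · intro h
    refine IsZariskiLocalAtSource.of_iSup_eq_top (P := @Smooth)
      (fun j => (I.subschemeCover.f (LefDual.pieceAff (𝟙 ℙ) j)).opensRange) ?_ fun j => ?_
    · have h1 : ⨆ j, (LefDual.pieceAff (𝟙 ℙ) j).1 = ⊤ := LefDual.iSup_piece (𝟙 ℙ)
      simp only [Scheme.IdealSheafData.opensRange_subschemeCover_map, ← Scheme.Hom.preimage_iSup, h1, Scheme.Hom.preimage_top]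
    · rw [← MorphismProperty.cancel_left_of_respectsIso (@Smooth) (I.subschemeCover.f (LefDual.pieceAff (𝟙 ℙ) j)).isoOpensRange.hom,
        Scheme.Hom.isoOpensRange_hom_ι_assoc, hspec]
      refine (HasRingHomProperty.Spec_iff (P := @Smooth)).2 ?_
      rw [hJ]
      exact RingHom.smooth_algebraMap.2 (h j)

theorem smooth_piece_iff (j : Fin (m + 1)) (g : Γ(ℙ, BertiniHyp.piece (𝟙 ℙ) j)) (hg : g ≠ 0) :
    Algebra.Smooth k (Γ(ℙ, BertiniHyp.piece (𝟙 ℙ) j) ⧸ Ideal.span {g}) ↔
      ∀ P : Ideal Γ(ℙ, BertiniHyp.piece (𝟙 ℙ) j), P.IsMaximal → g ∉ P ^ 2 := by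
  obtain ⟨e⟩ := piece_equiv (k := k) j
  haveI : Algebra.Smooth k (MvPolynomial (Fin m) k) := ⟨inferInstance, inferInstance⟩
  haveI : Algebra.Smooth k Γ(ℙ, BertiniHyp.piece (𝟙 ℙ) j) := Algebra.Smooth.of_equiv e
  haveI : IsDomain Γ(ℙ, BertiniHyp.piece (𝟙 ℙ) j) := e.symm.toMulEquiv.isDomain (MvPolynomial (Fin m) k)
  constructor
  · intro h P hP hbad
    haveI := hP
    haveI := CotLib.isGeometricallyReduced_of_isAlgClosed (k := k) (K := P.ResidueField)
    haveI : Algebra.IsSmoothAt k P := by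
      show Algebra.FormallySmooth k (Localization.AtPrime P)
      exact Algebra.FormallySmooth.comp k Γ(ℙ, BertiniHyp.piece (𝟙 ℙ) j) _
    haveI : IsRegularLocalRing (Localization.AtPrime P) := (CotLib.isSmoothAt_iff_regular P).1 ‹_›
    refine LefDual.notMem_sq_of_regular_quotient ?_
      (BertiniHyp.regular_quotient_of_smooth (k := k) g P (Ideal.pow_le_self two_ne_zero hbad) (S := Localization.AtPrime P)) ?_
    · exact (map_ne_zero_iff _ (IsLocalization.injective (Localization.AtPrime P) P.primeCompl_le_nonZeroDivisors)).2 hg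
    · rw [← Localization.AtPrime.map_eq_maximalIdeal, ← Ideal.map_pow]
      exact Ideal.mem_map_of_mem _ hbad
  · intro h
    rcases Nat.eq_zero_or_pos m with rfl | hm
    · have hsurj : Function.Bijective (algebraMap k Γ(CohB1.ProjSpace 0 k, BertiniHyp.piece (𝟙 _) j)) := by
        rw [show algebraMap k Γ(CohB1.ProjSpace 0 k, BertiniHyp.piece (𝟙 _) j) =
          (e : MvPolynomial (Fin 0) k →+* _).comp (algebraMap k (MvPolynomial (Fin 0) k)) from
            RingHom.ext fun c => (e.commutes c).symm]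
        exact e.bijective.comp ⟨MvPolynomial.C_injective _ _, MvPolynomial.C_surjective _⟩
      obtain ⟨c, rfl⟩ := hsurj.2 g
      have hc : c ≠ 0 := fun h => hg (by rw [h, map_zero])
      haveI : Subsingleton (Γ(CohB1.ProjSpace 0 k, BertiniHyp.piece (𝟙 _) j) ⧸ Ideal.span {algebraMap k _ c}) :=
        Ideal.Quotient.subsingleton_iff.2 (Ideal.span_singleton_eq_top.2 ((isUnit_iff_ne_zero.2 hc).map _))
      exact ⟨inferInstance, inferInstance⟩
    · obtain ⟨m', rfl⟩ : ∃ m', m = m' + 1 := ⟨m - 1, by omega⟩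
      have hstd : Algebra.IsStandardSmoothOfRelativeDimension (m' + 1) k Γ(CohB1.ProjSpace (m' + 1) k, BertiniHyp.piece (𝟙 _) j) :=
        haveI := BertiniAff.isStandardSmooth_mvPolynomial (k := k) (m' + 1)
        Algebra.IsStandardSmoothOfRelativeDimension.of_algEquiv (m' + 1) e
      have hloc : RingHom.Locally (RingHom.IsStandardSmoothOfRelativeDimension (m' + 1))
          (algebraMap k Γ(CohB1.ProjSpace (m' + 1) k, BertiniHyp.piece (𝟙 _) j)) :=
        RingHom.locally_of RingHom.isStandardSmoothOfRelativeDimension_respectsIso _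
          ((RingHom.isStandardSmoothOfRelativeDimension_algebraMap _).2 hstd)
      have h1 := LefDual.locally_quotient_of_good hloc g h
      have h2 : SmoothOfRelativeDimension m' (Spec.map (CommRingCat.ofHom (algebraMap k
          (Γ(CohB1.ProjSpace (m' + 1) k, BertiniHyp.piece (𝟙 _) j) ⧸ Ideal.span {g})))) :=
        (HasRingHomProperty.Spec_iff (P := @SmoothOfRelativeDimension m')).2 h1
      have h3 : Smooth (Spec.map (CommRingCat.ofHom (algebraMap k
          (Γ(CohB1.ProjSpace (m' + 1) k, BertiniHyp.piece (𝟙 _) j) ⧸ Ideal.span {g})))) :=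
        SmoothOfRelativeDimension.smooth m' _
      exact RingHom.smooth_algebraMap.1 ((HasRingHomProperty.Spec_iff (P := @Smooth)).1 h3)

theorem pform_qf (j : Fin (m + 1)) (Q₂ : LefPen.Form m k 2) (c : Fin (m + 1) → Fin (m + 1) → k) (hQ : Q₂.1 = qf c) :
    LefDual.pform (𝟙 ℙ) j Q₂ = qv (fun i l => algebraMap k _ (c i l)) (LefDual.pcoord (𝟙 ℙ) j) := by
  rw [LefDual.pform_eq_aeval, hQ]
  simp [qf, qv]

theorem nondegQuad_iff (Q₂ : LefPen.Form m k 2) (c : Fin (m + 1) → Fin (m + 1) → k) (hQ : Q₂.1 = qf c) :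
    LefPen.NondegQuad k Q₂ ↔ NonSing c := by
  have hscale : ∀ (a : k) v, qv c (a • v) = a ^ 2 * qv c v := fun a v => by
    simp only [qv, Finset.mul_sum, Pi.smul_apply, smul_eq_mul]
    exact Finset.sum_congr rfl fun i _ => Finset.sum_congr rfl fun l _ => by ring
  have hsing_zero : ∀ v, (∀ w, qv c (v + w) = qv c w) → qv c v = 0 := fun v h => by
    simpa [qv] using h 0
  by_cases h0 : Q₂.1 = 0
  · have hq : ∀ v, qv c v = 0 := fun v => by rw [← eval_qf, ← hQ, h0, map_zero]
    refine iff_of_false (fun h => h.1 h0) fun h => ?_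
    have := congrFun (h (Pi.single 0 1) fun w => by rw [hq, hq]) 0
    simp at this
  have hne : ∀ j : Fin (m + 1), LefDual.pform (𝟙 ℙ) j Q₂ ≠ 0 := fun j hj => by
    obtain ⟨v, hv⟩ : ∃ v, MvPolynomial.eval v (Q₂.1 * MvPolynomial.X j) ≠ 0 := by
      by_contra! hcon
      exact mul_ne_zero h0 (MvPolynomial.X_ne_zero j) (MvPolynomial.funext fun v => by rw [hcon v, map_zero])
    rw [map_mul, MvPolynomial.eval_X, mul_ne_zero_iff] at hv
    obtain ⟨χ, hχ⟩ := exists_pointHom (k := k) j (C := k) (fun i => v i / v j) (div_self hv.2)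
    have h1 := congrArg χ hj
    rw [pform_qf j Q₂ c hQ, map_zero] at h1
    simp only [qv, map_sum, map_mul, AlgHom.commutes, hχ, Algebra.algebraMap_self_apply] at h1
    refine hv.1 ?_
    rw [hQ, eval_qf]
    have : v = v j • fun i => v i / v j := funext fun i => by simp [mul_div_cancel₀ _ hv.2]
    rw [this, hscale, show qv c (fun i => v i / v j) = 0 from h1, mul_zero]
  unfold LefPen.NondegQuad
  rcases Nat.eq_zero_or_pos m with rfl | hm
  · simp only [true_or, and_true]
    refine iff_of_true h0 fun v hv => ?_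
    have hc : c 0 0 ≠ 0 := fun h => h0 (by rw [hQ]; simp [qf, h])
    have := hsing_zero v hv
    simp [qv, hc] at this
    exact funext fun i => by fin_cases i; exact this
  have hm0 : ¬ m = 0 := by omega
  simp only [hm0, false_or, and_iff_right h0, ne_eq, smooth_hyp_iff]
  refine Iff.trans (forall_congr' fun j => smooth_piece_iff j _ (hne j)) ?_
  constructor
  · intro h v hv
    by_contra hv0
    obtain ⟨j, hj⟩ := Function.ne_iff.1 hv0
    obtain ⟨χ, hχ⟩ := exists_pointHom (k := k) j (C := k) (fun i => v i / v j) (div_self hj)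
    haveI hP : (RingHom.ker χ).IsMaximal := RingHom.ker_isMaximal_of_surjective χ fun a => ⟨algebraMap k _ a, χ.commutes a⟩
    refine h j _ hP ?_
    let B := Γ(ℙ, BertiniHyp.piece (𝟙 ℙ) j)
    let α : k →+* B := algebraMap k B
    let v' : Fin (m + 1) → B := fun i => α (v i / v j)
    let w : Fin (m + 1) → B := fun i => LefDual.pcoord (𝟙 ℙ) j i - v' i
    have hw : ∀ i, w i ∈ RingHom.ker χ := fun i => by simp [w, v', α, hχ]
    have hsing : ∀ x : Fin (m + 1) → k, qv c ((fun i => v i / v j) + x) = qv c x := fun x => by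
      have e : (fun i => v i / v j) + x = (v j)⁻¹ • (v + v j • x) := by
        funext i
        simp [div_eq_inv_mul, mul_add, inv_mul_cancel_left₀ (show v j ≠ 0 from hj)]
      rw [e, hscale, hv, hscale, ← mul_assoc, ← mul_pow, inv_mul_cancel₀ (show v j ≠ 0 from hj), one_pow, one_mul]
    rw [pform_qf j Q₂ c hQ, show LefDual.pcoord (𝟙 ℙ) j = v' + w by funext i; simp [w], qv_add]
    have h1 : qv (fun i l => α (c i l)) v' = 0 := by
      rw [show (0 : B) = α (qv c fun i => v i / v j) by rw [hsing_zero _ hsing, map_zero]]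
      simp [qv, v']
    have h2 : ∑ i, ∑ l, α (c i l) * (v' i * w l + w i * v' l) = 0 := by
      have hB : ∀ a, ∑ i, c i a * (v i / v j) + ∑ l, c a l * (v l / v j) = 0 := fun a => by
        have := hsing (Pi.single a 1)
        rw [qv_add, hsing_zero _ hsing, zero_add, add_eq_left] at this
        simp only [mul_add, Finset.sum_add_distrib, Pi.single_apply, mul_ite, mul_one, mul_zero, ite_mul, one_mul, zero_mul,
          Finset.sum_ite_eq', Finset.sum_ite_irrel, Finset.mem_univ, if_true, Finset.sum_const_zero] at this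
        exact this
      rw [cross_eq]
      refine Finset.sum_eq_zero fun a _ => ?_
      rw [show ∑ i, α (c i a) * v' i + ∑ l, α (c a l) * v' l = α (∑ i, c i a * (v i / v j) + ∑ l, c a l * (v l / v j)) by
        simp only [map_add, map_sum, map_mul, v'], hB, map_zero, zero_mul]
    rw [h1, h2, zero_add, add_zero]
    refine Submodule.sum_mem _ fun i _ => Submodule.sum_mem _ fun l _ => Ideal.mul_mem_left _ _ ?_
    rw [pow_two]; exact Ideal.mul_mem_mul (hw i) (hw l)
  · intro h j P hP hbad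
    haveI := LefDual.finiteType_piece (𝟙 ℙ) j
    obtain ⟨χ, hχ⟩ := LefDual.exists_point (k := k) P
    let v : Fin (m + 1) → k := fun i => χ (LefDual.pcoord (𝟙 ℙ) j i)
    have hvj : v j = 1 := by simp [v, LefDual.pcoord_self]
    have h1 : qv c v = 0 := by
      have h2 := (hχ _).1 (Ideal.pow_le_self two_ne_zero hbad)
      rw [pform_qf j Q₂ c hQ] at h2
      simpa [qv, v] using h2
    have hlin : ∀ x : Fin (m + 1) → k, x j = 0 → ∑ i, ∑ l, c i l * (v i * x l + x i * v l) = 0 := fun x hx => by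
      let u : Fin (m + 1) → DualNumber k := fun i => TrivSqZeroExt.inl (v i) + TrivSqZeroExt.inr (x i)
      have hu : u j = 1 := by
        show TrivSqZeroExt.inl (v j) + TrivSqZeroExt.inr (x j) = (1 : DualNumber k)
        rw [hvj, hx, TrivSqZeroExt.inl_one, TrivSqZeroExt.inr_zero, add_zero]
      obtain ⟨ψ, hψ⟩ := exists_pointHom (k := k) j (C := DualNumber k) u hu
      have hfst : ∀ b, TrivSqZeroExt.fst (ψ b) = χ b := fun b => by
        obtain ⟨p, rfl⟩ := LefDual.aeval_pcoord_surjective (𝟙 ℙ) j b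
        have : ((TrivSqZeroExt.fstHom k k k).comp ψ).comp (MvPolynomial.aeval (LefDual.pcoord (𝟙 ℙ) j)) =
            χ.comp (MvPolynomial.aeval (LefDual.pcoord (𝟙 ℙ) j)) :=
          MvPolynomial.algHom_ext fun i => by simp [hψ, v, u]
        exact DFunLike.congr_fun this p
      have hψ0 : ψ (LefDual.pform (𝟙 ℙ) j Q₂) = 0 := by
        rw [pow_two] at hbad
        generalize LefDual.pform (𝟙 ℙ) j Q₂ = z at hbad
        induction hbad using Submodule.mul_induction_on' with
        | mem_mul_mem a ha b hb =>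
          rw [map_mul]
          ext
          · simp [hfst, (hχ a).1 ha]
          · simp [hfst, (hχ a).1 ha, (hχ b).1 hb]
        | add a _ b _ ha hb => rw [map_add, ha, hb, add_zero]
      have h2 := congrArg TrivSqZeroExt.snd hψ0
      rw [pform_qf j Q₂ c hQ] at h2
      have h3 : ψ (qv (fun i l => algebraMap k _ (c i l)) (LefDual.pcoord (𝟙 ℙ) j)) =
          qv (fun i l => algebraMap k (DualNumber k) (c i l)) u := by
        simp only [qv, map_sum, map_mul, AlgHom.commutes, hψ]
      rw [h3, snd_qv, TrivSqZeroExt.snd_zero] at h2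
      exact h2
    have hsing : ∀ w, qv c (v + w) = qv c w := fun w => by
      rw [qv_add, h1, zero_add, add_eq_left]
      have h3 := hlin (w - w j • v) (by simp [hvj])
      have h4 : ∑ i, ∑ l, c i l * (v i * v l + v i * v l) = 0 := by
        simp only [mul_add, Finset.sum_add_distrib]
        rw [show ∑ i, ∑ l, c i l * (v i * v l) = qv c v from rfl, h1, add_zero]
      calc ∑ i, ∑ l, c i l * (v i * w l + w i * v l)
          = ∑ i, ∑ l, c i l * (v i * (w - w j • v) l + (w - w j • v) i * v l) +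
              w j * ∑ i, ∑ l, c i l * (v i * v l + v i * v l) := by
            simp only [Finset.mul_sum, ← Finset.sum_add_distrib, Pi.sub_apply, Pi.smul_apply, smul_eq_mul]
            exact Finset.sum_congr rfl fun i _ => Finset.sum_congr rfl fun l _ => by ring
        _ = 0 := by rw [h3, h4, mul_zero, add_zero]
    exact one_ne_zero (hvj.symm.trans (congrFun (h v hsing) j))

end Groth.Agent.LefPencil
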