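import Groth.Agent.LefPencil.LocalOrd
import Groth.Agent.LefPencil.QuadForm
import Groth.Agent.LefDual.Final
import Groth.Agent.FibrewiseCrit.Smooth
import Groth.Agent.DepthLib.RegularQuotient
import Groth.Agent.GRingLib.Transport

/-!
# Singular points of hypersurface sections
-/

set_option autoImplicit false

universe u

open CategoryTheory CategoryTheory.Limits AlgebraicGeometry TopologicalSpace Opposite

namespace Groth.Agent.LefPencil

attribute [local instance] LefDual.pieceAlg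

variable {k : Type u} [Field k] [IsAlgClosed k] {r : ℕ} {X : Scheme.{u}} (ι : X ⟶ CohB1.ProjSpace r k)
  [IsClosedImmersion ι] [Smooth (ι ≫ CohB1.ProjSpace.toSpec r k)]

/-- The point of a piece. -/
noncomputable def pt (j : Fin (r + 1)) (P : PrimeSpectrum Γ(X, BertiniHyp.piece ι j)) : X := (LefDual.pieceAff ι j).2.fromSpec P

/-- The section has a singular point at `x`. -/
def BadAt {d : ℕ} (G : LefPen.Form r k d) (x : X) : Prop :=
  ∃ (j : Fin (r + 1)) (P : Ideal Γ(X, BertiniHyp.piece ι j)) (hP : P.IsMaximal),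
    pt ι j ⟨P, hP.isPrime⟩ = x ∧ LefDual.pform ι j G ∈ P ^ 2

theorem pt_injective (j : Fin (r + 1)) : Function.Injective (pt ι j) :=
  (LefDual.pieceAff ι j).2.fromSpec.isOpenEmbedding.injective

theorem pt_mem (j : Fin (r + 1)) (P : PrimeSpectrum Γ(X, BertiniHyp.piece ι j)) : pt ι j P ∈ BertiniHyp.piece ι j :=
  (LefDual.pieceAff ι j).2.range_fromSpec.le ⟨P, rfl⟩

theorem exists_pt {j : Fin (r + 1)} {x : X} (hx : x ∈ BertiniHyp.piece ι j) (hc : IsClosed ({x} : Set X)) :
    ∃ (P : Ideal Γ(X, BertiniHyp.piece ι j)) (hP : P.IsMaximal), pt ι j ⟨P, hP.isPrime⟩ = x := by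
  let hU := (LefDual.pieceAff ι j).2
  let q := hU.primeIdealOf ⟨x, hx⟩
  have hq : hU.fromSpec q = x := hU.fromSpec_primeIdealOf ⟨x, hx⟩
  have h2 : (hU.fromSpec : Spec Γ(X, BertiniHyp.piece ι j) → X) ⁻¹' closedPoints X =
      closedPoints (Spec Γ(X, BertiniHyp.piece ι j)) := by
    haveI := LefDual.jacobsonSpace_of_immersion ι
    exact (Scheme.Hom.isOpenEmbedding hU.fromSpec).preimage_closedPoints
  exact ⟨q.asIdeal, (PrimeSpectrum.isClosed_singleton_iff_isMaximal _).1 (h2.le (show hU.fromSpec q ∈ closedPoints X by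
    rw [hq]; exact hc)), hq⟩

theorem pt_isClosed (j : Fin (r + 1)) (P : Ideal Γ(X, BertiniHyp.piece ι j)) (hP : P.IsMaximal) :
    IsClosed ({pt ι j ⟨P, hP.isPrime⟩} : Set X) := by
  haveI := LefDual.jacobsonSpace_of_immersion ι
  have h1 := (Scheme.Hom.isOpenEmbedding (LefDual.pieceAff ι j).2.fromSpec).preimage_closedPoints
  exact h1.symm.le (show (⟨P, hP.isPrime⟩ : PrimeSpectrum Γ(X, BertiniHyp.piece ι j)) ∈ closedPoints (Spec Γ(X, BertiniHyp.piece ι j)) from
    (PrimeSpectrum.isClosed_singleton_iff_isMaximal ⟨P, hP.isPrime⟩).2 hP)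

theorem mem_pow_iff_germ (j : Fin (r + 1)) (P : Ideal Γ(X, BertiniHyp.piece ι j)) (hP : P.IsMaximal) (b : Γ(X, BertiniHyp.piece ι j)) (s : ℕ) :
    b ∈ P ^ s ↔ X.presheaf.germ _ (pt ι j ⟨P, hP.isPrime⟩) (pt_mem ι j _) b ∈
      IsLocalRing.maximalIdeal (X.presheaf.stalk (pt ι j ⟨P, hP.isPrime⟩)) ^ s := by
  let hU := (LefDual.pieceAff ι j).2
  let y : PrimeSpectrum Γ(X, BertiniHyp.piece ι j) := ⟨P, hP.isPrime⟩
  let x : X := hU.fromSpec y
  letI := TopCat.Presheaf.algebra_section_stalk X.presheaf (⟨x, pt_mem ι j y⟩ : BertiniHyp.piece ι j)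
  haveI : IsLocalization.AtPrime (X.presheaf.stalk x) y.asIdeal := hU.isLocalization_stalk' y (pt_mem ι j y)
  show _ ↔ algebraMap Γ(X, BertiniHyp.piece ι j) (X.presheaf.stalk x) b ∈ IsLocalRing.maximalIdeal (X.presheaf.stalk x) ^ s
  rw [← IsLocalization.AtPrime.map_eq_maximalIdeal y.asIdeal (X.presheaf.stalk x), ← Ideal.map_pow]
  refine ⟨fun h => Ideal.mem_map_of_mem _ h, fun h => ?_⟩
  obtain ⟨c, hc, hcb⟩ :=
    (IsLocalization.algebraMap_mem_map_algebraMap_iff y.asIdeal.primeCompl (X.presheaf.stalk x) _ _).1 h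
  have hsup : Ideal.span {c} ⊔ P ^ s = ⊤ := by
    have h3 : Ideal.span {c} ⊔ P = ⊤ := hP.out.2 _ (lt_of_le_of_ne le_sup_right fun e =>
      hc (show c ∈ P from e.symm.le (Ideal.mem_sup_left (Ideal.mem_span_singleton_self c))))
    exact Ideal.sup_pow_eq_top h3
  obtain ⟨v', hv', w', hw', hvw⟩ := Submodule.mem_sup.1 (hsup.symm ▸ Submodule.mem_top : (1 : Γ(X, BertiniHyp.piece ι j)) ∈ _)
  obtain ⟨v, rfl⟩ := Ideal.mem_span_singleton'.1 hv'
  rw [show b = v * (c * b) + b * w' by linear_combination (-b) * hvw]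
  exact add_mem (Ideal.mul_mem_left _ _ hcb) (Ideal.mul_mem_left _ _ hw')

/-- Singularity of the section at a point can be tested on any piece. -/
theorem BadAt.mem_sq {d : ℕ} {G : LefPen.Form r k d} {j : Fin (r + 1)} {P : Ideal Γ(X, BertiniHyp.piece ι j)} {hP : P.IsMaximal}
    (h : BadAt ι G (pt ι j ⟨P, hP.isPrime⟩)) : LefDual.pform ι j G ∈ P ^ 2 := by
  obtain ⟨i, Q, hQ, hx, hbad⟩ := h
  rw [mem_pow_iff_germ ι j P hP]
  rw [mem_pow_iff_germ ι i Q hQ] at hbad
  have key : ∀ (y x : X) (_ : y = x) (hi : y ∈ BertiniHyp.piece ι i) (hj : x ∈ BertiniHyp.piece ι j),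
      X.presheaf.germ _ y hi (LefDual.pform ι i G) ∈ IsLocalRing.maximalIdeal (X.presheaf.stalk y) ^ 2 →
      X.presheaf.germ _ x hj (LefDual.pform ι j G) ∈ IsLocalRing.maximalIdeal (X.presheaf.stalk x) ^ 2 := by
    rintro y x rfl hi hj h
    rw [LefDual.pform_germ ι G i j _ hi hj]
    exact Ideal.mul_mem_right _ _ h
  exact key _ _ hx _ _ hbad

theorem germ_pform_eq_zero {d : ℕ} {G : LefPen.Form r k d} [AlgebraicGeometry.IsIntegral X] {i j : Fin (r + 1)}
    (h : LefDual.pform ι i G = 0) (hi : Nonempty (BertiniHyp.piece ι i)) : LefDual.pform ι j G = 0 := by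
  rcases isEmpty_or_nonempty (BertiniHyp.piece ι j) with hj | hj
  · haveI : Subsingleton Γ(X, BertiniHyp.piece ι j) := by
      rw [show BertiniHyp.piece ι j = ⊥ from Opens.ext (Set.isEmpty_coe_sort.1 hj)]
      exact inferInstance
    exact Subsingleton.elim _ _
  obtain ⟨x, hxi, hxj⟩ := nonempty_preirreducible_inter (BertiniHyp.piece ι i).isOpen (BertiniHyp.piece ι j).isOpen
    (Set.nonempty_coe_sort.1 hi) (Set.nonempty_coe_sort.1 hj)
  refine AlgebraicGeometry.germ_injective_of_isIntegral X x hxj ?_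
  rw [LefDual.pform_germ ι G i j x hxi hxj, h, map_zero, zero_mul, map_zero]

variable {d : ℕ} (G : LefPen.Form r k d)

/-- The section as a scheme. -/
noncomputable abbrev secI : X.IdealSheafData := LefPen.secIdeal ι ({G} : Set (LefPen.Form r k d))

/-- The coordinate ring of a piece of the section. -/
abbrev SecPiece (j : Fin (r + 1)) : Type u := Γ(X, BertiniHyp.piece ι j) ⧸ Ideal.span {LefDual.pform ι j G}

theorem exists_chartMap (j : Fin (r + 1)) :
    ∃ f : Spec (CommRingCat.of (SecPiece ι G j)) ⟶ LefPen.Sec ι ({G} : Set (LefPen.Form r k d)),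
      IsOpenImmersion f ∧
      f ≫ LefPen.secι ι ({G} : Set (LefPen.Form r k d)) =
        Spec.map (CommRingCat.ofHom (Ideal.Quotient.mk (Ideal.span {LefDual.pform ι j G}))) ≫ (LefDual.pieceAff ι j).2.fromSpec ∧
      f ≫ LefPen.secToSpec ι ({G} : Set (LefPen.Form r k d)) =
        Spec.map (CommRingCat.ofHom (algebraMap k (SecPiece ι G j))) ∧
      ∀ y, LefPen.secι ι ({G} : Set (LefPen.Form r k d)) y ∈ BertiniHyp.piece ι j → y ∈ Set.range f := by
  let I := secI ι G
  have key : ∀ K : Ideal Γ(X, BertiniHyp.piece ι j), K = Ideal.span {LefDual.pform ι j G} →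
      (∃ f : Spec (CommRingCat.of (Γ(X, BertiniHyp.piece ι j) ⧸ K)) ⟶ LefPen.Sec ι ({G} : Set (LefPen.Form r k d)),
        IsOpenImmersion f ∧
        f ≫ LefPen.secι ι ({G} : Set (LefPen.Form r k d)) =
          Spec.map (CommRingCat.ofHom (Ideal.Quotient.mk K)) ≫ (LefDual.pieceAff ι j).2.fromSpec ∧
        f ≫ LefPen.secToSpec ι ({G} : Set (LefPen.Form r k d)) = Spec.map (CommRingCat.ofHom (algebraMap k (Γ(X, BertiniHyp.piece ι j) ⧸ K))) ∧
        ∀ y, LefPen.secι ι ({G} : Set (LefPen.Form r k d)) y ∈ BertiniHyp.piece ι j → y ∈ Set.range f) →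
      ∃ f : Spec (CommRingCat.of (SecPiece ι G j)) ⟶ LefPen.Sec ι ({G} : Set (LefPen.Form r k d)),
        IsOpenImmersion f ∧
        f ≫ LefPen.secι ι ({G} : Set (LefPen.Form r k d)) =
          Spec.map (CommRingCat.ofHom (Ideal.Quotient.mk (Ideal.span {LefDual.pform ι j G}))) ≫ (LefDual.pieceAff ι j).2.fromSpec ∧
        f ≫ LefPen.secToSpec ι ({G} : Set (LefPen.Form r k d)) =
          Spec.map (CommRingCat.ofHom (algebraMap k (SecPiece ι G j))) ∧
        ∀ y, LefPen.secι ι ({G} : Set (LefPen.Form r k d)) y ∈ BertiniHyp.piece ι j → y ∈ Set.range f := by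
    rintro K rfl h; exact h
  let K : Ideal Γ(X, BertiniHyp.piece ι j) := I.ideal (LefDual.pieceAff ι j)
  have hι : I.subschemeCover.f (LefDual.pieceAff ι j) ≫ LefPen.secι ι {G} =
      Spec.map (CommRingCat.ofHom (Ideal.Quotient.mk (I.ideal (LefDual.pieceAff ι j)))) ≫ (LefDual.pieceAff ι j).2.fromSpec :=
    (Scheme.IdealSheafData.subschemeCover_map_subschemeι I _).trans (I.glueDataObjι_ι _)
  refine key K (LefDual.secIdeal_piece ι G j) ⟨I.subschemeCover.f (LefDual.pieceAff ι j),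
    I.subschemeCover.map_prop _, hι, ?_, ?_⟩
  · refine ((Category.assoc _ _ _).symm.trans (congrArg (· ≫ ι ≫ CohB1.ProjSpace.toSpec r k) hι)).trans ?_
    refine (Category.assoc _ _ _).trans ?_
    refine (congrArg (Spec.map (CommRingCat.ofHom (Ideal.Quotient.mk K)) ≫ ·) (LefDual.fromSpec_piece ι j)).trans ?_
    exact (Spec.map_comp _ _).symm
  · intro y hy
    have h1 : y ∈ (I.subschemeCover.f (LefDual.pieceAff ι j)).opensRange := by
      rw [Scheme.IdealSheafData.opensRange_subschemeCover_map]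
      exact hy
    exact h1

theorem smoothLocus_secPiece (j : Fin (r + 1)) (f : Spec (CommRingCat.of (SecPiece ι G j)) ⟶
      LefPen.Sec ι ({G} : Set (LefPen.Form r k d))) [IsOpenImmersion f]
    (hf : f ≫ LefPen.secToSpec ι ({G} : Set (LefPen.Form r k d)) =
      Spec.map (CommRingCat.ofHom (algebraMap k (SecPiece ι G j)))) (q : PrimeSpectrum (SecPiece ι G j)) :
    LefPen.SmoothAt (LefPen.secToSpec ι ({G} : Set (LefPen.Form r k d))) (f q) ↔
      Algebra.IsSmoothAt k q.asIdeal := by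
  haveI : LocallyOfFiniteType (ι ≫ CohB1.ProjSpace.toSpec r k) := inferInstance
  haveI : LocallyOfFinitePresentation (LefPen.secToSpec ι ({G} : Set (LefPen.Form r k d))) := by
    haveI : LocallyOfFiniteType (LefPen.secToSpec ι ({G} : Set (LefPen.Form r k d))) := inferInstance
    exact (LocallyOfFinitePresentation.iff_locallyOfFiniteType).2 ‹_›
  show (f q) ∈ (LefPen.secToSpec ι ({G} : Set (LefPen.Form r k d))).smoothLocus ↔ _
  rw [← FibrewiseCrit.mem_smoothLocus_comp_left]
  have key : ∀ (g : Spec (CommRingCat.of (SecPiece ι G j)) ⟶ Spec (CommRingCat.of k)),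
      g = Spec.map (CommRingCat.ofHom (algebraMap k (SecPiece ι G j))) → ∀ [LocallyOfFinitePresentation g],
      (q ∈ g.smoothLocus ↔ Algebra.IsSmoothAt k q.asIdeal) := by
    rintro g rfl _
    rw [FibrewiseCrit.mem_smoothLocus_Spec, CommRingCat.hom_ofHom, toAlgebra_algebraMap]
    rfl
  exact key _ hf

theorem finiteType_secPiece (j : Fin (r + 1)) : Algebra.FiniteType k (SecPiece ι G j) := by
  haveI := LefDual.finiteType_piece ι j
  exact Algebra.FiniteType.of_surjective (Ideal.Quotient.mkₐ k _) Ideal.Quotient.mk_surjective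

theorem regular_localization (j : Fin (r + 1)) (P : Ideal Γ(X, BertiniHyp.piece ι j)) [P.IsMaximal] :
    IsRegularLocalRing (Localization.AtPrime P) := by
  haveI := LefDual.piece_smooth ι j
  haveI := LefDual.finiteType_piece ι j
  haveI := CotLib.isGeometricallyReduced_of_isAlgClosed (k := k) (K := P.ResidueField)
  haveI : Algebra.IsSmoothAt k P := by
    show Algebra.FormallySmooth k (Localization.AtPrime P)
    exact Algebra.FormallySmooth.comp k Γ(X, BertiniHyp.piece ι j) _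
  exact (CotLib.isSmoothAt_iff_regular P).1 ‹_›

theorem residue_bijective (j : Fin (r + 1)) (P : Ideal Γ(X, BertiniHyp.piece ι j)) [P.IsMaximal] :
    Function.Bijective (algebraMap k (Localization.AtPrime P ⧸ IsLocalRing.maximalIdeal (Localization.AtPrime P))) := by
  haveI := LefDual.finiteType_piece ι j
  refine ⟨(algebraMap k _).injective, fun y => ?_⟩
  obtain ⟨y, rfl⟩ := Ideal.Quotient.mk_surjective y
  obtain ⟨⟨a, s⟩, hy⟩ := IsLocalization.surj P.primeCompl y
  obtain ⟨χ, hχ⟩ := LefDual.exists_point (k := k) P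
  have hs : χ s.1 ≠ 0 := fun h => s.2 ((hχ _).2 h)
  refine ⟨χ a / χ s.1, (Ideal.Quotient.eq).2 ?_⟩
  let R := Localization.AtPrime P
  have hm : ∀ b : Γ(X, BertiniHyp.piece ι j), algebraMap Γ(X, BertiniHyp.piece ι j) R b - algebraMap k R (χ b) ∈ IsLocalRing.maximalIdeal R := fun b => by
    rw [IsScalarTower.algebraMap_apply k Γ(X, BertiniHyp.piece ι j) R, ← map_sub, IsLocalization.AtPrime.to_map_mem_maximal_iff R P, hχ]
    simp
  have hu : IsUnit (algebraMap Γ(X, BertiniHyp.piece ι j) R s.1) := IsLocalization.map_units R s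
  rw [← Ideal.mul_unit_mem_iff_mem _ hu]
  have : (algebraMap k R (χ a / χ s.1) - y) * algebraMap Γ(X, BertiniHyp.piece ι j) R s.1 =
      algebraMap k R (χ a / χ s.1) * (algebraMap Γ(X, BertiniHyp.piece ι j) R s.1 - algebraMap k R (χ s.1)) -
        (algebraMap Γ(X, BertiniHyp.piece ι j) R a - algebraMap k R (χ a)) := by
    rw [sub_mul, hy, mul_sub, ← map_mul (algebraMap k R), div_mul_cancel₀ _ hs]
    ring
  rw [this]
  exact sub_mem (Ideal.mul_mem_left _ _ (hm _)) (hm _)

variable (j : Fin (r + 1)) (P : Ideal Γ(X, BertiniHyp.piece ι j)) [hP : P.IsMaximal]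

/-- The local ring of a piece of the section is the quotient of that of the piece. -/
theorem exists_local_equiv (q : Ideal (SecPiece ι G j)) [q.IsPrime]
    (hq : q.comap (Ideal.Quotient.mk _) = P) :
    ∃ e : (Localization.AtPrime P ⧸ Ideal.span {algebraMap _ (Localization.AtPrime P) (LefDual.pform ι j G)}) ≃+*
        Localization.AtPrime q,
      ∀ b, e (Ideal.Quotient.mk (Ideal.span {algebraMap _ (Localization.AtPrime P) (LefDual.pform ι j G)})
          (algebraMap Γ(X, BertiniHyp.piece ι j) (Localization.AtPrime P) b)) =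
        algebraMap _ (Localization.AtPrime q) (Ideal.Quotient.mk (Ideal.span {LefDual.pform ι j G}) b) := by
  let I : Ideal Γ(X, BertiniHyp.piece ι j) := Ideal.span {LefDual.pform ι j G}
  let R := Localization.AtPrime P
  let Q := R ⧸ I.map (algebraMap Γ(X, BertiniHyp.piece ι j) R)
  haveI h1 : IsLocalization (Algebra.algebraMapSubmonoid (Γ(X, BertiniHyp.piece ι j) ⧸ I) P.primeCompl) Q := inferInstance
  have hM : Algebra.algebraMapSubmonoid (Γ(X, BertiniHyp.piece ι j) ⧸ I) P.primeCompl = q.primeCompl := by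
    ext x
    obtain ⟨b, rfl⟩ := Ideal.Quotient.mk_surjective x
    constructor
    · rintro ⟨a, ha, hab⟩
      show Ideal.Quotient.mk I b ∉ q
      rw [← show algebraMap Γ(X, BertiniHyp.piece ι j) (Γ(X, BertiniHyp.piece ι j) ⧸ I) a = Ideal.Quotient.mk I b from hab]
      exact fun h => ha (hq ▸ h)
    · intro hb
      exact ⟨b, fun h => hb (hq.symm ▸ h : b ∈ q.comap (Ideal.Quotient.mk I)), rfl⟩
  haveI : IsLocalization q.primeCompl Q := hM ▸ h1
  let e0 := IsLocalization.algEquiv q.primeCompl Q (Localization.AtPrime q)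
  refine ⟨(Ideal.quotEquivOfEq (by rw [Ideal.map_span, Set.image_singleton])).trans e0.toRingEquiv, fun b => ?_⟩
  show e0 (Ideal.quotEquivOfEq _ (Ideal.Quotient.mk _ _)) = _
  rw [Ideal.quotEquivOfEq_mk]
  exact e0.commutes (Ideal.Quotient.mk I b)

theorem smoothAt_iff (hg : LefDual.pform ι j G ∈ P)
    (hg0 : algebraMap _ (Localization.AtPrime P) (LefDual.pform ι j G) ≠ 0)
    (q : Ideal (SecPiece ι G j)) [q.IsPrime] (hq : q.comap (Ideal.Quotient.mk _) = P) :
    Algebra.IsSmoothAt k q ↔ LefDual.pform ι j G ∉ P ^ 2 := by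
  haveI := finiteType_secPiece ι G j
  haveI := regular_localization ι j P
  haveI := CotLib.isGeometricallyReduced_of_isAlgClosed (k := k) (K := q.ResidueField)
  obtain ⟨e, -⟩ := exists_local_equiv ι G j P q hq
  rw [CotLib.isSmoothAt_iff_regular]
  let R := Localization.AtPrime P
  let g := algebraMap Γ(X, BertiniHyp.piece ι j) R (LefDual.pform ι j G)
  have hgm : g ∈ IsLocalRing.maximalIdeal R := (IsLocalization.AtPrime.to_map_mem_maximal_iff R P _).2 hg
  have hsq : g ∈ IsLocalRing.maximalIdeal R ^ 2 ↔ LefDual.pform ι j G ∈ P ^ 2 := by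
    rw [← Localization.AtPrime.map_eq_maximalIdeal, ← Ideal.map_pow]
    refine ⟨fun h => ?_, fun h => Ideal.mem_map_of_mem _ h⟩
    obtain ⟨c, hc, hcb⟩ := (IsLocalization.algebraMap_mem_map_algebraMap_iff P.primeCompl R _ _).1 h
    have hsup : Ideal.span {c} ⊔ P ^ 2 = ⊤ := Ideal.sup_pow_eq_top (hP.out.2 _ (lt_of_le_of_ne le_sup_right fun e =>
      hc (show c ∈ P from e.symm.le (Ideal.mem_sup_left (Ideal.mem_span_singleton_self c)))))
    obtain ⟨v', hv', w', hw', hvw⟩ := Submodule.mem_sup.1 (hsup.symm ▸ Submodule.mem_top :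
      (1 : Γ(X, BertiniHyp.piece ι j)) ∈ _)
    obtain ⟨v, rfl⟩ := Ideal.mem_span_singleton'.1 hv'
    rw [show LefDual.pform ι j G = v * (c * LefDual.pform ι j G) + LefDual.pform ι j G * w' by
      linear_combination (-(LefDual.pform ι j G)) * hvw]
    exact add_mem (Ideal.mul_mem_left _ _ hcb) (Ideal.mul_mem_left _ _ hw')
  rw [← hsq]
  constructor
  · intro h h2
    exact LefDual.notMem_sq_of_regular_quotient hg0 (IsRegularLocalRing.of_ringEquiv e.symm) h2
  · intro h
    obtain ⟨n, hn⟩ : ∃ n, (IsLocalRing.maximalIdeal R).spanFinrank = n + 1 := by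
      refine ⟨(IsLocalRing.maximalIdeal R).spanFinrank - 1, ?_⟩
      have : (IsLocalRing.maximalIdeal R).spanFinrank ≠ 0 := fun h0 => h (by
        have hb : IsLocalRing.maximalIdeal R = ⊥ :=
          (Submodule.spanFinrank_eq_zero_iff_eq_bot (IsNoetherian.noetherian _)).1 h0
        rw [hb] at hgm
        rw [(Submodule.mem_bot R).1 hgm]
        exact zero_mem _)
      omega
    obtain ⟨hreg, -⟩ := DepthLib.isRegularLocalRing_quotient_singleton hn hgm h
    exact IsRegularLocalRing.of_ringEquiv e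

theorem isOrdQuadSing_iff {m : ℕ} (hchart : ∃ φ : Localization.AtPrime P →ₐ[k]
      MvPolynomial (Fin (m + 1)) k ⧸ mv k (m + 1) ^ 3, IsChart φ) (hg : LefDual.pform ι j G ∈ P)
    (f : Spec (CommRingCat.of (SecPiece ι G j)) ⟶ LefPen.Sec ι ({G} : Set (LefPen.Form r k d))) [IsOpenImmersion f]
    (hf : f ≫ LefPen.secToSpec ι ({G} : Set (LefPen.Form r k d)) =
      Spec.map (CommRingCat.ofHom (algebraMap k (SecPiece ι G j))))
    (q : PrimeSpectrum (SecPiece ι G j)) (hq : q.asIdeal.comap (Ideal.Quotient.mk _) = P)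
    (hclosed : IsClosed ({f q} : Set (LefPen.Sec ι ({G} : Set (LefPen.Form r k d))))) :
    LefPen.IsOrdQuadSing k m (LefPen.secToSpec ι ({G} : Set (LefPen.Form r k d))) (f q) ↔
      Nondeg k (m + 1) (algebraMap _ (Localization.AtPrime P) (LefDual.pform ι j G)) := by
  haveI := LefDual.finiteType_piece ι j
  haveI : IsNoetherianRing Γ(X, BertiniHyp.piece ι j) := Algebra.FiniteType.isNoetherianRing k _
  haveI := regular_localization ι j P
  let R := Localization.AtPrime P
  let g : R := algebraMap _ R (LefDual.pform ι j G)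
  have hgm : g ∈ IsLocalRing.maximalIdeal R := (IsLocalization.AtPrime.to_map_mem_maximal_iff R P _).2 hg
  haveI : Nontrivial (R ⧸ Ideal.span {g}) := Ideal.Quotient.nontrivial_iff.2
    (ne_top_of_le_ne_top (IsLocalRing.maximalIdeal.isMaximal R).ne_top ((Ideal.span_singleton_le_iff_mem _).2 hgm))
  haveI : IsLocalRing (R ⧸ Ideal.span {g}) := .of_surjective' (Ideal.Quotient.mk _) Ideal.Quotient.mk_surjective
  rw [nondeg_iff (residue_bijective ι j P) hchart g (LefPen.NondegQuad k) fun Q₂ c h => nondegQuad_iff Q₂ c h]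
  obtain ⟨e, he⟩ := exists_local_equiv ι G j P q.asIdeal hq
  let Y := LefPen.Sec ι ({G} : Set (LefPen.Form r k d))
  let S := (Spec (CommRingCat.of (SecPiece ι G j))).presheaf.stalk q
  let σ : Y.presheaf.stalk (f q) ≃+* R ⧸ Ideal.span {g} :=
    ((asIso (f.stalkMap q)).commRingCatIsoToRingEquiv.trans
      (StructureSheaf.stalkIso (SecPiece ι G j) q).toRingEquiv.symm).trans e.symm
  have hσ : ∀ c : k, σ (LefPen.toStalk k (LefPen.secToSpec ι ({G} : Set (LefPen.Form r k d))) (f q) c) =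
      algebraMap k (R ⧸ Ideal.span {g}) c := fun c => by
    apply e.injective
    show e (e.symm ((StructureSheaf.stalkIso (SecPiece ι G j) q).symm (f.stalkMap q _))) = _
    rw [e.apply_symm_apply, IsScalarTower.algebraMap_apply k R (R ⧸ Ideal.span {g}),
      IsScalarTower.algebraMap_apply k Γ(X, BertiniHyp.piece ι j) R, Ideal.Quotient.algebraMap_eq, he]
    refine (StructureSheaf.stalkIso (SecPiece ι G j) q).symm_apply_eq.2 ?_
    rw [AlgEquiv.commutes]
    have h1 : f.appTop ((Coh.toGlobal (LefPen.secToSpec ι ({G} : Set (LefPen.Form r k d)))) c) =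
        (Scheme.ΓSpecIso (CommRingCat.of (SecPiece ι G j))).inv (algebraMap k (SecPiece ι G j) c) := by
      have h2 := congrArg (fun φ : Spec (CommRingCat.of (SecPiece ι G j)) ⟶ Spec (CommRingCat.of k) =>
        φ.appTop ((Scheme.ΓSpecIso (CommRingCat.of k)).inv c)) hf
      refine Eq.trans ?_ (h2.trans ?_)
      · exact (congrArg (fun φ => φ ((Scheme.ΓSpecIso (CommRingCat.of k)).inv c)) (Scheme.Hom.comp_appTop f (LefPen.secToSpec ι ({G} : Set (LefPen.Form r k d))))).symm
      · exact (ConcreteCategory.congr_hom (Scheme.ΓSpecIso_inv_naturality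
          (CommRingCat.ofHom (algebraMap k (SecPiece ι G j)))) c).symm
    refine (Scheme.Hom.germ_stalkMap_apply f ⊤ q trivial _).trans ?_
    refine (congrArg ((Spec (CommRingCat.of (SecPiece ι G j))).presheaf.germ ⊤ q trivial) h1).trans ?_
    rfl
  unfold LefPen.IsOrdQuadSing
  simp only [hclosed, true_and]
  let Φ := GRingLib.cequiv _ _ σ (IsLocalRing.map_ringEquiv_maximalIdeal σ)
  have hΦ : ∀ a, Φ (algebraMap _ _ a) = algebraMap _ _ (σ a) := fun a =>
    GRingLib.cmap_algebraMap _ _ σ.toRingHom (IsLocalRing.map_ringEquiv_maximalIdeal σ).le a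
  have hΦc : ∀ c, Φ (algebraMap _ _ (LefPen.toStalk k (LefPen.secToSpec ι ({G} : Set (LefPen.Form r k d))) (f q) c)) =
      algebraMap (R ⧸ Ideal.span {g}) _ (algebraMap k (R ⧸ Ideal.span {g}) c) := fun c => by rw [hΦ, hσ]
  constructor
  · rintro ⟨Q, Q₂, ε, h1, h2, h3, h4⟩
    refine ⟨Q, Q₂, Φ.symm.trans ε, fun c => ?_, h2, h3, h4⟩
    show ε (Φ.symm _) = _
    rw [← hΦc, RingEquiv.symm_apply_apply, h1]
  · rintro ⟨Q, Q₂, ε, h1, h2, h3, h4⟩
    exact ⟨Q, Q₂, Φ.trans ε, fun c => (congrArg ε (hΦc c)).trans (h1 c), h2, h3, h4⟩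

end Groth.Agent.LefPencil
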