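import Groth.Agent.LefPencil.Coord
import Groth.Agent.LefPencil.Point

/-!
# Sections with exactly one ordinary quadratic singular point
-/

set_option autoImplicit false

universe u

open CategoryTheory CategoryTheory.Limits AlgebraicGeometry TopologicalSpace Opposite

namespace Groth.Agent.LefPencil

attribute [local instance] LefDual.pieceAlg

variable {k : Type u} [Field k] [IsAlgClosed k] {r : ℕ} {X : Scheme.{u}} (ι : X ⟶ CohB1.ProjSpace r k)
  [IsClosedImmersion ι]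

theorem Nondeg.ne_zero {R : Type u} [CommRing R] [Algebra k R] [IsLocalRing R] [IsNoetherianRing R] {m : ℕ} {g : R}
    (h : Nondeg k (m + 1) g) : g ≠ 0 := by
  rintro rfl
  obtain ⟨φ, -, c, hc, hg⟩ := h
  rw [map_zero, eq_comm, Ideal.Quotient.eq_zero_iff_mem] at hg
  have h0 : ∀ v, qv c v = 0 := fun v => by
    rw [← eval_qf, eq_zero_of_homogeneous (qf_isHomogeneous c) hg (by norm_num), map_zero]
  have := congrFun (hc (Pi.single 0 1) fun w => by rw [h0, h0]) 0
  simp at this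

theorem Nondeg.mem_sq_max {R : Type u} [CommRing R] [Algebra k R] [IsLocalRing R] [IsNoetherianRing R] {n : ℕ} {g : R}
    (h : Nondeg k n g) : g ∈ IsLocalRing.maximalIdeal R ^ 2 := by
  obtain ⟨φ, hφ, c, -, hg⟩ := h
  have h0 : (mv k n).map (Ideal.Quotient.mk (mv k n ^ 3)) ≤ (IsLocalRing.maximalIdeal R).map φ := fun y hy => by
    obtain ⟨z, rfl⟩ := hφ.1 y
    exact Ideal.mem_map_of_mem _ ((mem_max_iff (Ideal.pow_le_self (by norm_num)) φ hφ.1 z).2 hy)
  have h1 : φ g ∈ (mv k n ^ 2).map (Ideal.Quotient.mk (mv k n ^ 3)) := hg ▸ Ideal.mem_map_of_mem _ (qf_mem c)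
  rw [Ideal.map_pow] at h1
  have h2 := Ideal.pow_right_mono h0 2 h1
  rw [← Ideal.map_pow] at h2
  obtain ⟨z, hz, hzg⟩ := (Ideal.mem_map_iff_of_surjective φ hφ.1).1 h2
  have h3 : g - z ∈ IsLocalRing.maximalIdeal R ^ 3 := by rw [← hφ.2, RingHom.mem_ker, map_sub, hzg, sub_self]
  simpa using add_mem (Ideal.pow_le_pow_right (by norm_num : 2 ≤ 3) h3) hz

theorem algebraMap_mem_sq_iff {B : Type u} [CommRing B] (P : Ideal B) [hP : P.IsMaximal] (g : B) :
    algebraMap B (Localization.AtPrime P) g ∈ IsLocalRing.maximalIdeal (Localization.AtPrime P) ^ 2 ↔ g ∈ P ^ 2 := by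
  rw [← Localization.AtPrime.map_eq_maximalIdeal, ← Ideal.map_pow]
  refine ⟨fun h => ?_, fun h => Ideal.mem_map_of_mem _ h⟩
  obtain ⟨c, hc, hcb⟩ := (IsLocalization.algebraMap_mem_map_algebraMap_iff P.primeCompl (Localization.AtPrime P) _ _).1 h
  have hsup : Ideal.span {c} ⊔ P ^ 2 = ⊤ := Ideal.sup_pow_eq_top (hP.out.2 _ (lt_of_le_of_ne le_sup_right fun e =>
    hc (show c ∈ P from e.symm.le (Ideal.mem_sup_left (Ideal.mem_span_singleton_self c)))))
  obtain ⟨v', hv', w', hw', hvw⟩ := Submodule.mem_sup.1 (hsup.symm ▸ Submodule.mem_top : (1 : B) ∈ _)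
  obtain ⟨v, rfl⟩ := Ideal.mem_span_singleton'.1 hv'
  rw [show g = v * (c * g) + g * w' by linear_combination (-g) * hvw]
  exact add_mem (Ideal.mul_mem_left _ _ hcb) (Ideal.mul_mem_left _ _ hw')

/-- Coordinates near a point of a piece. -/
theorem exists_coords {n : ℕ} [SmoothOfRelativeDimension n (ι ≫ CohB1.ProjSpace.toSpec r k)] (j : Fin (r + 1))
    (P : Ideal Γ(X, BertiniHyp.piece ι j)) [P.IsMaximal] :
    ∃ (h : Γ(X, BertiniHyp.piece ι j)) (_ : h ∉ P) (z : Fin n → Localization.Away h)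
      (b : Module.Basis (Fin n) (Localization.Away h) Ω[Localization.Away h⁄k]),
      ∀ t, b t = KaehlerDifferential.D k _ (z t) := by
  haveI : Smooth (ι ≫ CohB1.ProjSpace.toSpec r k) := SmoothOfRelativeDimension.smooth n _
  haveI := LefDual.piece_smooth ι j
  haveI := LefDual.finiteType_piece ι j
  obtain ⟨h, hhP, -, d, s, b, -, hb⟩ := BertiniAff.exists_piece (LefDual.pcoord ι j) (LefDual.aeval_pcoord_surjective ι j) P
    (f := 1) (fun h1 => ‹P.IsMaximal›.ne_top ((Ideal.eq_top_iff_one _).2 h1))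
    (Algebra.Smooth.comp k Γ(X, BertiniHyp.piece ι j) (Localization.Away (1 : Γ(X, BertiniHyp.piece ι j))))
  obtain ⟨g, hgP, ⟨e⟩⟩ := LefDual.exists_notMem_basis (LefDual.piece_locally ι (n := n) j) P
  obtain rfl : d = n := le_antisymm (LefDual.relDim_le_of_bases P hhP hgP b e) (LefDual.relDim_le_of_bases P hgP hhP e b)
  exact ⟨h, hhP, _, b, hb⟩

theorem exists_lift_away {B : Type u} [CommRing B] [Algebra k B] (h : B) (χ : B →ₐ[k] k) (hh : χ h ≠ 0) :
    ∃ χ' : Localization.Away h →ₐ[k] k, ∀ a, χ' (algebraMap B _ a) = χ a := by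
  have hu : ∀ y : Submonoid.powers h, IsUnit (χ y) := fun ⟨_, e, he⟩ => isUnit_iff_ne_zero.2 (by simp [← he, hh])
  exact ⟨IsLocalization.liftAlgHom (M := Submonoid.powers h) (S := Localization.Away h) hu,
    fun a => IsLocalization.lift_eq _ a⟩

theorem exists_chart_dim {n : ℕ} [SmoothOfRelativeDimension n (ι ≫ CohB1.ProjSpace.toSpec r k)] (j : Fin (r + 1))
    (P : Ideal Γ(X, BertiniHyp.piece ι j)) [P.IsMaximal] :
    ∃ φ : Localization.AtPrime P →ₐ[k] MvPolynomial (Fin n) k ⧸ mv k n ^ 3, IsChart φ := by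
  haveI : Smooth (ι ≫ CohB1.ProjSpace.toSpec r k) := SmoothOfRelativeDimension.smooth n _
  haveI := LefDual.finiteType_piece ι j
  obtain ⟨h, hhP, z, b, hb⟩ := exists_coords ι (n := n) j P
  obtain ⟨χ, hχ⟩ := LefDual.exists_point (k := k) P
  obtain ⟨χ', hχ'⟩ := exists_lift_away h χ fun e => hhP ((hχ h).2 e)
  haveI := regular_localization ι j P
  obtain ⟨φ, hφ, -⟩ := coord_criterion b hb χ' P (fun a => by rw [hχ', hχ]) (residue_bijective ι j P)
  exact ⟨φ, hφ⟩

theorem exists_piece_mem [Smooth (ι ≫ CohB1.ProjSpace.toSpec r k)] (x : X) : ∃ j, x ∈ BertiniHyp.piece ι j :=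
  Opens.mem_iSup.1 ((LefDual.iSup_piece ι).symm ▸ trivial : x ∈ ⨆ j, BertiniHyp.piece ι j)

theorem pt_mem_piece_iff [Smooth (ι ≫ CohB1.ProjSpace.toSpec r k)] (i j : Fin (r + 1))
    (P : Ideal Γ(X, BertiniHyp.piece ι i)) (hP : P.IsMaximal) :
    pt ι i ⟨P, hP.isPrime⟩ ∈ BertiniHyp.piece ι j ↔ LefDual.pcoord ι i j ∉ P := by
  have hiff := mem_pow_iff_germ ι i P hP (LefDual.pcoord ι i j) 1
  rw [pow_one, pow_one] at hiff
  rw [hiff, IsLocalRing.mem_maximalIdeal, mem_nonunits_iff, not_not]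
  refine ⟨fun hj => ?_, fun h => LefDual.mem_piece_of_isUnit ι i j _ (pt_mem ι i _) h⟩
  have h1 := LefDual.pform_germ ι (⟨MvPolynomial.X j, ProjPoint.X_mem j⟩ : LefPen.Form r k 1) j i _ hj (pt_mem ι i _)
  simp only [LefDual.pform_eq_aeval, MvPolynomial.aeval_X, LefDual.pcoord_self, map_one, one_mul, pow_one] at h1
  have h2 := LefDual.pform_germ ι (⟨MvPolynomial.X j, ProjPoint.X_mem j⟩ : LefPen.Form r k 1) i j _ (pt_mem ι i ⟨P, hP.isPrime⟩) hj
  simp only [LefDual.pform_eq_aeval, MvPolynomial.aeval_X, LefDual.pcoord_self, map_one, pow_one] at h2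
  exact IsUnit.of_mul_eq_one _ h2.symm

variable {d : ℕ}

/-- Exactly one ordinary quadratic singular point, in algebraic terms. -/
theorem oneOrdQuad_iff [IrreducibleSpace X] {m : ℕ}
    [SmoothOfRelativeDimension (m + 1) (ι ≫ CohB1.ProjSpace.toSpec r k)] (G : LefPen.Form r k d) :
    LefPen.OneOrdQuad k (m + 1) ι G ↔
      ∃ (j : Fin (r + 1)) (P : Ideal Γ(X, BertiniHyp.piece ι j)) (hP : P.IsMaximal),
        Nondeg k (m + 1) (algebraMap _ (Localization.AtPrime P) (LefDual.pform ι j G)) ∧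
        ∀ x, BadAt ι G x → x = pt ι j ⟨P, hP.isPrime⟩ := by
  haveI : Smooth (ι ≫ CohB1.ProjSpace.toSpec r k) := SmoothOfRelativeDimension.smooth (m + 1) _
  haveI := LefDual.isIntegral_of_embedded (n := m + 1) ι
  haveI := LefDual.jacobsonSpace_of_immersion ι
  haveI := LefDual.finiteType_piece ι
  haveI : ∀ i, IsNoetherianRing Γ(X, BertiniHyp.piece ι i) := fun i => Algebra.FiniteType.isNoetherianRing k _
  let s : Set (LefPen.Form r k d) := {G}
  haveI : LocallyOfFiniteType (LefPen.secToSpec ι s) := inferInstance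
  haveI : LocallyOfFinitePresentation (LefPen.secToSpec ι s) := (LocallyOfFinitePresentation.iff_locallyOfFiniteType).2 ‹_›
  haveI : JacobsonSpace (LefPen.Sec ι s) := LocallyOfFiniteType.jacobsonSpace (LefPen.secToSpec ι s)
  have hsec : Topology.IsClosedEmbedding (LefPen.secι ι s : LefPen.Sec ι s → X) := (LefPen.secι ι s).isClosedEmbedding
  choose f hfo hfι hfk hfr using fun j => exists_chartMap ι G j
  haveI := fun j => hfo j
  have hpt : ∀ j (q : PrimeSpectrum (SecPiece ι G j)), LefPen.secι ι s (f j q) =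
      pt ι j ⟨q.asIdeal.comap (Ideal.Quotient.mk _), inferInstance⟩ := fun j q =>
    congrArg (fun φ : Spec (CommRingCat.of (SecPiece ι G j)) ⟶ X => φ q) (hfι j)
  have hdom : ∀ j (P : Ideal Γ(X, BertiniHyp.piece ι j)) [P.IsMaximal], IsDomain Γ(X, BertiniHyp.piece ι j) := fun j P hP => by
    haveI : Nonempty (BertiniHyp.piece ι j) := ⟨⟨_, pt_mem ι j ⟨P, hP.isPrime⟩⟩⟩
    infer_instance
  have hne : ∀ j (P : Ideal Γ(X, BertiniHyp.piece ι j)) [P.IsMaximal], LefDual.pform ι j G ≠ 0 →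
      algebraMap _ (Localization.AtPrime P) (LefDual.pform ι j G) ≠ 0 := fun j P _ h => by
    haveI := hdom j P
    exact (map_ne_zero_iff _ (IsLocalization.injective (Localization.AtPrime P) P.primeCompl_le_nonZeroDivisors)).2 h
  -- smoothness at the closed points
  have hsmooth : ∀ y : LefPen.Sec ι s, IsClosed ({y} : Set (LefPen.Sec ι s)) → ∀ j (P : Ideal Γ(X, BertiniHyp.piece ι j))
      (hP : P.IsMaximal), pt ι j ⟨P, hP.isPrime⟩ = LefPen.secι ι s y →
      LefDual.pform ι j G ∈ P ∧ (LefDual.pform ι j G ≠ 0 →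
        (LefPen.SmoothAt (LefPen.secToSpec ι s) y ↔ LefDual.pform ι j G ∉ P ^ 2)) ∧
      (LefPen.IsOrdQuadSing k m (LefPen.secToSpec ι s) y ↔
        Nondeg k (m + 1) (algebraMap _ (Localization.AtPrime P) (LefDual.pform ι j G))) := by
    intro y hy j P hP hx
    obtain ⟨q, rfl⟩ := hfr j y (hx ▸ pt_mem ι j _)
    have hq : q.asIdeal.comap (Ideal.Quotient.mk _) = P :=
      (congrArg PrimeSpectrum.asIdeal (pt_injective ι j (hx.trans (hpt j q)))).symm
    have hgP : LefDual.pform ι j G ∈ P := by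
      rw [← hq, Ideal.mem_comap, Ideal.Quotient.eq_zero_iff_mem.2 (Ideal.mem_span_singleton_self _)]
      exact zero_mem _
    haveI := hP
    refine ⟨hgP, fun h0 => (smoothLocus_secPiece ι G j (f j) (hfk j) q).trans
      (smoothAt_iff ι G j P hgP (hne j P h0) q.asIdeal hq), ?_⟩
    exact isOrdQuadSing_iff ι G j P (exists_chart_dim ι (n := m + 1) j P) hgP (f j) (hfk j) q hq hy
  have hclosedpt : ∀ y : LefPen.Sec ι s, IsClosed ({y} : Set (LefPen.Sec ι s)) →
      IsClosed ({LefPen.secι ι s y} : Set X) := fun y hy => by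
    rw [← Set.image_singleton]; exact hsec.isClosedMap _ hy
  have hexists : ∀ j (P : Ideal Γ(X, BertiniHyp.piece ι j)) (hP : P.IsMaximal), LefDual.pform ι j G ∈ P →
      ∃ y : LefPen.Sec ι s, IsClosed ({y} : Set (LefPen.Sec ι s)) ∧ pt ι j ⟨P, hP.isPrime⟩ = LefPen.secι ι s y := by
    intro j P hP hg
    haveI := hP
    let K : Ideal Γ(X, BertiniHyp.piece ι j) := Ideal.span {LefDual.pform ι j G}
    have hKP : K ≤ P := (Ideal.span_singleton_le_iff_mem _).2 hg
    have hc : (P.map (Ideal.Quotient.mk K)).comap (Ideal.Quotient.mk K) = P := by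
      rw [Ideal.comap_map_of_surjective _ Ideal.Quotient.mk_surjective, ← RingHom.ker_eq_comap_bot, Ideal.mk_ker]
      exact sup_eq_left.2 hKP
    let q : PrimeSpectrum (SecPiece ι G j) := ⟨P.map (Ideal.Quotient.mk K),
      Ideal.map_isPrime_of_surjective Ideal.Quotient.mk_surjective (by rw [Ideal.mk_ker]; exact hKP)⟩
    have hx : pt ι j ⟨P, hP.isPrime⟩ = LefPen.secι ι s (f j q) := by
      rw [hpt]; exact congrArg (pt ι j) (PrimeSpectrum.ext hc.symm)
    refine ⟨f j q, ?_, hx⟩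
    have : ({f j q} : Set (LefPen.Sec ι s)) = LefPen.secι ι s ⁻¹' {pt ι j ⟨P, hP.isPrime⟩} := by
      ext z
      rw [Set.mem_preimage, Set.mem_singleton_iff, Set.mem_singleton_iff, hx]
      exact ⟨fun h => congrArg _ h, fun h => hsec.injective h⟩
    rw [this]
    exact (pt_isClosed ι j P hP).preimage hsec.continuous
  show (∃ y : LefPen.Sec ι s, _ ∧ LefPen.IsOrdQuadSing k m (LefPen.secToSpec ι s) y) ↔ _
  constructor
  · rintro ⟨y, hset, hord⟩
    obtain ⟨j, hj⟩ := exists_piece_mem ι (LefPen.secι ι s y)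
    obtain ⟨P, hP, hx⟩ := exists_pt ι hj (hclosedpt y hord.1)
    obtain ⟨hgP, -, hiff⟩ := hsmooth y hord.1 j P hP hx
    have hnd := hiff.1 hord
    have hg0 : LefDual.pform ι j G ≠ 0 := fun h => hnd.ne_zero (by rw [h, map_zero])
    refine ⟨j, P, hP, hnd, fun x hx' => ?_⟩
    obtain ⟨i, Q, hQ, rfl, hbad⟩ := hx'
    obtain ⟨y', hy', hyx⟩ := hexists i Q hQ (Ideal.pow_le_self two_ne_zero hbad)
    obtain ⟨-, hsm, -⟩ := hsmooth y' hy' i Q hQ hyx
    have hne' : LefDual.pform ι i G ≠ 0 := fun h => hg0 (germ_pform_eq_zero ι h ⟨⟨_, pt_mem ι i ⟨Q, hQ.isPrime⟩⟩⟩)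
    have : y' = y := by
      by_contra hne
      exact (hsm hne').1 (hset.ge hne) hbad
    rw [hyx, this, hx]
  · rintro ⟨j, P, hP, hnd, huniq⟩
    have hbad : LefDual.pform ι j G ∈ P ^ 2 := (algebraMap_mem_sq_iff P _).1 hnd.mem_sq_max
    have hg0 : LefDual.pform ι j G ≠ 0 := fun h => hnd.ne_zero (by rw [h, map_zero])
    obtain ⟨y, hy, hyx⟩ := hexists j P hP (Ideal.pow_le_self two_ne_zero hbad)
    obtain ⟨-, hsm, hiff⟩ := hsmooth y hy j P hP hyx
    refine ⟨y, ?_, hiff.2 hnd⟩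
    ext y'
    refine ⟨fun h' he => ?_, fun hne => ?_⟩
    · rw [Set.mem_singleton_iff] at he
      subst he
      exact (hsm hg0).1 h' hbad
    by_contra hns
    let Z : Set (LefPen.Sec ι s) := ((LefPen.secToSpec ι s).smoothLocus : Set (LefPen.Sec ι s))ᶜ ∩ {y}ᶜ
    obtain ⟨y'', ⟨hns'', hne''⟩, hy''⟩ := nonempty_inter_closedPoints (Z := Z) ⟨y', hns, hne⟩
      ((LefPen.secToSpec ι s).smoothLocus.2.isClosed_compl.isLocallyClosed.inter hy.isOpen_compl.isLocallyClosed)
    obtain ⟨i, hi⟩ := exists_piece_mem ι (LefPen.secι ι s y'')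
    obtain ⟨Q, hQ, hx''⟩ := exists_pt ι hi (hclosedpt y'' hy'')
    obtain ⟨-, hsm'', -⟩ := hsmooth y'' hy'' i Q hQ hx''
    have hne' : LefDual.pform ι i G ≠ 0 := fun h => hg0 (germ_pform_eq_zero ι h ⟨⟨_, pt_mem ι i ⟨Q, hQ.isPrime⟩⟩⟩)
    have hbad'' : LefDual.pform ι i G ∈ Q ^ 2 := by
      by_contra h
      exact hns'' ((hsm'' hne').2 h)
    exact hne'' (hsec.injective ((huniq _ ⟨i, Q, hQ, hx'', hbad''⟩).trans hyx))

end Groth.Agent.LefPencil
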