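import Groth.Agent.LefPencil.Pair
import Groth.Agent.LefPencil.Proj
import Groth.Agent.LefPencil.OneOrd

/-!
# Polynomials detecting non-degeneracy and separation near a singular point
-/

set_option autoImplicit false

universe u

open CategoryTheory CategoryTheory.Limits AlgebraicGeometry TopologicalSpace Opposite
open scoped TensorProduct

namespace Groth.Agent.LefPencil

attribute [local instance] LefDual.pieceAlg

section Algebra

variable {k : Type u} [Field k]

theorem nonSing_iff {n : ℕ} (c : Fin n → Fin n → k) :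
    NonSing c ↔ ∀ v, qv c v = 0 → (∀ a, ∑ l, (c l a + c a l) * v l = 0) → v = 0 := by
  classical
  have hcross : ∀ v w : Fin n → k, qv c (v + w) = qv c v + qv c w + ∑ a, (∑ l, (c l a + c a l) * v l) * w a := fun v w => by
    rw [qv_add, cross_eq]
    simp only [add_mul, Finset.sum_add_distrib]
  constructor
  · refine fun h v h0 hL => h v fun w => ?_
    rw [hcross, h0, zero_add, Finset.sum_eq_zero fun a _ => by rw [hL a, zero_mul], add_zero]
  · intro h v hv
    have h0 : qv c v = 0 := by simpa [qv] using hv 0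
    refine h v h0 fun a => ?_
    have := hv (Pi.single a 1)
    rw [hcross, h0, zero_add, add_eq_left] at this
    simpa [Pi.single_apply] using this

theorem nonSing_smul_iff {n : ℕ} (c : Fin n → Fin n → k) {e : k} (he : e ≠ 0) :
    NonSing (fun i l => e * c i l) ↔ NonSing c := by
  rw [nonSing_iff, nonSing_iff]
  refine forall_congr' fun v => ?_
  simp only [qv, mul_assoc, ← Finset.mul_sum, ← mul_add, mul_eq_zero, he, false_or]

variable {B : Type u} [CommRing B] [Algebra k B] {N : ℕ}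

/-- Evaluation at a parameter and two points. -/
noncomputable def ev₂ {σ : Type*} (a : σ → k) (x x' : Fin N → k) :
    MvPolynomial (Fin N) (MvPolynomial (σ ⊕ Fin N) k) →+* k :=
  (MvPolynomial.eval x').comp (MvPolynomial.map (MvPolynomial.eval (Sum.elim a x)))

theorem ev₂_fst {σ : Type*} (a : σ → k) (x x' : Fin N → k) (p : MvPolynomial (Fin N) k) :
    ev₂ a x x' (MvPolynomial.C (MvPolynomial.rename Sum.inr p)) = MvPolynomial.eval x p := by
  simp only [ev₂, RingHom.comp_apply, MvPolynomial.map_C, MvPolynomial.eval_C, MvPolynomial.eval_rename, Sum.elim_comp_inr]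

theorem ev₂_snd {σ : Type*} (a : σ → k) (x x' : Fin N → k) (p : MvPolynomial (Fin N) k) :
    ev₂ a x x' (MvPolynomial.map MvPolynomial.C p) = MvPolynomial.eval x' p := by
  rw [ev₂, RingHom.comp_apply, MvPolynomial.map_map,
    show (MvPolynomial.eval (Sum.elim a x)).comp MvPolynomial.C = RingHom.id k by ext; simp, MvPolynomial.map_id]

theorem ev₂_param {σ : Type*} (a : σ → k) (x x' : Fin N → k) (s : σ) :
    ev₂ a x x' (MvPolynomial.C (MvPolynomial.X (Sum.inl s))) = a s := by
  simp [ev₂]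

theorem point_eval (cc : Fin N → B) {h : B} (χ : Localization.Away h →ₐ[k] k) (p : MvPolynomial (Fin N) k) :
    MvPolynomial.eval (fun i => χ (algebraMap B _ (cc i))) p = χ (algebraMap B _ (MvPolynomial.aeval cc p)) := by
  have := MvPolynomial.comp_aeval_apply cc (χ.comp (IsScalarTower.toAlgHom k B (Localization.Away h))) p
  simpa [MvPolynomial.aeval_eq_eval] using this.symm

/-- Values of two-point functions are polynomial, up to powers of the denominator. -/
theorem exists_eval_pair (cc : Fin N → B) (hcc : Function.Surjective (MvPolynomial.aeval (R := k) cc)) {h : B}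
    {σ : Type*} (c : MvPolynomial σ (Localization.Away h ⊗[k] Localization.Away h)) :
    ∃ (Q : MvPolynomial (Fin N) (MvPolynomial (σ ⊕ Fin N) k)) (M : ℕ),
      ∀ (a : σ → k) (χ χ' : Localization.Away h →ₐ[k] k),
        ev₂ a (fun i => χ (algebraMap B _ (cc i))) (fun i => χ' (algebraMap B _ (cc i))) Q =
          (χ (algebraMap B _ h) * χ' (algebraMap B _ h)) ^ M *
            MvPolynomial.eval₂ (Algebra.TensorProduct.lift χ χ' fun _ _ => Commute.all _ _).toRingHom a c := by
  let S := Localization.Away h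
  let Good : MvPolynomial σ (S ⊗[k] S) → Prop := fun c =>
    ∃ (Q : MvPolynomial (Fin N) (MvPolynomial (σ ⊕ Fin N) k)) (M : ℕ),
      ∀ (a : σ → k) (χ χ' : S →ₐ[k] k),
        ev₂ a (fun i => χ (algebraMap B _ (cc i))) (fun i => χ' (algebraMap B _ (cc i))) Q =
          (χ (algebraMap B _ h) * χ' (algebraMap B _ h)) ^ M *
            MvPolynomial.eval₂ (Algebra.TensorProduct.lift χ χ' fun _ _ => Commute.all _ _).toRingHom a c
  obtain ⟨hp, hhp⟩ := hcc h
  let H : MvPolynomial (Fin N) (MvPolynomial (σ ⊕ Fin N) k) :=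
    MvPolynomial.C (MvPolynomial.rename Sum.inr hp) * MvPolynomial.map MvPolynomial.C hp
  have hH : ∀ (a : σ → k) (χ χ' : S →ₐ[k] k),
      ev₂ a (fun i => χ (algebraMap B _ (cc i))) (fun i => χ' (algebraMap B _ (cc i))) H =
        χ (algebraMap B _ h) * χ' (algebraMap B _ h) := fun a χ χ' => by
    rw [map_mul, ev₂_fst, ev₂_snd, point_eval cc χ, point_eval cc χ', hhp]
  have hadd : ∀ c c', Good c → Good c' → Good (c + c') := by
    rintro c c' ⟨Q, M, hQ⟩ ⟨Q', M', hQ'⟩
    refine ⟨Q * H ^ M' + Q' * H ^ M, M + M', fun a χ χ' => ?_⟩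
    rw [map_add, map_mul, map_mul, map_pow, map_pow, hH, hQ, hQ', MvPolynomial.eval₂_add, pow_add]
    ring
  show Good c
  induction c using MvPolynomial.induction_on with
  | C y =>
    induction y using TensorProduct.induction_on with
    | zero => exact ⟨0, 0, fun a χ χ' => by simp⟩
    | tmul s t =>
      obtain ⟨e, u, hu⟩ := IsLocalization.Away.surj h s
      obtain ⟨e', u', hu'⟩ := IsLocalization.Away.surj h t
      obtain ⟨p, hp'⟩ := hcc u
      obtain ⟨p', hp''⟩ := hcc u'
      refine ⟨MvPolynomial.C (MvPolynomial.rename Sum.inr (p * hp ^ e')) * MvPolynomial.map MvPolynomial.C (p' * hp ^ e), e + e',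
        fun a χ χ' => ?_⟩
      rw [map_mul, ev₂_fst, ev₂_snd, point_eval cc χ, point_eval cc χ', MvPolynomial.eval₂_C]
      simp only [map_mul, map_pow, hhp, hp', hp'', ← hu, ← hu', AlgHom.toRingHom_eq_coe, RingHom.coe_coe,
        Algebra.TensorProduct.lift_tmul]
      ring
    | add y y' hy hy' => rw [map_add]; exact hadd _ _ hy hy'
  | add c c' hc hc' => exact hadd _ _ hc hc'
  | mul_X c s hc =>
    obtain ⟨Q, M, hQ⟩ := hc
    refine ⟨Q * MvPolynomial.C (MvPolynomial.X (Sum.inl s)), M, fun a χ χ' => ?_⟩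
    rw [map_mul, hQ, ev₂_param, MvPolynomial.eval₂_mul, MvPolynomial.eval₂_X, mul_assoc]

end Algebra

variable {k : Type u} [Field k] [IsAlgClosed k] {r : ℕ} {X : Scheme.{u}} (ι : X ⟶ CohB1.ProjSpace r k)
  [IsClosedImmersion ι]

/-- Near a non-degenerate singular point of one section: non-degeneracy and separation of singular points. -/
theorem exists_local_data {m d : ℕ} [SmoothOfRelativeDimension (m + 1) (ι ≫ CohB1.ProjSpace.toSpec r k)] (j : Fin (r + 1))
    (P : Ideal Γ(X, BertiniHyp.piece ι j)) [P.IsMaximal] (χ₀ : Γ(X, BertiniHyp.piece ι j) →ₐ[k] k)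
    (hχ₀ : ∀ b, b ∈ P ↔ χ₀ b = 0) (G₀ : LefPen.Form r k d)
    (hnd : Nondeg k (m + 1) (algebraMap _ (Localization.AtPrime P) (LefDual.pform ι j G₀))) :
    ∃ (q : MvPolynomial (ForSys.Mon r d ⊕ Fin (r + 1)) k)
      (Q : MvPolynomial (Fin (r + 1)) (MvPolynomial (ForSys.Mon r d ⊕ Fin (r + 1)) k)),
      MvPolynomial.eval (Sum.elim (ForSys.formEquiv k r d G₀) fun i => χ₀ (LefDual.pcoord ι j i)) q ≠ 0 ∧
      ev₂ (ForSys.formEquiv k r d G₀) (fun i => χ₀ (LefDual.pcoord ι j i)) (fun i => χ₀ (LefDual.pcoord ι j i)) Q ≠ 0 ∧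
      (∀ (G : LefPen.Form r k d) (P' : Ideal Γ(X, BertiniHyp.piece ι j)) [P'.IsMaximal]
        (χ : Γ(X, BertiniHyp.piece ι j) →ₐ[k] k), (∀ b, b ∈ P' ↔ χ b = 0) → LefDual.pform ι j G ∈ P' ^ 2 →
        MvPolynomial.eval (Sum.elim (ForSys.formEquiv k r d G) fun i => χ (LefDual.pcoord ι j i)) q ≠ 0 →
        Nondeg k (m + 1) (algebraMap _ (Localization.AtPrime P') (LefDual.pform ι j G))) ∧
      (∀ (G : LefPen.Form r k d) (χ χ' : Γ(X, BertiniHyp.piece ι j) →ₐ[k] k),
        LefDual.pform ι j G ∈ RingHom.ker χ ^ 2 → LefDual.pform ι j G ∈ RingHom.ker χ' ^ 2 →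
        MvPolynomial.eval (Sum.elim (ForSys.formEquiv k r d G) fun i => χ (LefDual.pcoord ι j i)) q ≠ 0 →
        ev₂ (ForSys.formEquiv k r d G) (fun i => χ (LefDual.pcoord ι j i)) (fun i => χ' (LefDual.pcoord ι j i)) Q ≠ 0 →
        χ = χ') := by
  classical
  haveI : Smooth (ι ≫ CohB1.ProjSpace.toSpec r k) := SmoothOfRelativeDimension.smooth (m + 1) _
  haveI := LefDual.finiteType_piece ι j
  obtain ⟨h, hhP, z, b, hb⟩ := exists_coords ι (n := m + 1) j P
  let g : ForSys.Mon r d → Localization.Away h := fun s => algebraMap _ _ (LefDual.pbasis ι d j s)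
  obtain ⟨C, hC, hpair⟩ := exists_quad_and_pair b hb g
  let cc := LefDual.pcoord ι j
  have hcc : Function.Surjective (MvPolynomial.aeval (R := k) cc) := LefDual.aeval_pcoord_surjective ι j
  have hmem : ∀ G : LefPen.Form r k d, LefDual.member g (ForSys.formEquiv k r d G) =
      algebraMap _ (Localization.Away h) (LefDual.pform ι j G) := fun G => by
    rw [← LefDual.member_pbasis]
    simp only [LefDual.member, map_sum, map_mul, g, ← IsScalarTower.algebraMap_apply]
  have hsing : ∀ (G : LefPen.Form r k d) (χ : Γ(X, BertiniHyp.piece ι j) →ₐ[k] k)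
      (χh : Localization.Away h →ₐ[k] k), (∀ a, χh (algebraMap _ _ a) = χ a) →
      LefDual.pform ι j G ∈ RingHom.ker χ ^ 2 → Sing b g (ForSys.formEquiv k r d G) χh := by
    intro G χ χh hχh hG
    refine sing_of_mem_sq b g _ χh ?_
    rw [hmem]
    have h1 := Ideal.mem_map_of_mem (algebraMap _ (Localization.Away h)) hG
    rw [Ideal.map_pow] at h1
    exact Ideal.pow_right_mono (Ideal.map_le_iff_le_comap.2 fun a ha => by
      rw [Ideal.mem_comap, RingHom.mem_ker, hχh]; exact ha) 2 h1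
  have hcrit : ∀ (G : LefPen.Form r k d) (P' : Ideal Γ(X, BertiniHyp.piece ι j)) [P'.IsMaximal]
      (χ : Γ(X, BertiniHyp.piece ι j) →ₐ[k] k) (χh : Localization.Away h →ₐ[k] k), (∀ a, χh (algebraMap _ _ a) = χ a) →
      (∀ b, b ∈ P' ↔ χ b = 0) → LefDual.pform ι j G ∈ P' ^ 2 →
      (Nondeg k (m + 1) (algebraMap _ (Localization.AtPrime P') (LefDual.pform ι j G)) ↔
        NonSing (quadPart C (ForSys.formEquiv k r d G) χh)) := by
    intro G P' _ χ χh hχh hχ hG
    haveI := regular_localization ι j P'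
    obtain ⟨φ, -, hφ⟩ := coord_criterion b hb χh P' (fun a => by rw [hχh, hχ]) (residue_bijective ι j P')
    refine hφ _ _ ?_
    have hker : RingHom.ker χ = P' := Ideal.ext fun a => by rw [RingHom.mem_ker, hχ]
    have := hC _ χh (hsing G χ χh hχh (hker.symm ▸ hG))
    rwa [hmem] at this
  -- clear the denominators of the coefficients
  choose e u hu using fun x : ForSys.Mon r d × Fin (m + 1) × Fin (m + 1) => IsLocalization.Away.surj h (C x.1 x.2.1 x.2.2)
  let M := Finset.univ.sup e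
  choose p hp using fun x : ForSys.Mon r d × Fin (m + 1) × Fin (m + 1) => hcc (u x * h ^ (M - e x))
  obtain ⟨hpoly, hhpoly⟩ := hcc h
  let cP : Fin (m + 1) → Fin (m + 1) → MvPolynomial (ForSys.Mon r d ⊕ Fin (r + 1)) k := fun i l =>
    ∑ s, MvPolynomial.X (Sum.inl s) * MvPolynomial.rename Sum.inr (p (s, i, l))
  have hcP : ∀ (a : ForSys.Mon r d → k) (χh : Localization.Away h →ₐ[k] k) i l,
      MvPolynomial.eval (Sum.elim a fun x => χh (algebraMap _ _ (cc x))) (cP i l) =
        χh (algebraMap _ _ h) ^ M * quadPart C a χh i l := by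
    intro a χh i l
    simp only [cP, map_sum, map_mul, MvPolynomial.eval_X, Sum.elim_inl, MvPolynomial.eval_rename, Sum.elim_comp_inr,
      point_eval cc χh, hp, ← hu, quadPart, Finset.mul_sum, map_pow]
    refine Finset.sum_congr rfl fun s _ => ?_
    rw [mul_assoc (χh (C s i l)), ← pow_add, Nat.add_sub_cancel' (Finset.le_sup (f := e) (Finset.mem_univ (s, i, l)))]
    ring
  let F : Option (Fin (m + 1)) → MvPolynomial (Fin (m + 1)) (MvPolynomial (ForSys.Mon r d ⊕ Fin (r + 1)) k) := fun o =>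
    o.elim (∑ i, ∑ l, MvPolynomial.C (cP i l) * (MvPolynomial.X i * MvPolynomial.X l))
      fun a => ∑ l, MvPolynomial.C (cP l a + cP a l) * MvPolynomial.X l
  let deg : Option (Fin (m + 1)) → ℕ := fun o => o.elim 2 fun _ => 1
  have hF : ∀ o, (F o).IsHomogeneous (deg o) := fun o => by
    cases o with
    | none =>
      exact MvPolynomial.IsHomogeneous.sum _ _ _ fun i _ => MvPolynomial.IsHomogeneous.sum _ _ _ fun l _ =>
        ((MvPolynomial.isHomogeneous_X _ i).mul (MvPolynomial.isHomogeneous_X _ l)).C_mul _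
    | some a => exact MvPolynomial.IsHomogeneous.sum _ _ _ fun l _ => (MvPolynomial.isHomogeneous_X _ l).C_mul _
  have hF0 : ∀ (w : ForSys.Mon r d ⊕ Fin (r + 1) → k),
      (∀ v : Fin (m + 1) → k, (∀ o, MvPolynomial.eval v (MvPolynomial.map (MvPolynomial.eval w) (F o)) = 0) → v = 0) ↔
        NonSing (fun i l => MvPolynomial.eval w (cP i l)) := fun w => by
    rw [nonSing_iff]
    refine forall_congr' fun v => ?_
    simp only [F, Option.forall, Option.elim_none, Option.elim_some, map_sum, map_mul, MvPolynomial.map_C, MvPolynomial.map_X,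
      MvPolynomial.eval_C, MvPolynomial.eval_X, map_add, qv, and_imp]
  obtain ⟨χh₀, hχh₀⟩ := exists_lift_away h χ₀ fun e0 => hhP ((hχ₀ h).2 e0)
  have hh0 : χh₀ (algebraMap _ _ h) ≠ 0 := by rw [hχh₀]; exact fun e0 => hhP ((hχ₀ h).2 e0)
  have hbad₀ : LefDual.pform ι j G₀ ∈ P ^ 2 := by
    haveI : IsNoetherianRing Γ(X, BertiniHyp.piece ι j) := Algebra.FiniteType.isNoetherianRing k _
    exact (algebraMap_mem_sq_iff P _).1 hnd.mem_sq_max
  have hns₀ : NonSing (quadPart C (ForSys.formEquiv k r d G₀) χh₀) := (hcrit G₀ P χ₀ χh₀ hχh₀ hχ₀ hbad₀).1 hnd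
  have hx₀ : (fun x => χ₀ (cc x)) = fun x => χh₀ (algebraMap _ _ (cc x)) := funext fun x => (hχh₀ _).symm
  obtain ⟨q₁, hq₁, hq₁'⟩ := LefDual.exists_poly_no_zero F deg hF
    (Sum.elim (ForSys.formEquiv k r d G₀) fun x => χh₀ (algebraMap _ _ (cc x)))
    ((hF0 _).2 (by simp only [hcP]; exact (nonSing_smul_iff _ (pow_ne_zero _ hh0)).2 hns₀))
  have hker₀ : RingHom.ker χ₀ = P := Ideal.ext fun a => by rw [RingHom.mem_ker, hχ₀]
  obtain ⟨c, hc₀, hc⟩ := hpair _ χh₀ (hsing G₀ χ₀ χh₀ hχh₀ (hker₀.symm ▸ hbad₀)) hns₀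
  obtain ⟨Qc, Mc, hQc⟩ := exists_eval_pair cc hcc c
  let hq : MvPolynomial (ForSys.Mon r d ⊕ Fin (r + 1)) k := MvPolynomial.rename Sum.inr hpoly
  have hhq : ∀ a (χ : Γ(X, BertiniHyp.piece ι j) →ₐ[k] k), MvPolynomial.eval (Sum.elim a fun x => χ (cc x)) hq = χ h := fun a χ => by
    rw [← hhpoly, MvPolynomial.comp_aeval_apply cc χ, MvPolynomial.aeval_eq_eval]
    simp [hq, MvPolynomial.eval_rename, Sum.elim_comp_inr]
  refine ⟨hq * q₁, Qc * MvPolynomial.map MvPolynomial.C hpoly, ?_, ?_, ?_, ?_⟩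
  · rw [map_mul, hhq, hx₀]
    exact mul_ne_zero (hχh₀ h ▸ hh0) hq₁
  · show ev₂ _ (fun x => χ₀ (cc x)) (fun x => χ₀ (cc x)) _ ≠ 0
    rw [map_mul, hx₀, hQc, hc₀, ev₂_snd, point_eval cc χh₀, hhpoly]
    exact mul_ne_zero (mul_ne_zero (pow_ne_zero _ (mul_ne_zero hh0 hh0)) one_ne_zero) hh0
  · intro G P' _ χ hχ hG hne
    rw [map_mul, mul_ne_zero_iff, hhq] at hne
    obtain ⟨χh, hχh⟩ := exists_lift_away h χ hne.1
    rw [hcrit G P' χ χh hχh hχ hG]
    have hx : (fun x => χ (cc x)) = fun x => χh (algebraMap _ _ (cc x)) := funext fun x => (hχh _).symm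
    have hne2 : MvPolynomial.eval (Sum.elim (ForSys.formEquiv k r d G) fun x => χ (cc x)) q₁ ≠ 0 := hne.2
    have h1 := (hF0 _).1 (hq₁' _ hne2)
    simp only [hx, hcP] at h1
    exact (nonSing_smul_iff _ (pow_ne_zero _ (by rw [hχh]; exact hne.1))).1 h1
  · intro G χ χ' hG hG' hne hne'
    rw [map_mul, mul_ne_zero_iff, hhq] at hne
    rw [map_mul, mul_ne_zero_iff, ev₂_snd] at hne'
    have hh' : χ' h ≠ 0 := by
      have := hne'.2
      rwa [show (fun x => χ' (LefDual.pcoord ι j x)) = fun x => χ' (cc x) from rfl, ← MvPolynomial.aeval_eq_eval,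
        ← MvPolynomial.comp_aeval_apply cc χ', hhpoly] at this
    obtain ⟨χh, hχh⟩ := exists_lift_away h χ hne.1
    obtain ⟨χh', hχh'⟩ := exists_lift_away h χ' hh'
    have h1 := hne'.1
    rw [show (fun x => χ (LefDual.pcoord ι j x)) = fun x => χh (algebraMap _ _ (cc x)) from funext fun x => (hχh _).symm,
      show (fun x => χ' (LefDual.pcoord ι j x)) = fun x => χh' (algebraMap _ _ (cc x)) from funext fun x => (hχh' _).symm,
      hQc, mul_ne_zero_iff] at h1
    have heq := hc _ χh χh' (hsing G χ χh hχh hG) (hsing G χ' χh' hχh' hG') h1.2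
    exact AlgHom.ext fun a => by rw [← hχh, ← hχh', heq]

end Groth.Agent.LefPencil
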