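import Groth.Agent.LefPencil.Trunc
import Groth.Agent.Catenary.Complete
import Groth.Agent.PP16Lib.SymGrRegular
import Groth.Agent.PP16Lib.RegularCompletion
import Groth.Prelude.Def_LefPen

/-!
# Ordinary quadratic singularities of hypersurfaces in regular local rings
-/

set_option autoImplicit false

universe u

namespace Groth.Agent.LefPencil

open MvPolynomial IsLocalRing

variable {k : Type u} [Field k] {R : Type u} [CommRing R] [IsLocalRing R] [IsNoetherianRing R] [Algebra k R] {n d : ℕ}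

/-- A second order chart of a local ring. -/
def IsChart (φ : R →ₐ[k] MvPolynomial (Fin n) k ⧸ mv k n ^ 3) : Prop :=
  Function.Surjective φ ∧ RingHom.ker φ = maximalIdeal R ^ 3

/-- The element vanishes to order two with non-singular quadratic part. -/
def Nondeg (k : Type u) [Field k] [Algebra k R] (n : ℕ) (g : R) : Prop :=
  ∃ φ : R →ₐ[k] MvPolynomial (Fin n) k ⧸ mv k n ^ 3, IsChart φ ∧
    ∃ c, NonSing c ∧ φ g = Ideal.Quotient.mk _ (qf c)

theorem mem_mv_iff {p : MvPolynomial (Fin n) k} : p ∈ mv k n ↔ constantCoeff p = 0 := by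
  rw [← pow_one (mv k n), mem_pow_idealOfVars_iff', constantCoeff_eq]
  exact ⟨fun h => h 0 (by simp), fun h s hs => by
    rw [Nat.lt_one_iff, Finsupp.degree_eq_zero_iff] at hs; rw [hs]; exact h⟩

theorem mem_max_iff {J : Ideal (MvPolynomial (Fin d) k)} (hJ : J ≤ mv k d) (ψ : R →ₐ[k] MvPolynomial (Fin d) k ⧸ J)
    (hψ : Function.Surjective ψ) (r : R) : r ∈ maximalIdeal R ↔ ψ r ∈ (mv k d).map (Ideal.Quotient.mk J) := by
  let χ₀ : (MvPolynomial (Fin d) k ⧸ J) →+* k := Ideal.Quotient.lift J constantCoeff fun p hp => mem_mv_iff.1 (hJ hp)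
  have hχ₀ : ∀ y, y ∈ (mv k d).map (Ideal.Quotient.mk J) ↔ χ₀ y = 0 := fun y => by
    obtain ⟨p, rfl⟩ := Ideal.Quotient.mk_surjective y
    rw [Ideal.mem_quotient_iff_mem_sup, sup_eq_left.2 hJ, mem_mv_iff]
    rfl
  let χ : R →+* k := χ₀.comp ψ.toRingHom
  have hχ : Function.Surjective χ := fun a =>
    ⟨algebraMap k R a, by
      show χ₀ (ψ (algebraMap k R a)) = a
      rw [ψ.commutes]
      exact constantCoeff_C _ a⟩
  haveI := RingHom.ker_isMaximal_of_surjective χ hχ
  rw [hχ₀, ← IsLocalRing.eq_maximalIdeal (I := RingHom.ker χ) inferInstance]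
  rfl

/-- Comparison of a chart with another truncation. -/
theorem transfer {φ : R →ₐ[k] MvPolynomial (Fin n) k ⧸ mv k n ^ 3} (hφ : IsChart φ)
    {J : Ideal (MvPolynomial (Fin d) k)} (h3 : mv k d ^ 3 ≤ J) (hJ : J ≤ mv k d ^ 2)
    (ψ : R →ₐ[k] MvPolynomial (Fin d) k ⧸ J) (hψ : Function.Surjective ψ) (hψ3 : ∀ x ∈ maximalIdeal R ^ 3, ψ x = 0) :
    ∃ α : Fin n → Fin d → k, Function.Injective (fun (v : Fin d → k) i => ∑ l, α i l * v l) ∧
      (∀ r c c', ∑ i, ∑ l, C (c i l) * (lin (α i) * lin (α l)) = qf c' →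
        φ r = Ideal.Quotient.mk _ (qf c) → ψ r = Ideal.Quotient.mk _ (qf c')) ∧
      ∀ r p γ, φ r = Ideal.Quotient.mk _ p → p - lin γ ∈ mv k n ^ 2 →
        ψ r - Ideal.Quotient.mk J (lin fun a => ∑ i, γ i * α i a) ∈ (mv k d ^ 2).map (Ideal.Quotient.mk J) := by
  classical
  have hJ1 : J ≤ mv k d := hJ.trans (Ideal.pow_le_self two_ne_zero)
  choose r hr using fun i => hφ.1 (Ideal.Quotient.mk _ (X i))
  have hrm : ∀ i, r i ∈ maximalIdeal R := fun i =>
    (mem_max_iff (Ideal.pow_le_self (by norm_num)) φ hφ.1 _).2 (hr i ▸ Ideal.mem_map_of_mem _ (X_mem i))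
  have hlift : ∀ x ∈ maximalIdeal R, ∃ α, ψ x - Ideal.Quotient.mk J (lin α) ∈ (mv k d ^ 2).map (Ideal.Quotient.mk J) :=
    fun x hx => by
    obtain ⟨p, hp, hpx⟩ := (Ideal.mem_map_iff_of_surjective _ Ideal.Quotient.mk_surjective).1 ((mem_max_iff hJ1 ψ hψ x).1 hx)
    obtain ⟨α, hα⟩ := exists_lin hp
    exact ⟨α, by rw [← hpx, ← map_sub]; exact Ideal.mem_map_of_mem _ hα⟩
  choose α hα using fun i => hlift (r i) (hrm i)
  have hsub : ∀ (x : R) (p : MvPolynomial (Fin n) k), φ x = Ideal.Quotient.mk _ p → ψ x = aeval (fun i => ψ (r i)) p := by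
    intro x p hx
    have h1 : x - aeval r p ∈ maximalIdeal R ^ 3 := by
      rw [← hφ.2, RingHom.mem_ker, map_sub, hx, comp_aeval_apply, sub_eq_zero]
      simp only [hr]
      have : (Ideal.Quotient.mkₐ k (mv k n ^ 3)) = aeval (fun i => Ideal.Quotient.mk (mv k n ^ 3) (X i)) :=
        MvPolynomial.algHom_ext fun i => by simp
      exact DFunLike.congr_fun this p
    have h2 := hψ3 _ h1
    rwa [map_sub, comp_aeval_apply, sub_eq_zero] at h2
  have hzero : (mv k d ^ 3).map (Ideal.Quotient.mk J) = ⊥ := by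
    rw [Ideal.map_eq_bot_iff_le_ker, Ideal.mk_ker]; exact h3
  have hlin : ∀ p γ, p - lin γ ∈ mv k n ^ 2 →
      aeval (fun i => ψ (r i)) p - Ideal.Quotient.mk J (lin fun a => ∑ i, γ i * α i a) ∈
        (mv k d ^ 2).map (Ideal.Quotient.mk J) := fun p γ hγ => by
    have h2 : aeval (fun i => ψ (r i)) p - Ideal.Quotient.mk J (lin fun a => ∑ i, γ i * α i a) ∈
        (mv k d ^ 2).map (Ideal.Quotient.mk J) := by
      have h3 : aeval (fun i => ψ (r i)) (p - lin γ) ∈ (mv k d ^ 2).map (Ideal.Quotient.mk J) := by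
        have h4 := Ideal.mem_map_of_mem (aeval (R := k) fun i => ψ (r i)) hγ
        rw [Ideal.map_pow] at h4
        rw [Ideal.map_pow]
        refine Ideal.pow_right_mono (Ideal.map_le_iff_le_comap.2 (Ideal.span_le.2 ?_)) 2 h4
        rintro _ ⟨i, rfl⟩
        show aeval (fun i => ψ (r i)) (X i : MvPolynomial (Fin n) k) ∈ (mv k d).map (Ideal.Quotient.mk J)
        rw [aeval_X]
        exact (mem_max_iff hJ1 ψ hψ _).1 (hrm i)
      have h5 : aeval (fun i => ψ (r i)) (lin γ) - Ideal.Quotient.mk J (lin fun a => ∑ i, γ i * α i a) ∈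
          (mv k d ^ 2).map (Ideal.Quotient.mk J) := by
        have e : (lin fun a => ∑ i, γ i * α i a : MvPolynomial (Fin d) k) = ∑ i, C (γ i) * lin (α i) := by
          simp only [lin, map_sum, Finset.sum_mul, Finset.mul_sum, map_mul]
          rw [Finset.sum_comm]
          exact Finset.sum_congr rfl fun i _ => Finset.sum_congr rfl fun a _ => mul_assoc _ _ _
        rw [e, lin, map_sum, map_sum, ← Finset.sum_sub_distrib]
        refine Submodule.sum_mem _ fun i _ => ?_
        rw [map_mul, map_mul, aeval_X, aeval_C, show Ideal.Quotient.mk J (C (γ i)) = algebraMap k _ (γ i) from rfl, ← mul_sub]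
        exact Ideal.mul_mem_left _ _ (hα i)
      rw [map_sub] at h3
      simpa using add_mem h3 h5
    exact h2
  refine ⟨α, fun v v' hv => funext fun l => ?_, fun x c c' hc hx => ?_, fun x p γ hx hγ => hsub x p hx ▸ hlin p γ hγ⟩
  · obtain ⟨x, hx⟩ := hψ (Ideal.Quotient.mk J (X l))
    have hxm : x ∈ maximalIdeal R := (mem_max_iff hJ1 ψ hψ x).2 (hx ▸ Ideal.mem_map_of_mem _ (X_mem l))
    obtain ⟨p, hp, hpx⟩ := (Ideal.mem_map_iff_of_surjective _ Ideal.Quotient.mk_surjective).1
      ((mem_max_iff (Ideal.pow_le_self (by norm_num)) φ hφ.1 x).1 hxm)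
    obtain ⟨γ, hγ⟩ := exists_lin hp
    have h1 : ψ x = aeval (fun i => ψ (r i)) p := hsub x p hpx.symm
    have h2 := hlin p γ hγ
    rw [← h1, hx, ← map_sub, Ideal.mem_quotient_iff_mem_sup, sup_eq_left.2 hJ] at h2
    have h6 : lin ((Pi.single l 1 : Fin d → k) - fun a => ∑ i, γ i * α i a) ∈ mv k d ^ 2 := by
      refine (congrArg (· ∈ mv k d ^ 2) ?_).mp h2
      simp [lin, sub_mul, Finset.sum_sub_distrib, Pi.single_apply, apply_ite (C : k → MvPolynomial (Fin d) k)]
    have h7 : ∀ a, (Pi.single l 1 : Fin d → k) a = ∑ i, γ i * α i a := fun a => sub_eq_zero.1 (congrFun (lin_eq_zero_of_mem h6) a)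
    have h8 : ∀ w : Fin d → k, w l = ∑ i, γ i * ∑ a, α i a * w a := fun w => by
      simp only [Finset.mul_sum, ← mul_assoc]
      rw [Finset.sum_comm]
      simp only [← Finset.sum_mul, ← h7, Pi.single_apply, ite_mul, one_mul, zero_mul, Finset.sum_ite_eq', Finset.mem_univ, if_true]
    rw [h8 v, h8 v']
    exact Finset.sum_congr rfl fun i _ => congrArg _ (congrFun hv i)
  · have hquad : ∀ i l, ψ (r i) * ψ (r l) = Ideal.Quotient.mk J (lin (α i) * lin (α l)) := fun i l => by
      refine sub_eq_zero.1 ((Submodule.mem_bot (MvPolynomial (Fin d) k ⧸ J)).1 (hzero ▸ ?_))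
      rw [map_mul, show ψ (r i) * ψ (r l) - Ideal.Quotient.mk J (lin (α i)) * Ideal.Quotient.mk J (lin (α l)) =
        (ψ (r i) - Ideal.Quotient.mk J (lin (α i))) * ψ (r l) +
          Ideal.Quotient.mk J (lin (α i)) * (ψ (r l) - Ideal.Quotient.mk J (lin (α l))) by ring]
      refine add_mem ?_ ?_
      · rw [pow_succ, Ideal.map_mul]
        exact Ideal.mul_mem_mul (hα i) ((mem_max_iff hJ1 ψ hψ _).1 (hrm l))
      · rw [pow_succ', Ideal.map_mul]
        exact Ideal.mul_mem_mul (Ideal.mem_map_of_mem _ (lin_mem _)) (hα l)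
    rw [hsub x _ hx, ← hc]
    simp only [qf, map_sum, map_mul, aeval_X, aeval_C, hquad]
    rfl

theorem le_of_isChart {φ : R →ₐ[k] MvPolynomial (Fin n) k ⧸ mv k n ^ 3} (hφ : IsChart φ)
    {ψ : R →ₐ[k] MvPolynomial (Fin d) k ⧸ mv k d ^ 3} (hψ : IsChart ψ) : d ≤ n := by
  obtain ⟨α, hα, -, -⟩ := transfer hφ le_rfl (Ideal.pow_le_pow_right (by norm_num)) ψ hψ.1
    fun x hx => RingHom.mem_ker.1 (hψ.2 ▸ hx)
  let A : (Fin d → k) →ₗ[k] (Fin n → k) :=
    { toFun := fun v i => ∑ l, α i l * v l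
      map_add' := fun v w => funext fun i => by simp [mul_add, Finset.sum_add_distrib]
      map_smul' := fun a v => funext fun i => by simp [Finset.mul_sum, mul_left_comm] }
  simpa using LinearMap.finrank_le_finrank_of_injective (f := A) hα

theorem nonSing_of_comp {α : Fin n → Fin n → k} (hα : Function.Injective (fun (v : Fin n → k) i => ∑ l, α i l * v l))
    {c c' : Fin n → Fin n → k} (hc : ∀ v, qv c' v = qv c fun i => ∑ l, α i l * v l) (h : NonSing c) : NonSing c' := by
  let A : (Fin n → k) →ₗ[k] (Fin n → k) :=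
    { toFun := fun v i => ∑ l, α i l * v l
      map_add' := fun v w => funext fun i => by simp [mul_add, Finset.sum_add_distrib]
      map_smul' := fun a v => funext fun i => by simp [Finset.mul_sum, mul_left_comm] }
  have hsurj : Function.Surjective A := LinearMap.injective_iff_surjective.1 hα
  intro v hv
  refine hα (a₂ := 0) ((h (A v) fun w => ?_).trans (by funext i; simp))
  obtain ⟨w, rfl⟩ := hsurj w
  rw [← map_add]
  exact ((hc _).symm.trans (hv w)).trans (hc w)

theorem trunc_completion {C : Type u} [CommRing C] [IsLocalRing C] [IsNoetherianRing C] {S T : Type u} [CommRing S]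
    [IsLocalRing S] [CommRing T] (e : AdicCompletion (maximalIdeal C) C ≃+* S) (σ : S →+* T)
    (hσ : Function.Surjective σ) (hker : RingHom.ker σ = maximalIdeal S ^ 3) :
    Function.Surjective (σ.comp (e.toRingHom.comp (algebraMap C (AdicCompletion (maximalIdeal C) C)))) ∧
      RingHom.ker (σ.comp (e.toRingHom.comp (algebraMap C (AdicCompletion (maximalIdeal C) C)))) = maximalIdeal C ^ 3 := by
  have := CohenStruct.isNoetherianRing_completion C
  have hm : ∀ y, σ (e y) = 0 ↔ y ∈ (maximalIdeal C ^ 3).map (algebraMap C (AdicCompletion (maximalIdeal C) C)) := fun y => by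
    rw [← RingHom.mem_ker, hker, Ideal.map_pow, ← AdicCompletion.maximalIdeal_eq_map,
      ← IsLocalRing.map_maximalIdeal_of_surjective e.toRingHom e.surjective, ← Ideal.map_pow]
    constructor
    · intro h
      obtain ⟨z, hz, hzy⟩ := (Ideal.mem_map_iff_of_surjective e.toRingHom e.surjective).1 h
      rwa [← e.injective hzy]
    · exact fun h => Ideal.mem_map_of_mem e.toRingHom h
  refine ⟨fun t => ?_, ?_⟩
  · obtain ⟨s, rfl⟩ := hσ t
    obtain ⟨y, rfl⟩ := e.surjective s
    obtain ⟨x, hx⟩ := PP16Lib.exists_sub_mem_map_pow (maximalIdeal C) 3 y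
    refine ⟨x, sub_eq_zero.1 ?_⟩
    show σ (e (algebraMap C _ x)) - σ (e y) = 0
    rw [← map_sub, ← map_sub, hm]
    exact hx
  · ext x
    rw [RingHom.mem_ker]
    show σ (e (algebraMap C _ x)) = 0 ↔ _
    rw [hm]
    exact ⟨fun h => PP16Lib.mem_of_algebraMap_mem (maximalIdeal C) le_rfl h, fun h => Ideal.mem_map_of_mem _ h⟩

/-- Completion of a quotient, compatibly. -/
theorem exists_completion_quotient_equiv_compat {A : Type u} [CommRing A] [IsLocalRing A] [IsNoetherianRing A]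
    (a : Ideal A) [Nontrivial (A ⧸ a)] [IsLocalRing (A ⧸ a)] :
    ∃ Ψ : AdicCompletion (maximalIdeal (A ⧸ a)) (A ⧸ a) ≃+*
      AdicCompletion (maximalIdeal A) A ⧸ a.map (algebraMap A (AdicCompletion (maximalIdeal A) A)),
      ∀ x, Ψ (algebraMap (A ⧸ a) _ (Ideal.Quotient.mk a x)) = Ideal.Quotient.mk _ (algebraMap A _ x) := by
  let Ah := AdicCompletion (maximalIdeal A) A
  let m := maximalIdeal A
  let aH := a.map (algebraMap A Ah)
  have := CohenStruct.isNoetherianRing_completion A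
  have : IsAdicComplete (maximalIdeal Ah) Ah := inferInstance
  have hane : a ≠ ⊤ := Ideal.Quotient.nontrivial_iff.mp inferInstance
  have : Nontrivial (Ah ⧸ aH) := Ideal.Quotient.nontrivial_iff.mpr fun htop => hane <| by
    rw [Ideal.eq_top_iff_one]
    by_contra h1
    have hle := Ideal.map_mono (f := algebraMap A Ah) (IsLocalRing.le_maximalIdeal hane)
    rw [show a.map (algebraMap A Ah) = aH from rfl, htop, ← AdicCompletion.maximalIdeal_eq_map] at hle
    exact (maximalIdeal.isMaximal Ah).ne_top (top_le_iff.mp hle)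
  have : IsLocalRing (Ah ⧸ aH) := .of_surjective' (Ideal.Quotient.mk aH) Ideal.Quotient.mk_surjective
  have hmA : maximalIdeal (A ⧸ a) = m.map (Ideal.Quotient.mk a) :=
    (map_maximalIdeal_of_surjective (Ideal.Quotient.mk a) Ideal.Quotient.mk_surjective).symm
  have hmH : maximalIdeal (Ah ⧸ aH) = (m.map (algebraMap A Ah)).map (Ideal.Quotient.mk aH) := by
    rw [← map_maximalIdeal_of_surjective (Ideal.Quotient.mk aH) Ideal.Quotient.mk_surjective,
      AdicCompletion.maximalIdeal_eq_map]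
  have : IsAdicComplete (maximalIdeal (Ah ⧸ aH)) (Ah ⧸ aH) := by
    rw [← map_maximalIdeal_of_surjective (Ideal.Quotient.mk aH) Ideal.Quotient.mk_surjective]
    exact AdicLim.isAdicComplete_quotient aH
  let φ : A ⧸ a →+* Ah ⧸ aH := Ideal.quotientMap aH (algebraMap A Ah) Ideal.le_comap_map
  have hφ : φ.comp (Ideal.Quotient.mk a) = (Ideal.Quotient.mk aH).comp (algebraMap A Ah) :=
    Ideal.quotientMap_comp_mk _
  have hpow : ∀ n, (maximalIdeal (A ⧸ a) ^ n).map φ = maximalIdeal (Ah ⧸ aH) ^ n := fun n => by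
    rw [Ideal.map_pow, hmA, hmH, Ideal.map_map, Ideal.map_map, hφ]
  let ψ : ∀ n, (A ⧸ a) ⧸ maximalIdeal (A ⧸ a) ^ n →+* (Ah ⧸ aH) ⧸ maximalIdeal (Ah ⧸ aH) ^ n := fun n =>
    Ideal.quotientMap _ φ (Ideal.map_le_iff_le_comap.mp (hpow n).le)
  have hψ : ∀ n, Function.Bijective (ψ n) := by
    intro n
    have hK : ∀ x : A, Ideal.Quotient.mk aH (algebraMap A Ah x) ∈ maximalIdeal (Ah ⧸ aH) ^ n →
        Ideal.Quotient.mk a x ∈ maximalIdeal (A ⧸ a) ^ n := fun x hx => by
      rw [hmH, ← Ideal.map_pow, Ideal.mem_quotient_iff_mem_sup, ← Ideal.map_pow, ← Ideal.map_sup] at hx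
      rw [hmA, ← Ideal.map_pow, Ideal.mem_quotient_iff_mem_sup]
      exact PP16Lib.mem_of_algebraMap_mem m (N := n) le_sup_left hx
    constructor
    · rw [injective_iff_map_eq_zero]
      intro z hz
      obtain ⟨z, rfl⟩ := Ideal.Quotient.mk_surjective z
      obtain ⟨x, rfl⟩ := Ideal.Quotient.mk_surjective z
      exact Ideal.Quotient.eq_zero_iff_mem.mpr (hK x (Ideal.Quotient.eq_zero_iff_mem.mp hz))
    · intro z
      obtain ⟨z, rfl⟩ := Ideal.Quotient.mk_surjective z
      obtain ⟨y, rfl⟩ := Ideal.Quotient.mk_surjective z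
      obtain ⟨x, hx⟩ := PP16Lib.exists_sub_mem_map_pow m n y
      refine ⟨Ideal.Quotient.mk _ (Ideal.Quotient.mk a x), Ideal.Quotient.eq.mpr ?_⟩
      change Ideal.Quotient.mk aH (algebraMap A Ah x) - Ideal.Quotient.mk aH y ∈ _
      rw [hmH, ← Ideal.map_pow, ← map_sub, Ideal.mem_quotient_iff_mem_sup, ← Ideal.map_pow]
      exact Ideal.mem_sup_left hx
  obtain ⟨Φ, hΦ⟩ := PP16Lib.exists_completion_equiv_of_quotients (fun n => RingEquiv.ofBijective (ψ n) (hψ n))
    fun {k n} hle x => by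
      obtain ⟨x, rfl⟩ := Ideal.Quotient.mk_surjective x
      obtain ⟨x, rfl⟩ := Ideal.Quotient.mk_surjective x
      rfl
  refine ⟨Φ.trans (AdicCompletion.ofAlgEquiv (maximalIdeal (Ah ⧸ aH))).toRingEquiv.symm, fun x => ?_⟩
  refine (AdicCompletion.ofAlgEquiv (maximalIdeal (Ah ⧸ aH))).symm_apply_eq.2 (AdicCompletion.ext_evalₐ fun j => ?_)
  show AdicCompletion.evalₐ _ j (Φ _) = _
  rw [hΦ, AdicCompletion.algebraMap_apply, AdicCompletion.evalₐ_of]
  exact (AdicCompletion.evalₐ_of _ _ _).symm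

theorem exists_equiv [IsRegularLocalRing R] (hres : Function.Bijective (algebraMap k (R ⧸ maximalIdeal R))) :
    ∃ (d : ℕ) (e : AdicCompletion (maximalIdeal R) R ≃+* MvPowerSeries (Fin d) k),
      ∀ c, e (algebraMap R _ (algebraMap k R c)) = MvPowerSeries.C c := by
  haveI : Algebra.FormallySmooth k (R ⧸ maximalIdeal R) :=
    Algebra.FormallySmooth.of_equiv (AlgEquiv.ofBijective (Algebra.ofId k _) hres)
  obtain ⟨d, e, he⟩ := PP16Lib.exists_completion_equiv_compat (F := k) (A := R)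
    (PP16Lib.isRegularLocalRing_iff_symGrBijective.1 ‹_›)
  let ε : ResidueField R ≃+* k := (RingEquiv.ofBijective (algebraMap k (R ⧸ maximalIdeal R)) hres).symm
  refine ⟨d, e.trans (RingEquiv.ofRingHom (MvPowerSeries.map ε.toRingHom) (MvPowerSeries.map ε.symm.toRingHom)
    (RingHom.ext fun f => MvPowerSeries.ext fun m => by simp [MvPowerSeries.coeff_map])
    (RingHom.ext fun f => MvPowerSeries.ext fun m => by simp [MvPowerSeries.coeff_map])), fun c => ?_⟩
  show MvPowerSeries.map ε.toRingHom (e (algebraMap R _ (algebraMap k R c))) = _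
  rw [he, MvPowerSeries.map_C]
  congr 1
  exact (RingEquiv.ofBijective (algebraMap k (R ⧸ maximalIdeal R)) hres).symm_apply_apply c

theorem exists_chart [IsRegularLocalRing R] (hres : Function.Bijective (algebraMap k (R ⧸ maximalIdeal R))) :
    ∃ (d : ℕ) (φ : R →ₐ[k] MvPolynomial (Fin d) k ⧸ mv k d ^ 3), IsChart φ := by
  obtain ⟨d, e, he⟩ := exists_equiv (k := k) hres
  let ρ := (trunc3 k d).toRingHom.comp (e.toRingHom.comp (algebraMap R (AdicCompletion (maximalIdeal R) R)))
  let φ : R →ₐ[k] MvPolynomial (Fin d) k ⧸ mv k d ^ 3 :=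
    { ρ with
      commutes' := fun c => by
        show trunc3 k d (e (algebraMap R _ (algebraMap k R c))) = _
        rw [he, ← MvPolynomial.coe_C, trunc3_coe]
        rfl }
  obtain ⟨h1, h2⟩ := trunc_completion e (trunc3 k d).toRingHom trunc3_surjective trunc3_ker
  exact ⟨d, φ, h1, h2⟩

/-- Non-degeneracy is being an ordinary quadratic singularity of the hypersurface. -/
theorem nondeg_iff [IsAlgClosed k] {m : ℕ} [IsRegularLocalRing R] (hres : Function.Bijective (algebraMap k (R ⧸ maximalIdeal R)))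
    (hdim : ∃ φ : R →ₐ[k] MvPolynomial (Fin (m + 1)) k ⧸ mv k (m + 1) ^ 3, IsChart φ) (g : R)
    [Nontrivial (R ⧸ Ideal.span {g})] [IsLocalRing (R ⧸ Ideal.span {g})]
    (P : LefPen.Form m k 2 → Prop) (hP : ∀ (Q₂ : LefPen.Form m k 2) c, Q₂.1 = qf c → (P Q₂ ↔ NonSing c)) :
    Nondeg k (m + 1) g ↔
      ∃ (Q : MvPowerSeries (Fin (m + 1)) k) (Q₂ : LefPen.Form m k 2)
        (e : AdicCompletion (maximalIdeal (R ⧸ Ideal.span {g})) (R ⧸ Ideal.span {g}) ≃+*
          (MvPowerSeries (Fin (m + 1)) k ⧸ Ideal.span {Q})),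
        (∀ c : k, e (algebraMap (R ⧸ Ideal.span {g}) _ (algebraMap k (R ⧸ Ideal.span {g}) c)) =
            Ideal.Quotient.mk _ (MvPowerSeries.C c)) ∧
        LefPen.StartsInDegTwo k Q ∧ LefPen.IsQuadPart k Q Q₂ ∧ P Q₂ := by
  classical
  constructor
  · rintro ⟨φ, hφ, c, hc, hg⟩
    obtain ⟨d, e₀, he₀⟩ := exists_equiv (k := k) hres
    obtain ⟨h1, h2⟩ := trunc_completion e₀ (trunc3 k d).toRingHom trunc3_surjective trunc3_ker
    let φ₀ : R →ₐ[k] MvPolynomial (Fin d) k ⧸ mv k d ^ 3 :=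
      { (trunc3 k d).toRingHom.comp (e₀.toRingHom.comp (algebraMap R (AdicCompletion (maximalIdeal R) R))) with
        commutes' := fun c => by
          show trunc3 k d (e₀ (algebraMap R _ (algebraMap k R c))) = _
          rw [he₀, ← MvPolynomial.coe_C, trunc3_coe]
          rfl }
    obtain rfl : d = m + 1 := le_antisymm (le_of_isChart hφ (ψ := φ₀) ⟨h1, h2⟩) (le_of_isChart (φ := φ₀) ⟨h1, h2⟩ hφ)
    obtain ⟨α, hα, hq, -⟩ := transfer hφ le_rfl (Ideal.pow_le_pow_right (by norm_num)) φ₀ h1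
      fun x hx => RingHom.mem_ker.1 (h2.symm ▸ hx)
    obtain ⟨c', hc', hv⟩ := exists_qf_comp c α
    let Q : MvPowerSeries (Fin (m + 1)) k := e₀ (algebraMap R _ g)
    have hQ := (trunc3_eq_qf_iff Q c').1 (hq g c c' hc' hg)
    obtain ⟨Ψ, hΨ⟩ := exists_completion_quotient_equiv_compat (Ideal.span {g})
    let E := Ψ.trans (Ideal.quotientEquiv _ (Ideal.span {Q}) e₀ (by
      rw [Ideal.map_span, Set.image_singleton, Ideal.map_span, Set.image_singleton]; rfl))
    let Q₂ : LefPen.Form m k 2 := ⟨qf c', qf_isHomogeneous c'⟩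
    refine ⟨Q, Q₂, E, fun a => ?_, fun e he => ?_, fun e he => ?_, (hP Q₂ c' rfl).2 (nonSing_of_comp hα hv hc)⟩
    · refine (congrArg (Ideal.quotientEquiv _ (Ideal.span {Q}) e₀ (by
        rw [Ideal.map_span, Set.image_singleton, Ideal.map_span, Set.image_singleton]; rfl)) (hΨ (algebraMap k R a))).trans ?_
      rw [Ideal.quotientEquiv_mk, he₀]
    · rw [hQ e (by omega)]
      exact (qf_isHomogeneous c').coeff_eq_zero (by omega)
    · exact (hQ e (by omega)).symm
  · rintro ⟨Q, Q₂, e, he, hQ0, hQ2, hP2⟩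
    obtain ⟨c₂, hc₂⟩ : ∃ c, Q₂.1 = qf c := by
      have hmem : Q₂.1 ∈ mv k (m + 1) ^ 2 := (mem_pow_idealOfVars_iff' _ _).2 fun s hs =>
        (show Q₂.1.IsHomogeneous 2 from Q₂.2).coeff_eq_zero (by omega)
      obtain ⟨c, hc⟩ := exists_qf hmem
      exact ⟨c, sub_eq_zero.1 (eq_zero_of_homogeneous ((show Q₂.1.IsHomogeneous 2 from Q₂.2).sub (qf_isHomogeneous c)) hc (by norm_num))⟩
    have hns : NonSing c₂ := (hP Q₂ c₂ hc₂).1 hP2
    have htQ : trunc3 k (m + 1) Q = Ideal.Quotient.mk _ (qf c₂) := (trunc3_eq_qf_iff Q c₂).2 fun s hs => by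
      rcases Nat.lt_or_ge s.degree 2 with h | h
      · rw [hQ0 s h, (qf_isHomogeneous c₂).coeff_eq_zero (by omega)]
      · rw [← hc₂, ← hQ2 s (by omega)]
    let J : Ideal (MvPolynomial (Fin (m + 1)) k) := mv k (m + 1) ^ 3 ⊔ Ideal.span {qf c₂}
    have hJ2 : J ≤ mv k (m + 1) ^ 2 := sup_le (Ideal.pow_le_pow_right (by norm_num))
      ((Ideal.span_singleton_le_iff_mem _).2 (qf_mem c₂))
    have hQm : Q ∈ maximalIdeal (MvPowerSeries (Fin (m + 1)) k) := by
      rw [IsLocalRing.mem_maximalIdeal, mem_nonunits_iff, MvPowerSeries.isUnit_iff_constantCoeff,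
        ← MvPowerSeries.coeff_zero_eq_constantCoeff_apply, hQ0 0 (by simp)]
      simp
    haveI : Nontrivial (MvPowerSeries (Fin (m + 1)) k ⧸ Ideal.span {Q}) := Ideal.Quotient.nontrivial_iff.2 fun h =>
      (maximalIdeal.isMaximal _).ne_top (top_le_iff.1 (h ▸ (Ideal.span_singleton_le_iff_mem _).2 hQm))
    haveI : IsLocalRing (MvPowerSeries (Fin (m + 1)) k ⧸ Ideal.span {Q}) :=
      .of_surjective' (Ideal.Quotient.mk _) Ideal.Quotient.mk_surjective
    let σ : (MvPowerSeries (Fin (m + 1)) k ⧸ Ideal.span {Q}) →+* MvPolynomial (Fin (m + 1)) k ⧸ J :=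
      Ideal.Quotient.lift _ ((Ideal.Quotient.factor (le_sup_left : mv k (m + 1) ^ 3 ≤ J)).comp (trunc3 k (m + 1)).toRingHom) fun x hx => by
        obtain ⟨a, rfl⟩ := Ideal.mem_span_singleton'.1 hx
        show Ideal.Quotient.factor (le_sup_left : mv k (m + 1) ^ 3 ≤ J) (trunc3 k (m + 1) (a * Q)) = 0
        rw [map_mul, htQ, map_mul, Ideal.Quotient.factor_mk,
          Ideal.Quotient.eq_zero_iff_mem.2 (show qf c₂ ∈ J from Ideal.mem_sup_right (Ideal.mem_span_singleton_self _)), mul_zero]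
    have hσ : Function.Surjective σ := Ideal.Quotient.lift_surjective_of_surjective _ _
      ((Ideal.Quotient.factor_surjective (le_sup_left : mv k (m + 1) ^ 3 ≤ J)).comp trunc3_surjective)
    have hσker : RingHom.ker σ = maximalIdeal _ ^ 3 := by
      rw [← map_maximalIdeal_of_surjective (Ideal.Quotient.mk (Ideal.span {Q})) Ideal.Quotient.mk_surjective, ← Ideal.map_pow]
      ext x
      obtain ⟨x, rfl⟩ := Ideal.Quotient.mk_surjective x
      rw [Ideal.mem_quotient_iff_mem_sup, RingHom.mem_ker]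
      show Ideal.Quotient.factor (le_sup_left : mv k (m + 1) ^ 3 ≤ J) (trunc3 k (m + 1) x) = 0 ↔ _
      constructor
      · intro h
        obtain ⟨p, hp⟩ := Ideal.Quotient.mk_surjective (trunc3 k (m + 1) x)
        rw [← hp, Ideal.Quotient.factor_mk, Ideal.Quotient.eq_zero_iff_mem] at h
        obtain ⟨u, hu, v, hv, huv⟩ := Submodule.mem_sup.1 h
        obtain ⟨a, rfl⟩ := Ideal.mem_span_singleton'.1 hv
        refine Submodule.mem_sup.2 ⟨x - (a : MvPowerSeries (Fin (m + 1)) k) * Q, ?_, (a : MvPowerSeries (Fin (m + 1)) k) * Q,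
          Ideal.mul_mem_left _ _ (Ideal.mem_span_singleton_self Q), by ring⟩
        rw [← trunc3_ker, RingHom.mem_ker, map_sub, map_mul, trunc3_coe, htQ, ← hp, ← map_mul, ← map_sub,
          Ideal.Quotient.eq_zero_iff_mem, ← huv]
        simpa using hu
      · intro h
        obtain ⟨u, hu, v, hv, rfl⟩ := Submodule.mem_sup.1 h
        obtain ⟨a, rfl⟩ := Ideal.mem_span_singleton'.1 hv
        rw [map_add, map_mul, trunc3_max hu, htQ, zero_add, map_mul, Ideal.Quotient.factor_mk,
          Ideal.Quotient.eq_zero_iff_mem.2 (show qf c₂ ∈ J from Ideal.mem_sup_right (Ideal.mem_span_singleton_self _)), mul_zero]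
    obtain ⟨hsurjC, hkerC⟩ := trunc_completion e σ hσ hσker
    let ρ := (σ.comp (e.toRingHom.comp (algebraMap (R ⧸ Ideal.span {g}) _))).comp (Ideal.Quotient.mk (Ideal.span {g}))
    let ψ : R →ₐ[k] MvPolynomial (Fin (m + 1)) k ⧸ J :=
      { ρ with
        commutes' := fun a => by
          show σ (e (algebraMap _ _ (algebraMap k (R ⧸ Ideal.span {g}) a))) = _
          rw [he, ← MvPolynomial.coe_C]
          show Ideal.Quotient.factor (le_sup_left : mv k (m + 1) ^ 3 ≤ J) (trunc3 k (m + 1) ((C a : MvPolynomial (Fin (m + 1)) k) : MvPowerSeries (Fin (m + 1)) k)) = _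
          rw [trunc3_coe, Ideal.Quotient.factor_mk]
          rfl }
    have hψ : Function.Surjective ψ := hsurjC.comp Ideal.Quotient.mk_surjective
    have hψker : ∀ x, ψ x = 0 ↔ x ∈ maximalIdeal R ^ 3 ⊔ Ideal.span {g} := fun x => by
      rw [← Ideal.mem_quotient_iff_mem_sup, Ideal.map_pow,
        map_maximalIdeal_of_surjective (Ideal.Quotient.mk (Ideal.span {g})) Ideal.Quotient.mk_surjective, ← hkerC]
      rfl
    obtain ⟨φ, hφ⟩ := hdim
    obtain ⟨α, hα, hq, hql⟩ := transfer hφ le_sup_left hJ2 ψ hψ fun x hx => (hψker x).2 (Ideal.mem_sup_left hx)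
    have hg0 : ψ g = 0 := (hψker g).2 (Ideal.mem_sup_right (Ideal.mem_span_singleton_self g))
    have hgm : g ∈ maximalIdeal R := (mem_max_iff (hJ2.trans (Ideal.pow_le_self two_ne_zero)) ψ hψ g).2
      (hg0 ▸ zero_mem _)
    obtain ⟨p, hp, hpg⟩ := (Ideal.mem_map_iff_of_surjective _ Ideal.Quotient.mk_surjective).1
      ((mem_max_iff (Ideal.pow_le_self (by norm_num)) φ hφ.1 g).1 hgm)
    let A : (Fin (m + 1) → k) →ₗ[k] (Fin (m + 1) → k) :=
      { toFun := fun v i => ∑ l, α i l * v l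
        map_add' := fun v w => funext fun i => by simp [mul_add, Finset.sum_add_distrib]
        map_smul' := fun a v => funext fun i => by simp [Finset.mul_sum, mul_left_comm] }
    let β : (Fin (m + 1) → k) ≃ₗ[k] (Fin (m + 1) → k) := LinearEquiv.ofBijective A ⟨hα, LinearMap.injective_iff_surjective.1 hα⟩
    -- move the second quadratic form back
    obtain ⟨u, -, hu⟩ := exists_qf_comp c₂ (fun i l => β.symm (Pi.single l 1) i)
    have hu' : ∀ v, qv u (A v) = qv c₂ v := fun v => by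
      rw [hu]
      congr 1
      funext i
      have h1 : v = ∑ l, A v l • β.symm (Pi.single l 1) := by
        conv_lhs => rw [← β.symm_apply_apply v, show β v = A v from rfl, ← Finset.univ_sum_single (A v), map_sum]
        refine Finset.sum_congr rfl fun l _ => ?_
        rw [← map_smul, ← Pi.single_smul', smul_eq_mul, mul_one]
      conv_rhs => rw [h1, Finset.sum_apply]
      exact Finset.sum_congr rfl fun l _ => by rw [Pi.smul_apply, smul_eq_mul, mul_comm]
    obtain ⟨u', hu'c, hu'v⟩ := exists_qf_comp u α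
    have hu'2 : Ideal.Quotient.mk J (qf u') = 0 := by
      have : ∀ v, eval v (qf u') = eval v (qf c₂) := fun v => by rw [eval_qf, eval_qf, hu'v]; exact hu' v
      rw [Ideal.Quotient.eq_zero_iff_mem]
      rw [MvPolynomial.funext this]
      exact Ideal.mem_sup_right (Ideal.mem_span_singleton_self _)
    obtain ⟨x, hx⟩ := hφ.1 (Ideal.Quotient.mk _ (qf u))
    have hx0 : ψ x = 0 := (hq x u u' hu'c hx).trans hu'2
    obtain ⟨y, hy, z, hz, hyz⟩ := Submodule.mem_sup.1 ((hψker x).1 hx0)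
    obtain ⟨w, rfl⟩ := Ideal.mem_span_singleton'.1 hz
    obtain ⟨q, hqw⟩ := Ideal.Quotient.mk_surjective (φ w)
    have hux : qf u - q * p ∈ mv k (m + 1) ^ 3 := by
      rw [← Ideal.Quotient.eq, map_mul, hpg, hqw, ← hx, ← hyz, map_add, map_mul,
        RingHom.mem_ker.1 (hφ.2.symm ▸ hy), zero_add]
    obtain ⟨γ, hγ⟩ := exists_lin hp
    have hγ0 : γ = 0 := by
      -- the linear part of `g` is killed by an invertible substitution
      have h1 := hql g p γ hpg.symm hγ
      rw [hg0, zero_sub, neg_mem_iff, Ideal.mem_quotient_iff_mem_sup, sup_eq_left.2 hJ2] at h1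
      have h2 := lin_eq_zero_of_mem h1
      funext i
      obtain ⟨v, hv⟩ := β.surjective (Pi.single i 1)
      have h3 : ∑ a, (∑ i', γ i' * α i' a) * v a = ∑ i', γ i' * A v i' := by
        simp only [Finset.sum_mul, A, LinearMap.coe_mk, AddHom.coe_mk, Finset.mul_sum, mul_assoc]
        exact Finset.sum_comm
      rw [show A v = β v from rfl, hv] at h3
      simpa [show ∀ a, (∑ i', γ i' * α i' a) = 0 from fun a => congrFun h2 a, Pi.single_apply] using h3.symm
    subst hγ0
    have hp2 : p ∈ mv k (m + 1) ^ 2 := by simpa [lin] using hγ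
    obtain ⟨c, hc⟩ := exists_qf hp2
    refine ⟨φ, hφ, c, fun v hv => ?_, hpg.symm.trans (Ideal.Quotient.eq.2 hc)⟩
    have hq0 : qf u - qf (constantCoeff q • c) ∈ mv k (m + 1) ^ 3 := by
      rw [qf_smul, show qf u - C (constantCoeff q) * qf c = (qf u - q * p) + q * (p - qf c) +
        (q - C (constantCoeff q)) * qf c by ring]
      refine add_mem (add_mem hux (Ideal.mul_mem_left _ _ hc)) ?_
      rw [pow_succ']
      exact Ideal.mul_mem_mul (mem_mv_iff.2 (by simp)) (qf_mem c)
    have hscal : ∀ v, qv u v = constantCoeff q * qv c v := fun v => by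
      rw [qv_eq_of_sub_mem hq0]
      simp [qv, Finset.mul_sum, mul_assoc]
    obtain ⟨v, rfl⟩ := β.surjective v
    rw [hns v fun w => by rw [← hu', ← hu', hscal, hscal, map_add]; exact congrArg _ (hv (A w)), map_zero]

end Groth.Agent.LefPencil
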