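import Groth.Agent.LefPencil.LocalData
import Groth.Agent.LefPencil.Equations

/-!
# Openness of having one ordinary quadratic singular point
-/

set_option autoImplicit false

universe u

open CategoryTheory CategoryTheory.Limits AlgebraicGeometry TopologicalSpace Opposite

namespace Groth.Agent.LefPencil

attribute [local instance] LefDual.pieceAlg

variable {k : Type u} [Field k] [IsAlgClosed k] {r : ℕ} {X : Scheme.{u}} (ι : X ⟶ CohB1.ProjSpace r k)
  [IsClosedImmersion ι]

/-- Coordinates and parameters together. -/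
noncomputable def split {σ : Type*} {N : ℕ} (p : MvPolynomial (σ ⊕ Fin N) k) :
    MvPolynomial (Fin N) (MvPolynomial σ k) :=
  MvPolynomial.aeval (Sum.elim (fun s => MvPolynomial.C (MvPolynomial.X s)) MvPolynomial.X) p

omit [IsAlgClosed k] in
theorem eval_split {σ : Type*} {N : ℕ} (p : MvPolynomial (σ ⊕ Fin N) k) (a : σ → k) (x : Fin N → k) :
    MvPolynomial.eval x (MvPolynomial.map (MvPolynomial.eval a) (split p)) = MvPolynomial.eval (Sum.elim a x) p := by
  induction p using MvPolynomial.induction_on with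
  | C c => simp [split]
  | add p q hp hq => simp only [split, map_add] at hp hq ⊢; rw [hp, hq]
  | mul_X p s hp =>
    simp only [split, map_mul] at hp ⊢
    rw [hp]
    cases s <;> simp

omit [IsAlgClosed k] in
theorem eval_map_rename_inl {σ : Type*} {N : ℕ} (p : MvPolynomial (Fin N) (MvPolynomial σ k)) (a : σ → k) (x v : Fin N → k) :
    MvPolynomial.eval v (MvPolynomial.map (MvPolynomial.eval (Sum.elim a x)) (MvPolynomial.map (MvPolynomial.rename Sum.inl).toRingHom p)) =
      MvPolynomial.eval v (MvPolynomial.map (MvPolynomial.eval a) p) := by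
  rw [MvPolynomial.map_map]
  congr 2
  refine MvPolynomial.ringHom_ext (fun c => by simp [MvPolynomial.eval_rename]) fun s => by simp [MvPolynomial.eval_rename]

theorem eq_of_ker_eq {B : Type u} [CommRing B] [Algebra k B] (χ χ' : B →ₐ[k] k)
    (h : RingHom.ker χ = RingHom.ker χ') : χ = χ' := AlgHom.ext fun b => by
  have : b - algebraMap k B (χ b) ∈ RingHom.ker χ' := h ▸ (by simp [RingHom.mem_ker])
  rw [RingHom.mem_ker, map_sub, AlgHom.commutes, sub_eq_zero] at this
  exact this.symm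

/-- Being a form with one ordinary quadratic singular point is open among the singular forms. -/
theorem exists_poly_oneOrdQuad [IrreducibleSpace X] {m d : ℕ}
    [SmoothOfRelativeDimension (m + 1) (ι ≫ CohB1.ProjSpace.toSpec r k)] (G₀ : LefPen.Form r k d)
    (hG₀ : LefPen.OneOrdQuad k (m + 1) ι G₀) :
    ∃ q : MvPolynomial (ForSys.Mon r d) k, MvPolynomial.eval (ForSys.formEquiv k r d G₀) q ≠ 0 ∧
      ∀ G : LefPen.Form r k d, MvPolynomial.eval (ForSys.formEquiv k r d G) q ≠ 0 → LefDual.Bad ι G →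
        LefPen.OneOrdQuad k (m + 1) ι G := by
  classical
  haveI : Smooth (ι ≫ CohB1.ProjSpace.toSpec r k) := SmoothOfRelativeDimension.smooth (m + 1) _
  haveI := LefDual.finiteType_piece ι
  haveI : ∀ i, IsNoetherianRing Γ(X, BertiniHyp.piece ι i) := fun i => Algebra.FiniteType.isNoetherianRing k _
  obtain ⟨j, P, hP, hnd, huniq⟩ := (oneOrdQuad_iff ι G₀).1 hG₀
  obtain ⟨χ₀, hχ₀⟩ := LefDual.exists_point (k := k) P
  obtain ⟨q₁, Q, hq₁, hQ, hnond, hsep⟩ := exists_local_data ι (m := m) j P χ₀ hχ₀ G₀ hnd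
  obtain ⟨κ, _, F, e, hhom, hzero, hbadv⟩ := exists_bad_equations ι d
  have hker : ∀ {i : Fin (r + 1)} (χ : Γ(X, BertiniHyp.piece ι i) →ₐ[k] k), (RingHom.ker χ).IsMaximal := fun χ =>
    RingHom.ker_isMaximal_of_surjective χ fun c => ⟨algebraMap k _ c, χ.commutes c⟩
  have hv₀ : ∀ v : Fin (r + 1) → k, (∀ t, MvPolynomial.eval v (MvPolynomial.map (MvPolynomial.eval (ForSys.formEquiv k r d G₀)) (F t)) = 0) →
      v ≠ 0 → v j ≠ 0 ∧ (fun i => v i / v j) = fun i => χ₀ (LefDual.pcoord ι j i) := by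
    intro v hF hv
    obtain ⟨i, hi⟩ := Function.ne_iff.1 hv
    obtain ⟨χ, hχc, hχb⟩ := hbadv G₀ v hF i hi
    have hx := huniq _ ⟨i, _, hker χ, rfl, hχb⟩
    have h1 := (pt_mem_piece_iff ι i j _ (hker χ)).1 (hx ▸ pt_mem ι j _)
    rw [RingHom.mem_ker, hχc] at h1
    have hj : v j ≠ 0 := fun h => h1 (by rw [h, zero_div])
    obtain ⟨χ', hχ'c, hχ'b⟩ := hbadv G₀ v hF j hj
    have h2 := congrArg PrimeSpectrum.asIdeal (pt_injective ι j (huniq _ ⟨j, _, hker χ', rfl, hχ'b⟩))
    have h3 : χ' = χ₀ := eq_of_ker_eq χ' χ₀ (h2.trans (Ideal.ext fun b => hχ₀ b))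
    exact ⟨hj, funext fun i => by rw [← hχ'c, h3]⟩
  -- separation
  let F₁ : κ ⊕ Unit → MvPolynomial (Fin (r + 1)) (MvPolynomial (ForSys.Mon r d ⊕ Fin (r + 1)) k) :=
    Sum.elim (fun t => MvPolynomial.map (MvPolynomial.rename Sum.inl).toRingHom (F t)) fun _ => LefDual.homMul j Q
  obtain ⟨q₂, hq₂, hq₂'⟩ := LefDual.exists_poly_no_zero F₁ (Sum.elim e fun _ => Q.totalDegree + 1)
    (fun t => by
      rcases t with t | t
      · exact (hhom t).map _
      · exact LefDual.isHomogeneous_homMul j Q)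
    (Sum.elim (ForSys.formEquiv k r d G₀) fun i => χ₀ (LefDual.pcoord ι j i)) fun v hv => by
      by_contra hv0
      obtain ⟨hj, hx⟩ := hv₀ v (fun t => (eval_map_rename_inl _ _ _ _).symm.trans (hv (Sum.inl t))) hv0
      have h1 := hv (Sum.inr ())
      simp only [F₁, Sum.elim_inr, LefDual.eval_homMul, if_neg hj, mul_eq_zero] at h1
      refine h1.elim (pow_ne_zero _ hj) fun h1 => hQ ?_
      rw [← hx]
      simpa [ev₂, MvPolynomial.eval_map, hx] using h1
  let F₂ : κ ⊕ Unit → MvPolynomial (Fin (r + 1)) (MvPolynomial (ForSys.Mon r d) k) :=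
    Sum.elim F fun _ => LefDual.homMul j (split (q₁ * q₂))
  obtain ⟨q₃, hq₃, hq₃'⟩ := LefDual.exists_poly_no_zero F₂ (Sum.elim e fun _ => (split (q₁ * q₂)).totalDegree + 1)
    (fun t => by
      rcases t with t | t
      · exact hhom t
      · exact LefDual.isHomogeneous_homMul j _)
    (ForSys.formEquiv k r d G₀) fun v hv => by
      by_contra hv0
      obtain ⟨hj, hx⟩ := hv₀ v (fun t => hv (Sum.inl t)) hv0
      have h1 := hv (Sum.inr ())
      simp only [F₂, Sum.elim_inr, LefDual.eval_homMul, if_neg hj, mul_eq_zero] at h1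
      refine h1.elim (pow_ne_zero _ hj) fun h1 => ?_
      rw [hx, ← MvPolynomial.eval_map, eval_split, map_mul] at h1
      exact mul_ne_zero hq₁ hq₂ h1
  refine ⟨q₃, hq₃, fun G hG hbad => ?_⟩
  have hall : ∀ x, BadAt ι G x → ∃ χ : Γ(X, BertiniHyp.piece ι j) →ₐ[k] k,
      x = pt ι j ⟨RingHom.ker χ, (hker χ).isPrime⟩ ∧ LefDual.pform ι j G ∈ RingHom.ker χ ^ 2 ∧
      MvPolynomial.eval (Sum.elim (ForSys.formEquiv k r d G) fun i => χ (LefDual.pcoord ι j i)) (q₁ * q₂) ≠ 0 := by
    intro x hx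
    have hne : ∀ (i : Fin (r + 1)) (χ : Γ(X, BertiniHyp.piece ι i) →ₐ[k] k), LefDual.pform ι i G ∈ RingHom.ker χ ^ 2 →
        MvPolynomial.eval (fun l => χ (LefDual.pcoord ι i l))
          (MvPolynomial.map (MvPolynomial.eval (ForSys.formEquiv k r d G)) (LefDual.homMul j (split (q₁ * q₂)))) ≠ 0 := by
      intro i χ hχ h0
      have := congrFun (hq₃' _ hG (fun l => χ (LefDual.pcoord ι i l)) fun t => by
        rcases t with t | t
        · exact hzero G i χ hχ t
        · exact h0) i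
      simp [LefDual.pcoord_self] at this
    have hx' := hx
    obtain ⟨i, R, hR, rfl, hbadR⟩ := hx
    obtain ⟨χ, hχ⟩ := LefDual.exists_point (k := k) R
    obtain rfl : RingHom.ker χ = R := Ideal.ext fun b => (hχ b).symm
    have h1 := hne i χ hbadR
    rw [LefDual.eval_homMul] at h1
    split_ifs at h1 with hj
    · exact absurd rfl h1
    have hmem := (pt_mem_piece_iff ι i j _ hR).2 hj
    obtain ⟨R', hR', hxR⟩ := exists_pt ι hmem (pt_isClosed ι i _ hR)
    obtain ⟨χ', hχ'⟩ := LefDual.exists_point (k := k) R'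
    obtain rfl : RingHom.ker χ' = R' := Ideal.ext fun b => (hχ' b).symm
    have hb' : LefDual.pform ι j G ∈ RingHom.ker χ' ^ 2 := BadAt.mem_sq ι (hP := hR') (hxR.symm ▸ hx')
    refine ⟨χ', hxR.symm, hb', ?_⟩
    have h2 := hne j χ' hb'
    rw [LefDual.eval_homMul] at h2
    simp only [LefDual.pcoord_self, map_one, one_ne_zero, if_false, one_pow, one_mul, div_one, ← MvPolynomial.eval_map] at h2
    rwa [eval_split] at h2
  obtain ⟨i, R, hR, hbadR⟩ := hbad
  obtain ⟨χ, -, hχb, hχne⟩ := hall (pt ι i ⟨R, hR.isPrime⟩) ⟨i, R, hR, rfl, hbadR⟩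
  rw [map_mul, mul_ne_zero_iff] at hχne
  refine (oneOrdQuad_iff ι G).2 ⟨j, RingHom.ker χ, hker χ, ?_, fun y hy => ?_⟩
  · haveI := hker χ
    exact hnond G _ χ (fun b => RingHom.mem_ker) hχb hχne.1
  · obtain ⟨χ', hy', hχ'b, -⟩ := hall y hy
    rw [hy']
    have : χ = χ' := hsep G χ χ' hχb hχ'b hχne.1 fun h0 => by
      have := congrFun (hq₂' _ hχne.2 (fun l => χ' (LefDual.pcoord ι j l)) fun t => by
        rcases t with t | t
        · exact (eval_map_rename_inl _ _ _ _).trans (hzero G j χ' hχ'b t)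
        · show MvPolynomial.eval _ (MvPolynomial.map _ (LefDual.homMul j Q)) = 0
          rw [LefDual.eval_homMul]
          simp only [LefDual.pcoord_self, map_one, one_ne_zero, if_false, one_pow, one_mul, div_one, ← MvPolynomial.eval_map]
          exact h0) j
      simp [LefDual.pcoord_self] at this
    subst this
    rfl

end Groth.Agent.LefPencil
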