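import Groth.Agent.ComplDeriv.PowerSeries
import Mathlib.RingTheory.MvPolynomial.Ideal
import Mathlib.RingTheory.MvPowerSeries.Equiv
import Mathlib.LinearAlgebra.FiniteDimensional.Lemmas

/-!
# Quadratic forms and truncated power series
-/

set_option autoImplicit false

universe u

namespace Groth.Agent.LefPencil

open MvPolynomial

variable {k : Type u} [Field k] {n d : ℕ}

/-- The ideal of the variables. -/
noncomputable abbrev mv (k : Type u) [Field k] (n : ℕ) : Ideal (MvPolynomial (Fin n) k) := idealOfVars (Fin n) k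

/-- A quadratic form from a matrix. -/
noncomputable def qf (c : Fin n → Fin n → k) : MvPolynomial (Fin n) k := ∑ i, ∑ l, C (c i l) * (X i * X l)

/-- A linear form. -/
noncomputable def lin (α : Fin n → k) : MvPolynomial (Fin n) k := ∑ i, C (α i) * X i

/-- The value of a quadratic form. -/
def qv {A : Type*} [CommRing A] (c : Fin n → Fin n → A) (v : Fin n → A) : A := ∑ i, ∑ l, c i l * (v i * v l)

/-- A quadratic form is non-singular if only zero is a singular vector. -/
def NonSing (c : Fin n → Fin n → k) : Prop := ∀ v, (∀ w, qv c (v + w) = qv c w) → v = 0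

theorem eval_qf (c : Fin n → Fin n → k) (v : Fin n → k) : eval v (qf c) = qv c v := by
  simp [qf, qv, map_sum]

theorem qf_isHomogeneous (c : Fin n → Fin n → k) : (qf c).IsHomogeneous 2 :=
  IsHomogeneous.sum _ _ _ fun i _ => IsHomogeneous.sum _ _ _ fun l _ => by
    simpa using (isHomogeneous_C _ (c i l)).mul ((isHomogeneous_X k i).mul (isHomogeneous_X k l))

theorem qv_add {A : Type*} [CommRing A] (c : Fin n → Fin n → A) (v w : Fin n → A) :
    qv c (v + w) = qv c v + qv c w + ∑ i, ∑ l, c i l * (v i * w l + w i * v l) := by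
  simp only [qv, ← Finset.sum_add_distrib]
  exact Finset.sum_congr rfl fun i _ => Finset.sum_congr rfl fun l _ => by simp only [Pi.add_apply]; ring

theorem X_mem (i : Fin n) : (X i : MvPolynomial (Fin n) k) ∈ mv k n := Ideal.subset_span ⟨i, rfl⟩

theorem lin_mem (α : Fin n → k) : lin α ∈ mv k n :=
  Submodule.sum_mem _ fun i _ => Ideal.mul_mem_left _ _ (X_mem i)

theorem qf_mem (c : Fin n → Fin n → k) : qf c ∈ mv k n ^ 2 :=
  Submodule.sum_mem _ fun i _ => Submodule.sum_mem _ fun l _ => Ideal.mul_mem_left _ _ (by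
    rw [pow_two]; exact Ideal.mul_mem_mul (X_mem i) (X_mem l))

theorem eq_zero_of_homogeneous {p : MvPolynomial (Fin n) k} {e N : ℕ} (hp : p.IsHomogeneous e)
    (h : p ∈ mv k n ^ N) (he : e < N) : p = 0 := by
  ext s
  rw [coeff_zero]
  by_cases hs : s.degree = e
  · exact (mem_pow_idealOfVars_iff' N p).1 h s (by omega)
  · exact hp.coeff_eq_zero hs

theorem qv_eq_of_sub_mem {c c' : Fin n → Fin n → k} (h : qf c - qf c' ∈ mv k n ^ 3) (v : Fin n → k) :
    qv c v = qv c' v := by
  rw [← eval_qf, ← eval_qf, sub_eq_zero.1 (eq_zero_of_homogeneous ((qf_isHomogeneous c).sub (qf_isHomogeneous c')) h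
    (by norm_num))]

theorem lin_eq_zero_of_mem {α : Fin n → k} (h : lin α ∈ mv k n ^ 2) : α = 0 := by
  funext i
  have h1 := eq_zero_of_homogeneous (IsHomogeneous.sum _ _ 1 fun i _ => by
    simpa using (isHomogeneous_C _ (α i)).mul (isHomogeneous_X k i)) h (by norm_num)
  have h2 := congrArg (eval (Pi.single i 1)) h1
  simpa [lin, Pi.single_apply] using h2

theorem exists_lin {p : MvPolynomial (Fin n) k} (hp : p ∈ mv k n) : ∃ α, p - lin α ∈ mv k n ^ 2 := by
  induction hp using Submodule.span_induction with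
  | mem x hx =>
    obtain ⟨i, rfl⟩ := hx
    exact ⟨Pi.single i 1, by simp [lin, Pi.single_apply, apply_ite (C : k → MvPolynomial (Fin n) k)]⟩
  | zero => exact ⟨0, by simp [lin]⟩
  | add x y _ _ hx hy =>
    obtain ⟨α, hα⟩ := hx
    obtain ⟨β, hβ⟩ := hy
    refine ⟨α + β, ?_⟩
    rw [show lin (α + β) = lin α + lin β by simp [lin, add_mul, Finset.sum_add_distrib]]
    convert add_mem hα hβ using 1
    ring
  | smul a x _ hx =>
    obtain ⟨α, hα⟩ := hx
    refine ⟨constantCoeff a • α, ?_⟩
    rw [show lin (constantCoeff a • α) = C (constantCoeff a) * lin α by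
      simp [lin, Finset.mul_sum, mul_assoc]]
    have ha : a - C (constantCoeff a) ∈ mv k n := by
      rw [← pow_one (mv k n), mem_pow_idealOfVars_iff']
      intro s hs
      rw [Nat.lt_one_iff, Finsupp.degree_eq_zero_iff] at hs
      simp [hs, constantCoeff_eq]
    rw [show a • x - C (constantCoeff a) * lin α = a * (x - lin α) + (a - C (constantCoeff a)) * lin α by
      rw [smul_eq_mul]; ring]
    exact add_mem (Ideal.mul_mem_left _ _ hα) (by rw [pow_two]; exact Ideal.mul_mem_mul ha (lin_mem α))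

theorem exists_qf {p : MvPolynomial (Fin n) k} (hp : p ∈ mv k n ^ 2) : ∃ c, p - qf c ∈ mv k n ^ 3 := by
  rw [pow_two] at hp
  induction hp using Submodule.mul_induction_on' with
  | mem_mul_mem a ha b hb =>
    obtain ⟨α, hα⟩ := exists_lin ha
    obtain ⟨β, hβ⟩ := exists_lin hb
    refine ⟨fun i l => α i * β l, ?_⟩
    have : qf (fun i l => α i * β l) = lin α * lin β := by
      simp only [qf, lin, Finset.sum_mul_sum, map_mul]
      exact Finset.sum_congr rfl fun i _ => Finset.sum_congr rfl fun l _ => by ring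
    rw [this, show a * b - lin α * lin β = (a - lin α) * b + lin α * (b - lin β) by ring]
    refine add_mem ?_ ?_
    · rw [pow_succ]; exact Ideal.mul_mem_mul hα hb
    · rw [pow_succ']; exact Ideal.mul_mem_mul (lin_mem α) hβ
  | add x _ y _ hx hy =>
    obtain ⟨c, hc⟩ := hx
    obtain ⟨c', hc'⟩ := hy
    refine ⟨c + c', ?_⟩
    rw [show qf (c + c') = qf c + qf c' by simp [qf, add_mul, Finset.sum_add_distrib]]
    convert add_mem hc hc' using 1
    ring

theorem eval_lin (α : Fin n → k) (v : Fin n → k) : eval v (lin α) = ∑ i, α i * v i := by simp [lin]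

theorem qf_sum {τ : Type*} (s : Finset τ) (c : τ → Fin n → Fin n → k) :
    qf (∑ t ∈ s, c t) = ∑ t ∈ s, qf (c t) := by
  classical
  induction s using Finset.induction with
  | empty => simp [qf]
  | insert a s ha ih =>
    rw [Finset.sum_insert ha, Finset.sum_insert ha, ← ih]
    simp [qf, add_mul, Finset.sum_add_distrib]

theorem qf_smul (a : k) (c : Fin n → Fin n → k) : qf (a • c) = C a * qf c := by
  simp [qf, Finset.mul_sum, mul_assoc]

theorem lin_mul_lin (α β : Fin n → k) : lin α * lin β = qf fun i l => α i * β l := by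
  simp only [qf, lin, Finset.sum_mul_sum, map_mul]
  exact Finset.sum_congr rfl fun i _ => Finset.sum_congr rfl fun l _ => by ring

/-- Substituting linear forms into a quadratic form. -/
theorem exists_qf_comp (c : Fin n → Fin n → k) (α : Fin n → Fin d → k) :
    ∃ c' : Fin d → Fin d → k, ∑ i, ∑ l, C (c i l) * (lin (α i) * lin (α l)) = qf c' ∧
      ∀ v, qv c' v = qv c fun i => ∑ l, α i l * v l := by
  let c' : Fin d → Fin d → k := ∑ i, ∑ l, c i l • fun a b => α i a * α l b
  have h1 : ∑ i, ∑ l, C (c i l) * (lin (α i) * lin (α l)) = qf c' := by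
    rw [qf_sum]
    refine Finset.sum_congr rfl fun i _ => ?_
    rw [qf_sum]
    exact Finset.sum_congr rfl fun l _ => by rw [qf_smul, lin_mul_lin]
  refine ⟨c', h1, fun v => ?_⟩
  rw [← eval_qf, ← h1]
  simp only [map_sum, map_mul, eval_C, eval_lin]
  rfl

/-- Truncation of a power series. -/
noncomputable def trunc3 (k : Type u) [Field k] (n : ℕ) :
    MvPowerSeries (Fin n) k →ₐ[k] MvPolynomial (Fin n) k ⧸ mv k n ^ 3 :=
  ((AdicCompletion.evalₐ (mv k n) 3).comp
    (MvPowerSeries.toAdicCompletionAlgEquiv (Fin n) k).toAlgHom).restrictScalars k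

theorem trunc3_coe (p : MvPolynomial (Fin n) k) :
    trunc3 k n (p : MvPowerSeries (Fin n) k) = Ideal.Quotient.mk _ p := by
  show AdicCompletion.evalₐ (mv k n) 3 (MvPowerSeries.toAdicCompletion (Fin n) k (p : MvPowerSeries (Fin n) k)) = _
  rw [MvPowerSeries.toAdicCompletion_coe, AdicCompletion.evalₐ_of]

theorem trunc3_max {x : MvPowerSeries (Fin n) k} (hx : x ∈ IsLocalRing.maximalIdeal _ ^ 3) : trunc3 k n x = 0 := by
  have h := Ideal.mem_map_of_mem (trunc3 k n) hx
  rw [Ideal.map_pow, ← ComplDeriv.span_X_eq_maximalIdeal, Ideal.map_span] at h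
  have hle : Ideal.span ((trunc3 k n) '' Set.range MvPowerSeries.X) ≤ (mv k n).map (Ideal.Quotient.mk (mv k n ^ 3)) :=
    Ideal.span_le.2 (by
      rintro _ ⟨_, ⟨i, rfl⟩, rfl⟩
      rw [← MvPolynomial.coe_X, trunc3_coe]
      exact Ideal.mem_map_of_mem _ (X_mem i))
  have h' := Ideal.pow_right_mono hle 3 h
  rwa [← Ideal.map_pow, Ideal.map_quotient_self, Ideal.mem_bot] at h'

theorem sub_truncTotal_mem (x : MvPowerSeries (Fin n) k) :
    x - (MvPowerSeries.truncTotal 3 x : MvPowerSeries (Fin n) k) ∈ IsLocalRing.maximalIdeal _ ^ 3 := by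
  rw [← ComplDeriv.span_X_eq_maximalIdeal]
  let I := MvPolynomial.idealOfVars (Fin n) k
  let τ := MvPowerSeries.toAdicCompletionAlgEquiv (Fin n) k
  have h0 : AdicCompletion.eval I _ 3 (τ (x - (MvPowerSeries.truncTotal 3 x : MvPowerSeries (Fin n) k))) = 0 := by
    rw [map_sub, map_sub, sub_eq_zero]
    show (MvPowerSeries.toAdicCompletion (Fin n) k x).val 3 =
      (MvPowerSeries.toAdicCompletion (Fin n) k (MvPowerSeries.truncTotal 3 x : MvPowerSeries (Fin n) k)).val 3
    rw [MvPowerSeries.toAdicCompletion_apply_eq_mk_truncTotal, MvPowerSeries.toAdicCompletion_coe]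
    rfl
  rw [← LinearMap.mem_ker, ← AdicCompletion.pow_smul_top_eq_ker_eval (MvPolynomial.idealOfVars_fg _ _),
    Ideal.smul_top_eq_map] at h0
  have h2 := Ideal.mem_map_of_mem τ.symm (show τ (x - (MvPowerSeries.truncTotal 3 x : MvPowerSeries (Fin n) k)) ∈
    (I ^ 3).map (algebraMap (MvPolynomial (Fin n) k) (AdicCompletion I (MvPolynomial (Fin n) k))) from h0)
  rw [AlgEquiv.symm_apply_apply, Ideal.map_pow, Ideal.map_pow] at h2
  refine Ideal.pow_right_mono (Ideal.map_le_iff_le_comap.mpr (Ideal.map_le_iff_le_comap.mpr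
    (Ideal.span_le.mpr ?_))) 3 h2
  rintro _ ⟨i, rfl⟩
  show τ.symm (algebraMap (MvPolynomial (Fin n) k) _ (MvPolynomial.X i)) ∈ Ideal.span (Set.range MvPowerSeries.X)
  rw [show τ.symm (algebraMap (MvPolynomial (Fin n) k) _ (MvPolynomial.X i)) = MvPowerSeries.X i from
    τ.symm_apply_eq.mpr (by rw [← MvPolynomial.coe_X]; exact (MvPowerSeries.toAdicCompletion_coe _).symm)]
  exact Ideal.subset_span ⟨i, rfl⟩

theorem trunc3_eq (x : MvPowerSeries (Fin n) k) :
    trunc3 k n x = Ideal.Quotient.mk _ (MvPowerSeries.truncTotal 3 x) := by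
  rw [← trunc3_coe, ← sub_eq_zero, ← map_sub]
  exact trunc3_max (sub_truncTotal_mem x)

theorem trunc3_ker : RingHom.ker (trunc3 k n) = IsLocalRing.maximalIdeal _ ^ 3 := by
  refine le_antisymm (fun x hx => ?_) fun x hx => trunc3_max hx
  rw [RingHom.mem_ker, trunc3_eq, Ideal.Quotient.eq_zero_iff_mem] at hx
  have h := sub_truncTotal_mem x
  have h2 := Ideal.mem_map_of_mem (MvPolynomial.coeToMvPowerSeries.ringHom (σ := Fin n) (R := k)) hx
  rw [Ideal.map_pow] at h2
  have h3 : (MvPowerSeries.truncTotal 3 x : MvPowerSeries (Fin n) k) ∈ IsLocalRing.maximalIdeal _ ^ 3 :=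
    Ideal.pow_right_mono (Ideal.map_le_iff_le_comap.2 (Ideal.span_le.2 (by
      rintro _ ⟨i, rfl⟩
      show ((X i : MvPolynomial (Fin n) k) : MvPowerSeries (Fin n) k) ∈ IsLocalRing.maximalIdeal (MvPowerSeries (Fin n) k)
      rw [MvPolynomial.coe_X, ← ComplDeriv.span_X_eq_maximalIdeal]
      exact Ideal.subset_span ⟨i, rfl⟩))) 3 h2
  simpa using add_mem h h3

theorem trunc3_surjective : Function.Surjective (trunc3 k n) := fun y => by
  obtain ⟨p, rfl⟩ := Ideal.Quotient.mk_surjective y
  exact ⟨p, trunc3_coe p⟩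

theorem trunc3_eq_qf_iff (x : MvPowerSeries (Fin n) k) (c : Fin n → Fin n → k) :
    trunc3 k n x = Ideal.Quotient.mk _ (qf c) ↔
      ∀ e : Fin n →₀ ℕ, e.degree < 3 → MvPowerSeries.coeff e x = coeff e (qf c) := by
  rw [trunc3_eq, Ideal.Quotient.eq, mem_pow_idealOfVars_iff']
  refine forall₂_congr fun e he => ?_
  rw [coeff_sub, sub_eq_zero, MvPowerSeries.coeff_truncTotal _ he]

end Groth.Agent.LefPencil
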