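import Groth.Agent.LefPencil.BertiniJets
import Groth.Agent.LefPencil.Exists
import Groth.Agent.LefPencil.BaseLocus

/-!
# Jets of forms singular at a given point
-/

set_option autoImplicit false

universe u

open CategoryTheory CategoryTheory.Limits AlgebraicGeometry TopologicalSpace Opposite

namespace Groth.Agent.LefPencil

attribute [local instance] LefDual.pieceAlg

variable {k : Type u} [Field k] {r : ℕ} {X : Scheme.{u}} (ι : X ⟶ CohB1.ProjSpace r k)

/-- Restriction to a piece, as a linear map. -/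
noncomputable def pformL (d : ℕ) (i : Fin (r + 1)) : LefPen.Form r k d →ₗ[k] Γ(X, BertiniHyp.piece ι i) :=
  (MvPolynomial.aeval (R := k) (LefDual.pcoord ι i)).toLinearMap.comp (CohB1.polyGrading r k d).subtype

theorem pformL_apply {d : ℕ} (i : Fin (r + 1)) (G : LefPen.Form r k d) : pformL ι d i G = LefDual.pform ι i G :=
  (LefDual.pform_eq_aeval ι i G).symm

/-- A coordinate form. -/
noncomputable def xform (k : Type u) [Field k] (r : ℕ) (i : Fin (r + 1)) : LefPen.Form r k 1 :=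
  ⟨MvPolynomial.X i, ProjPoint.X_mem i⟩

theorem pform_xform (i m : Fin (r + 1)) : LefDual.pform ι i (xform k r m) = LefDual.pcoord ι i m := by
  rw [LefDual.pform_eq_aeval]; simp [xform]

/-- A product of a power of a linear form with a linear form. -/
noncomputable def powMul {d : ℕ} (hd : 1 ≤ d) (ℓ₀ ℓ : LefPen.Form r k 1) : LefPen.Form r k d :=
  ⟨ℓ₀.1 ^ (d - 1) * ℓ.1, by
    have h := ((show ℓ₀.1.IsHomogeneous 1 from ℓ₀.2).pow (d - 1)).mul (show ℓ.1.IsHomogeneous 1 from ℓ.2)
    rwa [one_mul, Nat.sub_add_cancel hd] at h⟩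

theorem pform_powMul {d : ℕ} (hd : 1 ≤ d) (i : Fin (r + 1)) (ℓ₀ ℓ : LefPen.Form r k 1) :
    LefDual.pform ι i (powMul hd ℓ₀ ℓ) = LefDual.pform ι i ℓ₀ ^ (d - 1) * LefDual.pform ι i ℓ := by
  simp only [LefDual.pform_eq_aeval, powMul, map_mul, map_pow]

section Jets

variable {S : Type u} [CommRing S] [Algebra k S] {n : ℕ} (b : Module.Basis (Fin n) S Ω[S⁄k]) (χ : S →ₐ[k] k)

/-- The jet of a function at a point. -/
noncomputable def jetOf : S →ₗ[k] (Option (Fin n) → k) where
  toFun y o := o.elim (χ y) fun t => χ (pd b y t)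
  map_add' x y := funext fun o => by cases o <;> simp [pd, map_add]
  map_smul' c y := funext fun o => by
    cases o with
    | none => simp
    | some t =>
      simp only [Option.elim_some, pd, Derivation.map_smul, RingHom.id_apply, Pi.smul_apply, smul_eq_mul]
      rw [← algebraMap_smul S c (KaehlerDifferential.D k S y), map_smul, Finsupp.smul_apply, smul_eq_mul, map_mul, AlgHom.commutes]
      rfl

theorem jetOf_none (y : S) : jetOf b χ y none = χ y := rfl

theorem jetOf_some (y : S) (t : Fin n) : jetOf b χ y (some t) = χ (pd b y t) := rfl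

theorem jetOf_mem_sq {y : S} (h : y ∈ RingHom.ker χ ^ 2) : jetOf b χ y = 0 := by
  funext o
  rw [pow_two] at h
  induction h using Submodule.mul_induction_on' with
  | mem_mul_mem p hp q hq =>
    rw [RingHom.mem_ker] at hp hq
    cases o with
    | none => simp [jetOf_none, hp]
    | some t => simp [jetOf_some, pd, Derivation.leibniz, hp, hq]
  | add p _ q _ hp hq => simp [map_add, hp, hq]

theorem jetOf_pow_mul {e : ℕ} (x y : S) (hx : χ x = 1) :
    jetOf b χ (x ^ e * y) = fun o => o.elim (jetOf b χ y none) fun t =>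
      jetOf b χ y (some t) + e * (jetOf b χ y none * jetOf b χ x (some t)) := by
  funext o
  cases o with
  | none => simp [jetOf_none, hx]
  | some t =>
    simp only [Option.elim_some, jetOf_some, jetOf_none, pd, Derivation.leibniz, Derivation.leibniz_pow, map_add, map_smul,
      map_nsmul, Finsupp.add_apply, Finsupp.smul_apply, smul_eq_mul, nsmul_eq_mul, map_mul, map_pow, map_natCast, hx, one_pow,
      one_mul]
    ring

variable {i : Fin (r + 1)} [Algebra Γ(X, BertiniHyp.piece ι i) S] [IsScalarTower k Γ(X, BertiniHyp.piece ι i) S]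
  (σ : Fin n → Fin (r + 1))

/-- A linear form with given jet. -/
noncomputable def secForm : (Option (Fin n) → k) →ₗ[k] LefPen.Form r k 1 where
  toFun u := u none • xform k r i + ∑ t, u (some t) •
    (xform k r (σ t) - χ (algebraMap _ S (LefDual.pcoord ι i (σ t))) • xform k r i)
  map_add' u v := by simp only [Pi.add_apply, add_smul, Finset.sum_add_distrib]; abel
  map_smul' c u := by simp only [Pi.smul_apply, smul_add, Finset.smul_sum, smul_smul, smul_eq_mul, RingHom.id_apply]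

theorem jetOf_secForm (hb : ∀ t, b t = KaehlerDifferential.D k S (algebraMap _ S (LefDual.pcoord ι i (σ t))))
    (u : Option (Fin n) → k) : jetOf b χ (algebraMap _ S (LefDual.pform ι i (secForm ι (i := i) χ σ u))) = u := by
  classical
  have e : algebraMap _ S (LefDual.pform ι i (secForm ι (i := i) χ σ u)) = algebraMap k S (u none) +
      ∑ t, algebraMap k S (u (some t)) * (algebraMap _ S (LefDual.pcoord ι i (σ t)) -
        algebraMap k S (χ (algebraMap _ S (LefDual.pcoord ι i (σ t))))) := by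
    rw [← pformL_apply]
    simp only [secForm, LinearMap.coe_mk, AddHom.coe_mk, map_add, map_sum, map_smul, map_sub, pformL_apply, pform_xform,
      LefDual.pcoord_self, Algebra.smul_def, map_mul, mul_one, map_one, ← IsScalarTower.algebraMap_apply]
  rw [e]
  funext o
  cases o with
  | none => simp [jetOf_none]
  | some t =>
    simp [jetOf_some, pd, Derivation.leibniz, ← hb]
    refine (Finset.sum_congr rfl fun x _ => ?_).trans (Fintype.sum_ite_eq' t fun x => u (some x))
    rw [← algebraMap_smul S (u (some x)) (b x), map_smul, Finsupp.smul_apply, smul_eq_mul, map_mul, AlgHom.commutes,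
      b.repr_self, Finsupp.single_apply]
    split_ifs <;> simp

variable {j₀ : Fin (r + 1)} (P₀ : Ideal Γ(X, BertiniHyp.piece ι j₀)) {d : ℕ}

/-- A form singular at the given point with given jet, from a linear form with the corrected jet. -/
theorem exists_form_jet (hd : 2 ≤ d) (hb : ∀ t, b t = KaehlerDifferential.D k S (algebraMap _ S (LefDual.pcoord ι i (σ t))))
    (ℓ₀ : LefPen.Form r k 1) (h₀ : LefDual.pform ι j₀ ℓ₀ ∈ P₀) (h₁ : χ (algebraMap _ S (LefDual.pform ι i ℓ₀)) = 1)
    (u : Option (Fin n) → k)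
    (hu : ∀ v, (∀ o, v o = o.elim (u none) fun t =>
        u (some t) - (d - 1 : ℕ) * (u none * jetOf b χ (algebraMap _ S (LefDual.pform ι i ℓ₀)) (some t))) →
      ∃ ℓ : LefPen.Form r k 1, (LefDual.pform ι j₀ ℓ ∈ P₀ ∨ 3 ≤ d) ∧ jetOf b χ (algebraMap _ S (LefDual.pform ι i ℓ)) = v) :
    ∃ G : LefPen.Form r k d, LefDual.pform ι j₀ G ∈ P₀ ^ 2 ∧ jetOf b χ (algebraMap _ S (LefDual.pform ι i G)) = u := by
  obtain ⟨ℓ, hℓ, hjet⟩ := hu _ fun o => rfl
  refine ⟨powMul (by omega) ℓ₀ ℓ, ?_, ?_⟩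
  · rw [pform_powMul]
    rcases hℓ with hℓ | hd3
    · refine Ideal.pow_le_pow_right (show 2 ≤ d - 1 + 1 by omega) ?_
      rw [pow_succ]
      exact Ideal.mul_mem_mul (Ideal.pow_mem_pow h₀ _) hℓ
    · exact Ideal.mul_mem_right _ _ (Ideal.pow_le_pow_right (show 2 ≤ d - 1 by omega) (Ideal.pow_mem_pow h₀ _))
  · rw [pform_powMul, map_mul, map_pow, jetOf_pow_mul b χ _ _ h₁, hjet]
    funext o
    cases o with
    | none => rfl
    | some t => simp only [Option.elim_some, Option.elim_none]; ring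

/-- The jets of the forms singular at the given point miss at most one condition elsewhere. -/
theorem exists_hyperplane_jets (hd : 2 ≤ d) (χ₀ : Γ(X, BertiniHyp.piece ι j₀) →ₐ[k] k) (hχ₀ : ∀ a, a ∈ P₀ ↔ χ₀ a = 0)
    (hb : ∀ t, b t = KaehlerDifferential.D k S (algebraMap _ S (LefDual.pcoord ι i (σ t))))
    (ℓ₀ : LefPen.Form r k 1) (h₀ : LefDual.pform ι j₀ ℓ₀ ∈ P₀) (h₁ : χ (algebraMap _ S (LefDual.pform ι i ℓ₀)) = 1) :
    ∃ μ : (Option (Fin n) → k) →ₗ[k] k, μ ≠ 0 ∧ ∀ u, μ u = 0 →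
      ∃ G : LefPen.Form r k d, LefDual.pform ι j₀ G ∈ P₀ ^ 2 ∧ jetOf b χ (algebraMap _ S (LefDual.pform ι i G)) = u := by
  classical
  let a : Fin n → k := fun t => jetOf b χ (algebraMap _ S (LefDual.pform ι i ℓ₀)) (some t)
  let T : (Option (Fin n) → k) →ₗ[k] (Option (Fin n) → k) :=
    { toFun := fun u o => o.elim (u none) fun t => u (some t) - (d - 1 : ℕ) * (u none * a t)
      map_add' := fun u v => funext fun o => by cases o <;> simp; ring
      map_smul' := fun c u => funext fun o => by cases o <;> simp; ring }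
  have hT : ∀ v, ∃ u, T u = v := fun v => ⟨fun o => o.elim (v none) fun t => v (some t) + (d - 1 : ℕ) * (v none * a t),
    funext fun o => by cases o <;> simp [T]⟩
  let φ : (Option (Fin n) → k) →ₗ[k] k :=
    χ₀.toLinearMap.comp ((pformL ι 1 j₀).comp (secForm ι (i := i) χ σ))
  obtain ⟨μ₁, hμ₁, hμ₁'⟩ : ∃ μ₁ : (Option (Fin n) → k) →ₗ[k] k, μ₁ ≠ 0 ∧
      ∀ v, μ₁ v = 0 → LefDual.pform ι j₀ (secForm ι (i := i) χ σ v) ∈ P₀ := by
    by_cases hφ : φ = 0
    · refine ⟨LinearMap.proj none, fun h => ?_, fun v _ => (hχ₀ _).2 ?_⟩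
      · simpa using LinearMap.congr_fun h (fun _ => 1)
      · have := LinearMap.congr_fun hφ v
        simpa [φ, pformL_apply] using this
    · exact ⟨φ, hφ, fun v hv => (hχ₀ _).2 (by simpa [φ, pformL_apply] using hv)⟩
  refine ⟨μ₁.comp T, fun h => hμ₁ (LinearMap.ext fun v => ?_), fun u hu => ?_⟩
  · obtain ⟨u, rfl⟩ := hT v
    exact LinearMap.congr_fun h u
  · refine exists_form_jet ι b χ σ P₀ hd hb ℓ₀ h₀ h₁ u fun v hv => ?_
    obtain rfl : v = T u := funext hv
    exact ⟨secForm ι (i := i) χ σ (T u), Or.inl (hμ₁' _ hu), jetOf_secForm ι (i := i) b χ σ hb _⟩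

/-- Where the jets are surjective. -/
theorem exists_full_jets (hd : 2 ≤ d) (χ₀ : Γ(X, BertiniHyp.piece ι j₀) →ₐ[k] k) (hχ₀ : ∀ a, a ∈ P₀ ↔ χ₀ a = 0)
    (hb : ∀ t, b t = KaehlerDifferential.D k S (algebraMap _ S (LefDual.pcoord ι i (σ t))))
    (ℓ₀ : LefPen.Form r k 1) (h₀ : LefDual.pform ι j₀ ℓ₀ ∈ P₀) (h₁ : χ (algebraMap _ S (LefDual.pform ι i ℓ₀)) = 1)
    (hw : 3 ≤ d ∨ ∃ ℓ : LefPen.Form r k 1, LefDual.pform ι j₀ ℓ ∉ P₀ ∧ jetOf b χ (algebraMap _ S (LefDual.pform ι i ℓ)) = 0)
    (u : Option (Fin n) → k) :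
    ∃ G : LefPen.Form r k d, LefDual.pform ι j₀ G ∈ P₀ ^ 2 ∧ jetOf b χ (algebraMap _ S (LefDual.pform ι i G)) = u := by
  refine exists_form_jet ι b χ σ P₀ hd hb ℓ₀ h₀ h₁ u fun v _ => ?_
  rcases hw with h3 | ⟨ℓ, hℓ, hjℓ⟩
  · exact ⟨secForm ι (i := i) χ σ v, Or.inr h3, jetOf_secForm ι (i := i) b χ σ hb v⟩
  · have hne : χ₀ (LefDual.pform ι j₀ ℓ) ≠ 0 := fun h => hℓ ((hχ₀ _).2 h)
    let c := χ₀ (LefDual.pform ι j₀ (secForm ι (i := i) χ σ v)) / χ₀ (LefDual.pform ι j₀ ℓ)
    refine ⟨secForm ι (i := i) χ σ v - c • ℓ, Or.inl ((hχ₀ _).2 ?_), ?_⟩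
    · rw [← pformL_apply, map_sub, map_smul, pformL_apply, pformL_apply, map_sub, map_smul, smul_eq_mul,
        div_mul_cancel₀ _ hne, sub_self]
    · rw [← pformL_apply, map_sub, map_smul, pformL_apply, pformL_apply, map_sub, Algebra.smul_def, map_mul,
        ← IsScalarTower.algebraMap_apply, ← Algebra.smul_def, map_sub, map_smul, hjℓ, smul_zero, sub_zero,
        jetOf_secForm ι (i := i) b χ σ hb]

end Jets

end Groth.Agent.LefPencil
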